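import Cfsg.Agent.Lib.Coprime.Sylow
import Mathlib.GroupTheory.Frattini

/-!
# Coprime action: commutators

* `commutator_sup_centralizer`: `K = [K,A] C_K(A)`; `commutator_commutator_eq`: `[K,A,A] = [K,A]`;
* `le_centralizer_of_commutator_le_centralizer`: if `A` centralises `[K,A]`, it centralises `K`;
* `inf_centralizer_inf_commutator_eq_bot`: the splitting of an abelian `V`;
* `le_centralizer_of_frattini`: trivial on `K/Φ(K)` implies trivial on `K`;
* `exists_mul_of_mul`: `C_{XY}(A) = C_X(A) C_Y(A)`;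
* `commutator_lt_of_isPGroup`, `le_centralizer_of_pq`: Thompson's `P × Q` lemma.
-/

namespace Cfsg.Agent.Coprime

open scoped Pointwise commutatorElement
open Subgroup

section NoFinite

variable {G : Type*} [Group G]

theorem commutator_le_left_of_le_normalizer {A K : Subgroup G} (h : A ≤ normalizer (K : Set G)) :
    ⁅K, A⁆ ≤ K :=
  le_normalizer_iff_commutator_le_left.1 h

theorem le_centralizer_iff_commutator_eq_bot {A K : Subgroup G} :
    A ≤ centralizer (K : Set G) ↔ ⁅K, A⁆ = ⊥ := by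
  rw [commutator_comm, commutator_eq_bot_iff_le_centralizer]

/-- Every conjugate of an element of `K` differs from it by an element of `[K, A]`. -/
theorem inv_mul_conj_mem_commutator {A K : Subgroup G} {k a : G} (hk : k ∈ K) (ha : a ∈ A) :
    k⁻¹ * a * k * a⁻¹ ∈ ⁅K, A⁆ := by
  have := commutator_mem_commutator (K.inv_mem hk) ha
  rwa [commutatorElement_def, inv_inv] at this

/-- If `C` centralises `A` and normalises `M`, then it normalises `[M, A]`. -/
theorem le_normalizer_commutator {A M C : Subgroup G} (hM : C ≤ normalizer (M : Set G))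
    (hA : C ≤ centralizer (A : Set G)) : C ≤ normalizer ((⁅M, A⁆ : Subgroup G) : Set G) := by
  intro c hc
  refine mem_normalizer_of_conj_smul_eq ?_
  have h1 : MulAut.conj c • A = A :=
    conj_smul_eq_self_of_mem (centralizer_le_normalizer _ (hA hc))
  have h2 : MulAut.conj c • M = M := conj_smul_eq_self_of_mem (hM hc)
  have h3 := map_commutator M A (MulAut.conj c).toMonoidHom
  show Subgroup.map (MulAut.conj c).toMonoidHom ⁅M, A⁆ = _
  rw [h3]
  exact congrArg₂ (fun X Y => ⁅X, Y⁆) h2 h1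

end NoFinite

variable {G : Type*} [Group G] [Finite G] {A K : Subgroup G}

/-- `K = [K, A] C_K(A)`, element form. -/
theorem exists_centralizer_mul_commutator (hAK : A ≤ normalizer (K : Set G))
    (hcop : (Nat.card A).Coprime (Nat.card K))
    (hs : Group.IsSolvable A ∨ Group.IsSolvable K) {k : G} (hk : k ∈ K) :
    ∃ c ∈ K ⊓ centralizer (A : Set G), ∃ m ∈ ⁅K, A⁆, k = c * m := by
  obtain ⟨c, hc, hcN⟩ := exists_mem_inf_centralizer_leftCoset
    (normalizer_commutator_ge_right K A) (commutator_le_left_of_le_normalizer hAK) hcop hs hk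
    (fun a ha => inv_mul_conj_mem_commutator hk ha)
  exact ⟨c, hc, (k⁻¹ * c)⁻¹, inv_mem hcN, by group⟩

/-- `K = [K, A] C_K(A)`. -/
theorem commutator_sup_centralizer (hAK : A ≤ normalizer (K : Set G))
    (hcop : (Nat.card A).Coprime (Nat.card K))
    (hs : Group.IsSolvable A ∨ Group.IsSolvable K) :
    ⁅K, A⁆ ⊔ (K ⊓ centralizer (A : Set G)) = K := by
  refine le_antisymm (sup_le (commutator_le_left_of_le_normalizer hAK) inf_le_left) fun k hk => ?_
  obtain ⟨c, hc, m, hm, rfl⟩ := exists_centralizer_mul_commutator hAK hcop hs hk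
  exact mul_mem (mem_sup_right hc) (mem_sup_left hm)

/-- `[K, A, A] = [K, A]`. -/
theorem commutator_commutator_eq (hAK : A ≤ normalizer (K : Set G))
    (hcop : (Nat.card A).Coprime (Nat.card K))
    (hs : Group.IsSolvable A ∨ Group.IsSolvable K) :
    ⁅⁅K, A⁆, A⁆ = ⁅K, A⁆ := by
  refine le_antisymm (commutator_mono (commutator_le_left_of_le_normalizer hAK) le_rfl) ?_
  refine commutator_le.2 fun k hk a ha => ?_
  obtain ⟨c, hc, m, hm, rfl⟩ := exists_centralizer_mul_commutator hAK hcop hs hk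
  have hn := le_normalizer_commutator (A := A) (M := ⁅K, A⁆) (C := K ⊓ centralizer (A : Set G))
    (inf_le_left.trans (normalizer_commutator_ge_left K A)) inf_le_right
  have hca : ⁅c, a⁆ = 1 := commutatorElement_eq_one_iff_mul_comm.2
    ((mem_centralizer_iff.1 hc.2 a ha).symm)
  rw [commutatorElement_mul_left_eq_conj_mul, hca, mul_one]
  exact (mem_normalizer_iff.1 (hn hc) _).1 (commutator_mem_commutator hm ha)

/-- If `A` centralises `[K, A]`, then it centralises `K`. -/
theorem le_centralizer_of_commutator_le_centralizer (hAK : A ≤ normalizer (K : Set G))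
    (hcop : (Nat.card A).Coprime (Nat.card K))
    (hs : Group.IsSolvable A ∨ Group.IsSolvable K)
    (h : A ≤ centralizer ((⁅K, A⁆ : Subgroup G) : Set G)) : A ≤ centralizer (K : Set G) := by
  rw [le_centralizer_iff_commutator_eq_bot] at h ⊢
  rwa [commutator_commutator_eq hAK hcop hs] at h

/-- `A` fixes no nontrivial element of `[V, A]` for an abelian `V`. -/
theorem inf_centralizer_inf_commutator_eq_bot {V : Subgroup G} [IsMulCommutative V]
    (hAV : A ≤ normalizer (V : Set G)) (hcop : (Nat.card A).Coprime (Nat.card V)) :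
    (V ⊓ centralizer (A : Set G)) ⊓ ⁅V, A⁆ = ⊥ := by
  classical
  have := Fintype.ofFinite A
  open scoped IsMulCommutative in
  have key : ∃ θ : G → V, θ 1 = 1 ∧ (∀ x ∈ V, ∀ y ∈ V, θ (x * y) = θ x * θ y) ∧
      (∀ v ∈ V, ∀ b ∈ A, θ ⁅v, b⁆ = 1) ∧
      ∀ v ∈ V ⊓ centralizer (A : Set G), θ v = 1 → v = 1 := by
    let f : A → G → V := fun a x =>
      if h : x ∈ V then ⟨a * x * (a : G)⁻¹, (mem_normalizer_iff.1 (hAV a.2) x).1 h⟩ else 1
    let θ : G → V := fun x => ∏ a : A, f a x
    have hmul : ∀ x ∈ V, ∀ y ∈ V, θ (x * y) = θ x * θ y := by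
      intro x hx y hy
      simp only [θ, ← Finset.prod_mul_distrib]
      refine Finset.prod_congr rfl fun a _ => ?_
      simp only [f, dif_pos hx, dif_pos hy, dif_pos (mul_mem hx hy)]
      ext
      simp [mul_assoc]
    have h1 : θ 1 = 1 := by
      refine Finset.prod_eq_one fun a _ => ?_
      simp only [f, dif_pos V.one_mem]
      ext
      simp
    refine ⟨θ, h1, hmul, fun v hv b hb => ?_, fun v hv hθ => ?_⟩
    · have hbv : b * v⁻¹ * b⁻¹ ∈ V := (mem_normalizer_iff.1 (hAV hb) _).1 (inv_mem hv)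
      rw [show ⁅v, b⁆ = v * (b * v⁻¹ * b⁻¹) by rw [commutatorElement_def]; group,
        hmul v hv _ hbv]
      have h2 : θ (b * v⁻¹ * b⁻¹) = θ v⁻¹ := by
        refine Fintype.prod_equiv (Equiv.mulRight (⟨b, hb⟩ : A)) _ _ fun a => ?_
        simp only [f, dif_pos hbv, dif_pos (inv_mem hv), Equiv.coe_mulRight]
        ext
        simp [mul_assoc]
      rw [h2, ← hmul v hv _ (inv_mem hv), mul_inv_cancel, h1]
    · have h2 : θ v = ⟨v, hv.1⟩ ^ Nat.card A := by
        rw [Nat.card_eq_fintype_card, ← Finset.card_univ, ← Finset.prod_const]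
        refine Finset.prod_congr rfl fun a _ => ?_
        ext
        have hv1 : v ∈ V := hv.1
        simp [f, hv1, mem_centralizer_iff.1 hv.2 a a.2]
      rw [hθ] at h2
      have h3 : orderOf (⟨v, hv.1⟩ : V) ∣ Nat.card A := orderOf_dvd_of_pow_eq_one h2.symm
      exact congrArg Subtype.val (orderOf_eq_one_iff.1
        (Nat.eq_one_of_dvd_coprimes hcop h3 (orderOf_dvd_natCard _)))
  obtain ⟨θ, h1, hmul, hcomm, hfix⟩ := key
  refine (Subgroup.eq_bot_iff_forall _).2 fun v hv => hfix v hv.1 ?_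
  have hv' : v ∈ ⁅V, A⁆ := hv.2
  suffices ∀ x ∈ ⁅V, A⁆, x ∈ V ∧ θ x = 1 from (this v hv').2
  intro x hx
  rw [Subgroup.commutator_def] at hx
  induction hx using Subgroup.closure_induction with
  | mem x hx =>
      obtain ⟨g₁, hg₁, g₂, hg₂, rfl⟩ := hx
      exact ⟨commutator_le_left_of_le_normalizer hAV (commutator_mem_commutator hg₁ hg₂),
        hcomm g₁ hg₁ g₂ hg₂⟩
  | one => exact ⟨one_mem V, h1⟩
  | mul x y _ _ hx hy =>
      exact ⟨mul_mem hx.1 hy.1, by rw [hmul x hx.1 y hy.1, hx.2, hy.2, mul_one]⟩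
  | inv x _ hx =>
      refine ⟨inv_mem hx.1, ?_⟩
      have := hmul x hx.1 x⁻¹ (inv_mem hx.1)
      rwa [mul_inv_cancel, h1, hx.2, one_mul, eq_comm] at this

/-- A coprime `A` centralising all elements of prime order of an abelian `V` centralises `V`. -/
theorem le_centralizer_of_prime_order {V : Subgroup G} [IsMulCommutative V]
    (hAV : A ≤ normalizer (V : Set G)) (hcop : (Nat.card A).Coprime (Nat.card V))
    (h : ∀ v ∈ V, (orderOf v).Prime → ∀ a ∈ A, a * v = v * a) : A ≤ centralizer (V : Set G) := by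
  rw [le_centralizer_iff_commutator_eq_bot]
  by_contra hne
  have hcard : Nat.card (⁅V, A⁆ : Subgroup G) ≠ 1 := fun hh => hne (Subgroup.card_eq_one.1 hh)
  obtain ⟨p, hp, hpd⟩ := Nat.exists_prime_and_dvd hcard
  have := Fact.mk hp
  obtain ⟨v, hv⟩ := exists_prime_orderOf_dvd_card' p hpd
  rw [← orderOf_coe] at hv
  have hvV : (v : G) ∈ V := commutator_le_left_of_le_normalizer hAV v.2
  have hmem : (v : G) ∈ (V ⊓ centralizer (A : Set G)) ⊓ ⁅V, A⁆ :=
    ⟨⟨hvV, mem_centralizer_iff.2 fun a ha => h v hvV (hv.symm ▸ hp) a ha⟩, v.2⟩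
  rw [inf_centralizer_inf_commutator_eq_bot hAV hcop, mem_bot] at hmem
  rw [hmem, orderOf_one] at hv
  exact hp.ne_one hv.symm

/-- If `A` acts trivially on `K / Φ(K)` and `(|A|, |Φ(K)|) = 1`, then `A` centralises `K`. -/
theorem le_centralizer_of_frattini (hAK : A ≤ normalizer (K : Set G))
    (hcop : (Nat.card A).Coprime (Nat.card (frattini K)))
    (htriv : ∀ a ∈ A, ∀ k ∈ K, a * k * a⁻¹ * k⁻¹ ∈ (frattini K).map K.subtype) :
    A ≤ centralizer (K : Set G) := by
  intro a ha
  rw [mem_centralizer_iff]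
  set Φ := (frattini K).map K.subtype with hΦ
  have hΦK : Φ ≤ K := map_subtype_le _
  have hKΦ : K ≤ normalizer (Φ : Set G) := by
    have := le_normalizer_map (H := frattini K) K.subtype
    rw [normalizer_eq_top, ← MonoidHom.range_eq_map, range_subtype] at this
    exact this
  have hAΦ : A ≤ normalizer (Φ : Set G) := by
    rw [le_normalizer_iff_commutator_le_right]
    exact commutator_le.2 fun b hb k hk => htriv b hb k (hΦK hk)
  let B := zpowers a
  have hBA : B ≤ A := zpowers_le.2 ha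
  have hfix : ∀ k ∈ K, ∃ n ∈ Φ, k * n ∈ centralizer (B : Set G) := by
    intro k hk
    refine exists_mul_mem_centralizer (hBA.trans hAΦ) ?_
      (Or.inl (Group.isSolvable_of_comm fun x y => mul_comm' x y)) fun b hb => ?_
    · exact (hcop.coprime_dvd_left (card_dvd_of_le hBA)).coprime_dvd_right
        (card_map_dvd (frattini K) _)
    · have h1 := htriv b (hBA hb) k hk
      have h2 := (mem_normalizer_iff.1 (hKΦ (inv_mem hk)) _).1 h1
      simpa [mul_assoc] using h2
  have htop : (centralizer (B : Set G)).subgroupOf K = ⊤ := by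
    refine frattini_nongenerating ?_
    refine top_unique fun k _ => ?_
    obtain ⟨n, hn, hc⟩ := hfix k k.2
    have hn' : (⟨n, hΦK hn⟩ : K) ∈ frattini K := by
      obtain ⟨y, hy, hyn⟩ := id hn
      rwa [show (⟨n, hΦK ⟨y, hy, hyn⟩⟩ : K) = y from Subtype.ext hyn.symm]
    rw [show k = (k * ⟨n, hΦK hn⟩) * (⟨n, hΦK hn⟩ : K)⁻¹ by group]
    exact mul_mem (mem_sup_left hc) (mem_sup_right (inv_mem hn'))
  intro k hk
  have : (⟨k, hk⟩ : K) ∈ (centralizer (B : Set G)).subgroupOf K := htop ▸ mem_top _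
  exact (mem_centralizer_iff.1 this a (mem_zpowers a)).symm

/-- `C_{XY}(A) ⊆ C_X(A) C_Y(A)`. -/
theorem exists_mul_of_mul (hcop : (Nat.card A).Coprime (Nat.card K))
    (hs : Group.IsSolvable A ∨ Group.IsSolvable K) {X Y : Subgroup G} (hX : X ≤ K)
    (hXA : A ≤ normalizer (X : Set G)) (hYA : A ≤ normalizer (Y : Set G)) {x y : G}
    (hx : x ∈ X) (hy : y ∈ Y) (hxy : x * y ∈ centralizer (A : Set G)) :
    ∃ x' ∈ X ⊓ centralizer (A : Set G), ∃ y' ∈ Y ⊓ centralizer (A : Set G),
      x * y = x' * y' := by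
  obtain ⟨n, hn, hc⟩ := exists_mul_mem_centralizer (A := A) (N := X ⊓ Y) (k := x)
    (le_normalizer_inf_of_le hXA hYA)
    (hcop.coprime_dvd_right (card_dvd_of_le (inf_le_left.trans hX)))
    (hs.imp_right (isSolvable_of_le (inf_le_left.trans hX))) fun a ha => by
      refine mem_inf.2 ⟨?_, ?_⟩
      · rw [mul_assoc, mul_assoc]
        refine mul_mem (inv_mem hx) ?_
        rw [← mul_assoc]
        exact (mem_normalizer_iff.1 (hXA ha) x).1 hx
      · have h1 := mem_centralizer_iff.1 hxy a ha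
        have h2 : a * y⁻¹ * a⁻¹ ∈ Y := (mem_normalizer_iff.1 (hYA ha) _).1 (inv_mem hy)
        have h3 := mul_mem hy h2
        convert h3 using 1
        calc x⁻¹ * a * x * a⁻¹ = x⁻¹ * (a * (x * y)) * (y⁻¹ * a⁻¹) := by group
          _ = x⁻¹ * ((x * y) * a) * (y⁻¹ * a⁻¹) := by rw [h1]
          _ = y * (a * y⁻¹ * a⁻¹) := by group
  refine ⟨x * n, ⟨mul_mem hx hn.1, hc⟩, n⁻¹ * y,
    mem_inf.2 ⟨Y.mul_mem (Y.inv_mem hn.2) hy, ?_⟩, by group⟩
  have := (centralizer (A : Set G)).mul_mem ((centralizer (A : Set G)).inv_mem hc) hxy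
  convert this using 1
  group

/-- A nontrivial `p`-group moves under a `p`-group only into a proper subgroup. -/
theorem commutator_lt_of_isPGroup {p : ℕ} [Fact p.Prime] {P U : Subgroup G} (hP : IsPGroup p P)
    (hU : IsPGroup p U) (hPU : P ≤ normalizer (U : Set G)) (hne : U ≠ ⊥) : ⁅U, P⁆ < U := by
  refine lt_of_le_of_ne (commutator_le_left_of_le_normalizer hPU) fun he => hne ?_
  let S : Subgroup G := P ⊔ U
  have hS : IsPGroup p S := hP.to_sup_of_normal_right' hU hPU
  have : Group.IsNilpotent S := hS.isNilpotent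
  have hle : ∀ n, U ≤ S.lowerCentralSeries n := by
    intro n
    induction n with
    | zero => exact le_sup_right
    | succ n ih => exact he.ge.trans (commutator_mono ih le_sup_left)
  obtain ⟨n, hn⟩ := Subgroup.nilpotent_iff_lowerCentralSeries.1 this
  have h1 : S.lowerCentralSeries n = ⊥ := by
    rw [← Subgroup.top_subtype_lowerCentralSeries, hn, Subgroup.map_bot]
  have := hle n
  rwa [h1, le_bot_iff] at this

/-- **Thompson's `P × Q` lemma.** -/
theorem le_centralizer_of_pq {p : ℕ} [Fact p.Prime] {P Q U : Subgroup G} (hP : IsPGroup p P)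
    (hQ : (Nat.card Q).Coprime p) (hU : IsPGroup p U) (hPQ : P ≤ centralizer (Q : Set G))
    (hPU : P ≤ normalizer (U : Set G)) (hQU : Q ≤ normalizer (U : Set G))
    (hC : U ⊓ centralizer (P : Set G) ≤ centralizer (Q : Set G)) :
    Q ≤ centralizer (U : Set G) := by
  induction hn : Nat.card U using Nat.strong_induction_on generalizing U with
  | _ n ih =>
    by_cases hne : U = ⊥
    · subst hne
      intro x _
      rw [mem_centralizer_iff]
      intro y hy
      rw [SetLike.mem_coe, mem_bot] at hy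
      simp [hy]
    have hlt := commutator_lt_of_isPGroup hP hU hPU hne
    have hPQ' : Q ≤ centralizer (P : Set G) := le_centralizer_iff.1 hPQ
    have hcard : Nat.card (⁅U, P⁆ : Subgroup G) < n := by
      rw [← hn]
      by_contra h
      exact hlt.ne (Subgroup.eq_of_le_of_card_ge hlt.le (not_lt.1 h))
    have hQN : Q ≤ normalizer ((⁅U, P⁆ : Subgroup G) : Set G) :=
      le_normalizer_commutator hQU hPQ'
    have hT : Q ≤ centralizer ((⁅U, P⁆ : Subgroup G) : Set G) :=
      ih _ hcard (hU.to_le hlt.le) (normalizer_commutator_ge_right U P) hQN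
        ((inf_le_inf_right _ hlt.le).trans hC) rfl
    -- three subgroups lemma: `P` centralises `[U, Q]`
    have h1 : ⁅⁅P, Q⁆, U⁆ = ⊥ := by
      rw [commutator_eq_bot_iff_le_centralizer.2 hPQ, commutator_bot_left]
    have h2 : ⁅⁅U, P⁆, Q⁆ = ⊥ := le_centralizer_iff_commutator_eq_bot.1 hT
    have h3 : ⁅⁅Q, U⁆, P⁆ = ⊥ := commutator_commutator_eq_bot_of_rotate h2 h1
    have hUQ : ⁅U, Q⁆ ≤ U ⊓ centralizer (P : Set G) := by
      refine le_inf (commutator_le_left_of_le_normalizer hQU) ?_
      rw [commutator_comm]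
      exact commutator_eq_bot_iff_le_centralizer.1 h3
    obtain ⟨e, he⟩ := hU.exists_card_eq
    have hcopU : (Nat.card Q).Coprime (Nat.card U) := he ▸ hQ.pow_right e
    have : Group.IsNilpotent U := hU.isNilpotent
    exact le_centralizer_of_commutator_le_centralizer hQU hcopU (Or.inr inferInstance)
      (le_centralizer_iff.1 (hUQ.trans hC))

end Cfsg.Agent.Coprime
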