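import Cfsg.Agent.Lib.Coprime.Commutator
import Mathlib.Algebra.Field.ZMod

/-!
# Coprime action: generation by centralisers

For abelian `A` acting coprimely on `K`:
* `exists_inf_centralizer_ne_bot`: a noncyclic `A` fixes something nontrivial in an abelian `V`
  by a nontrivial element;
* `eq_of_forall_centralizer_le`, `iSup_centralizer_eq`: `K = ⟨C_K(a) : a ∈ A#⟩` for noncyclic `A`;
* `eq_of_forall_centralizer_le'`: relative form, for a subgroup `B₀` of `A` centralising `K`;
* `le_of_forall_cyclic_quotient`: `K = ⟨C_K(B) : A/B cyclic⟩`, and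
  `commutator_le_of_forall_cyclic_quotient` for `[K, A]`.
-/

namespace Cfsg.Agent.Coprime

open scoped Pointwise commutatorElement
open Subgroup

theorem exists_prime_pow_eq_one_not_mem_zpowers {Q : Type*} [CommGroup Q] [Finite Q]
    (h : ¬ IsCyclic Q) :
    ∃ q : ℕ, q.Prime ∧ ∃ a b : Q, a ^ q = 1 ∧ b ^ q = 1 ∧ a ≠ 1 ∧ b ∉ zpowers a := by
  classical
  by_contra hne
  push Not at hne
  have hprime : ∀ q : ℕ, q.Prime → Nat.card (powMonoidHom q : Q →* Q).ker ≤ q := by
    intro q hq
    by_cases hb : (powMonoidHom q : Q →* Q).ker = ⊥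
    · rw [hb, Subgroup.card_bot]; exact hq.one_lt.le
    · obtain ⟨⟨a, ha⟩, hx⟩ := Subgroup.ne_bot_iff_exists_ne_one.1 hb
      have ha1 : a ≠ 1 := fun h1 => hx (Subtype.ext h1)
      have hle : (powMonoidHom q : Q →* Q).ker ≤ zpowers a := fun b hb' =>
        hne q hq a b (by simpa using ha) (by simpa using hb') ha1
      refine (Subgroup.card_le_of_le hle).trans ?_
      rw [Nat.card_zpowers]
      exact Nat.le_of_dvd hq.pos (orderOf_dvd_of_pow_eq_one (by simpa using ha))
  have hall : ∀ n : ℕ, 0 < n → Nat.card (powMonoidHom n : Q →* Q).ker ≤ n := by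
    intro n
    induction n using induction_on_primes with
    | zero => simp
    | one =>
        intro _
        refine (Subgroup.card_eq_one.2 ?_).le
        ext; simp
    | prime_mul q m hq ih =>
        intro hm
        have hm' : 0 < m := Nat.pos_of_mul_pos_left hm
        let f : (powMonoidHom (q * m) : Q →* Q).ker →* Q :=
          (powMonoidHom q).comp (Subgroup.subtype _)
        have hr : f.range ≤ (powMonoidHom m : Q →* Q).ker := by
          rintro _ ⟨x, rfl⟩
          have := x.2
          simp only [MonoidHom.mem_ker, powMonoidHom_apply, pow_mul] at this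
          simpa [f] using this
        have hk : Nat.card f.ker ≤ Nat.card (powMonoidHom q : Q →* Q).ker :=
          Nat.card_le_card_of_injective
            (fun x => (⟨((x.1 : _) : Q), x.2⟩ : (powMonoidHom q : Q →* Q).ker))
            (fun x y hxy => Subtype.ext (Subtype.ext (congrArg Subtype.val hxy :)))
        rw [f.ker.card_eq_card_quotient_mul_card_subgroup,
          Nat.card_congr (QuotientGroup.quotientKerEquivRange f).toEquiv, Nat.mul_comm]
        exact Nat.mul_le_mul (hk.trans (hprime q hq))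
          ((Subgroup.card_le_of_le hr).trans (ih hm'))
  have := Fintype.ofFinite Q
  refine h (isCyclic_of_card_pow_eq_one_le fun n hn => ?_)
  refine le_trans (le_of_eq ?_) (hall n hn)
  rw [← Fintype.card_subtype, ← Nat.card_eq_fintype_card]
  exact Nat.card_congr (Equiv.subtypeEquivRight fun x : Q => by simp [MonoidHom.mem_ker])

variable {G : Type*} [Group G]

theorem le_normalizer_centralizer {A V : Subgroup G} (h : A ≤ normalizer (V : Set G)) :
    A ≤ normalizer ((centralizer (V : Set G) : Subgroup G) : Set G) := by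
  intro a ha
  rw [mem_normalizer_iff]
  intro z
  simp only [SetLike.mem_coe, mem_centralizer_iff]
  constructor
  · intro hz v hv
    have h1 := hz _ ((mem_normalizer_iff''.1 (h ha) v).1 hv)
    calc v * (a * z * a⁻¹) = a * ((a⁻¹ * v * a) * z) * a⁻¹ := by group
      _ = a * (z * (a⁻¹ * v * a)) * a⁻¹ := by rw [h1]
      _ = a * z * a⁻¹ * v := by group
  · intro hz v hv
    have h1 := hz _ ((mem_normalizer_iff.1 (h ha) v).1 hv)
    calc v * z = a⁻¹ * ((a * v * a⁻¹) * (a * z * a⁻¹)) * a := by group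
      _ = a⁻¹ * ((a * z * a⁻¹) * (a * v * a⁻¹)) * a := by rw [h1]
      _ = z * v := by group

variable [Finite G]

/-- If `A / B₀` is a noncyclic abelian group of operators of coprime order on `V ≠ 1` abelian,
then some element of `A` outside `B₀` fixes a nontrivial element of `V`. -/
theorem exists_inf_centralizer_ne_bot {A B₀ V : Subgroup G} [IsMulCommutative A]
    [IsMulCommutative V] (hB : B₀ ≤ A) (hBV : B₀ ≤ centralizer (V : Set G))
    (hnc : ∀ a ∈ A, B₀ ⊔ zpowers a ≠ A) (hAV : A ≤ normalizer (V : Set G))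
    (hcop : (Nat.card A).Coprime (Nat.card V)) (hV : V ≠ ⊥) :
    ∃ a ∈ A, a ∉ B₀ ∧ V ⊓ centralizer {a} ≠ ⊥ := by
  classical
  by_contra hne
  push Not at hne
  have hcyc : ¬ IsCyclic (A ⧸ B₀.subgroupOf A) := by
    rintro ⟨g, hg⟩
    obtain ⟨a, rfl⟩ := QuotientGroup.mk'_surjective _ g
    refine hnc a a.2 (le_antisymm (sup_le hB (zpowers_le.2 a.2)) fun x hx => ?_)
    obtain ⟨i, hi⟩ := hg (QuotientGroup.mk' _ ⟨x, hx⟩)
    simp only [QuotientGroup.mk'_apply, ← QuotientGroup.mk_zpow] at hi
    rw [QuotientGroup.eq] at hi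
    have h1 : ((a : G) ^ i)⁻¹ * x ∈ B₀ := by simpa [mem_subgroupOf] using hi
    have := mul_mem (mem_sup_right (zpow_mem (mem_zpowers (a : G)) i) : (a : G) ^ i ∈ B₀ ⊔ _)
      (mem_sup_left h1)
    simpa using this
  open scoped IsMulCommutative in
  have key : False := by
    obtain ⟨q, hq, a', b', ha, hb, ha1, hb1⟩ := exists_prime_pow_eq_one_not_mem_zpowers hcyc
    obtain ⟨a, rfl⟩ := QuotientGroup.mk'_surjective _ a'
    obtain ⟨b, rfl⟩ := QuotientGroup.mk'_surjective _ b'
    simp only [QuotientGroup.mk'_apply] at ha hb ha1 hb1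
    rw [← QuotientGroup.mk_pow, QuotientGroup.eq_one_iff, mem_subgroupOf] at ha hb
    rw [Ne, QuotientGroup.eq_one_iff, mem_subgroupOf] at ha1
    have := Fact.mk hq
    let conjV : A →* MulAut V := V.normalizerMonoidHom.comp (Subgroup.inclusion hAV)
    have hval : ∀ (x : A) (v : V), ((conjV x v : V) : G) = (x : G) * v * (x : G)⁻¹ :=
      fun _ _ => rfl
    have hB0 : ∀ x : A, (x : G) ∈ B₀ → ∀ v, conjV x v = v := by
      intro x hx v
      ext
      rw [hval, ← mem_centralizer_iff.1 (hBV hx) v v.2, mul_inv_cancel_right]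
    have hpow : ∀ (x : A), (x : G) ^ q ∈ B₀ → ∀ m n : ℕ, m % q = n % q →
        ∀ v, conjV (x ^ m) v = conjV (x ^ n) v := by
      intro x hx m n hmn v
      have h1 : ∀ m : ℕ, conjV (x ^ m) v = conjV (x ^ (m % q)) v := fun m => by
        conv_lhs => rw [← Nat.mod_add_div m q, pow_add, map_mul]
        show conjV (x ^ (m % q)) (conjV (x ^ (q * (m / q))) v) = _
        rw [hB0 (x ^ (q * (m / q))) (by simpa [pow_mul] using pow_mem hx _)]
      rw [h1, hmn, ← h1]
    -- every element outside `B₀` fixes only `1`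
    have hfree : ∀ x : A, (x : G) ∉ B₀ → ∀ v, conjV x v = v → v = 1 := by
      intro x hx v hv
      have h1 : (v : G) ∈ V ⊓ centralizer {(x : G)} := by
        refine mem_inf.2 ⟨v.2, mem_centralizer_singleton_iff.2 ?_⟩
        have := congrArg (fun w : V => (w : G)) hv
        simp only [hval] at this
        exact (mul_inv_eq_iff_eq_mul.1 this).symm
      rw [hne x x.2 hx, mem_bot] at h1
      exact Subtype.ext h1
    -- norm maps vanish
    have hnorm : ∀ x : A, (x : G) ∉ B₀ → (x : G) ^ q ∈ B₀ → ∀ v,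
        ∏ j : ZMod q, conjV (x ^ j.val) v = 1 := by
      intro x hx hxq v
      refine hfree x hx _ ?_
      rw [map_prod]
      refine Fintype.prod_equiv (Equiv.addRight (1 : ZMod q)) _ _ fun j => ?_
      rw [Equiv.coe_addRight]
      show (conjV x * conjV (x ^ j.val)) v = _
      rw [← map_mul, ← pow_succ']
      refine hpow x hxq _ _ ?_ v
      rw [ZMod.val_add, ZMod.val_one, Nat.mod_mod]
    have hab : ∀ i : ZMod q, ((a * b ^ i.val : A) : G) ∉ B₀ ∧
        ((a * b ^ i.val : A) : G) ^ q ∈ B₀ := by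
      intro i
      constructor
      · intro hi
        rcases eq_or_ne i 0 with rfl | hi0
        · exact ha1 (by simpa using hi)
        · refine hb1 ?_
          set π := QuotientGroup.mk' (B₀.subgroupOf A)
          have h1 : π (a * b ^ i.val) = 1 := (QuotientGroup.eq_one_iff _).2 hi
          rw [map_mul, map_pow, mul_eq_one_iff_eq_inv'] at h1
          have h2 : (π b) ^ i.val ∈ zpowers (π a) := h1 ▸ inv_mem (mem_zpowers _)
          have h3 : orderOf (π b) ∣ q := by
            refine orderOf_dvd_of_pow_eq_one ?_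
            rw [← map_pow]
            exact (QuotientGroup.eq_one_iff _).2 hb
          have hc : Nat.Coprime i.val (orderOf (π b)) := by
            refine Nat.Coprime.coprime_dvd_right h3 ?_
            exact (hq.coprime_iff_not_dvd.2 (Nat.not_dvd_of_pos_of_lt (Nat.pos_of_ne_zero
              fun h0 => hi0 ((ZMod.val_eq_zero i).1 h0)) (ZMod.val_lt i))).symm
          obtain ⟨m, hm⟩ := exists_pow_eq_self_of_coprime hc
          have h4 := pow_mem h2 m
          rw [hm] at h4
          exact h4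
      · have hcomm : Commute (a : G) ((b : G) ^ i.val) := by
          have := congrArg (fun x : A => (x : G)) (mul_comm a (b ^ i.val))
          simpa [Commute, SemiconjBy] using this
        simp only [Subgroup.coe_mul, Subgroup.coe_pow]
        rw [hcomm.mul_pow, ← pow_mul, mul_comm, pow_mul]
        exact mul_mem (by simpa using ha) (pow_mem (by simpa using hb) _)
    have hb0 : (b : G) ∉ B₀ := by
      intro h
      refine hb1 ?_
      rw [(QuotientGroup.eq_one_iff b).2 h]
      exact one_mem _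
    obtain ⟨v, hv⟩ := Subgroup.ne_bot_iff_exists_ne_one.1 hV
    have hbq : (b : G) ^ q ∈ B₀ := by simpa using hb
    have haq : (a : G) ^ q ∈ B₀ := by simpa using ha
    have h1 : ∏ j : ZMod q, ∏ i : ZMod q, conjV (a ^ j.val * b ^ (i * j).val) v = 1 := by
      rw [Finset.prod_comm]
      refine Finset.prod_eq_one fun i _ => ?_
      rw [← hnorm _ (hab i).1 (hab i).2 v]
      refine Finset.prod_congr rfl fun j _ => ?_
      rw [mul_pow, ← pow_mul, map_mul, map_mul]
      show conjV (a ^ j.val) (conjV (b ^ (i * j).val) v) =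
        conjV (a ^ j.val) (conjV (b ^ (i.val * j.val)) v)
      rw [hpow b hbq (i * j).val (i.val * j.val) (by rw [ZMod.val_mul, Nat.mod_mod])]
    have h2 : ∀ j : ZMod q, ∏ i : ZMod q, conjV (a ^ j.val * b ^ (i * j).val) v =
        if j = 0 then v ^ q else 1 := by
      intro j
      rcases eq_or_ne j 0 with rfl | hj
      · rw [if_pos rfl]
        simp [ZMod.card]
      · rw [if_neg hj]
        have : ∏ i : ZMod q, conjV (a ^ j.val * b ^ (i * j).val) v =
            conjV (a ^ j.val) (∏ i : ZMod q, conjV (b ^ i.val) v) := by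
          rw [map_prod]
          exact Fintype.prod_equiv (Equiv.mulRight₀ j hj) _ _ fun i => by
            rw [map_mul]; rfl
        rw [this, hnorm b hb0 hbq v, map_one]
    simp only [h2, Finset.prod_ite_eq', Finset.mem_univ, if_true] at h1
    have h3 : orderOf v ∣ q := orderOf_dvd_of_pow_eq_one h1
    rcases (Nat.dvd_prime hq).1 h3 with h4 | h4
    · exact hv (orderOf_eq_one_iff.1 h4)
    · have hqA : q ∣ Nat.card A := by
        have h5 : orderOf (QuotientGroup.mk' (B₀.subgroupOf A) b) ∣ q := by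
          refine orderOf_dvd_of_pow_eq_one ?_
          rw [← map_pow]
          exact (QuotientGroup.eq_one_iff _).2 hb
        rcases (Nat.dvd_prime hq).1 h5 with h6 | h6
        · exact absurd ((QuotientGroup.eq_one_iff b).1 (orderOf_eq_one_iff.1 h6)) hb0
        · exact h6 ▸ (orderOf_map_dvd _ b).trans (orderOf_dvd_natCard b)
      exact hq.ne_one (Nat.eq_one_of_dvd_coprimes hcop hqA (h4 ▸ orderOf_dvd_natCard v))
  exact key

omit [Finite G] in
theorem le_normalizer_iSup₂ {A : Subgroup G} {s : Set G} (f : G → Subgroup G)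
    (h : ∀ x ∈ s, A ≤ normalizer (f x : Set G)) :
    A ≤ normalizer ((⨆ x ∈ s, f x : Subgroup G) : Set G) := by
  intro a ha
  refine mem_normalizer_of_conj_smul_eq ?_
  show Subgroup.map (MulAut.conj a).toMonoidHom _ = _
  simp only [Subgroup.map_iSup]
  refine iSup_congr fun x => iSup_congr fun hx => ?_
  exact conj_smul_eq_self_of_mem (h x hx ha)

omit [Finite G] in
theorem le_normalizer_inf_centralizer_singleton {A K : Subgroup G} [IsMulCommutative A]
    (hAK : A ≤ normalizer (K : Set G)) {a : G} (ha : a ∈ A) :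
    A ≤ normalizer ((K ⊓ centralizer {a} : Subgroup G) : Set G) := by
  refine le_normalizer_inf_of_le hAK ?_
  refine LE.le.trans (b := centralizer {a}) ?_ le_normalizer
  exact fun x hx => mem_centralizer_singleton_iff.2
    (congrArg Subtype.val (mul_comm' (⟨x, hx⟩ : A) ⟨a, ha⟩))

/-- Generation by centralisers, relative form: if `B₀ ≤ A` centralises `K` and `A / B₀` is not
cyclic, then `K` is generated by the `C_K(a)`, `a ∈ A ∖ B₀`. -/
theorem eq_of_forall_centralizer_le' {A B₀ K S : Subgroup G} [IsMulCommutative A]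
    (hB : B₀ ≤ A) (hBK : B₀ ≤ centralizer (K : Set G))
    (hnc : ∀ a ∈ A, B₀ ⊔ zpowers a ≠ A) (hAK : A ≤ normalizer (K : Set G))
    (hcop : (Nat.card A).Coprime (Nat.card K)) (hSK : S ≤ K)
    (h : ∀ a ∈ A, a ∉ B₀ → K ⊓ centralizer {a} ≤ S) : S = K := by
  have hsA : Group.IsSolvable A := Group.isSolvable_of_comm fun x y => mul_comm' x y
  refine eq_of_forall_invariant_pgroup_le hAK hcop (Or.inl hsA) hSK fun p P hp hP hPK hPA => ?_
  have := Fact.mk hp
  let Q : Subgroup G := ⨆ a ∈ {a : G | a ∈ A ∧ a ∉ B₀}, P ⊓ centralizer {a}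
  have hQP : Q ≤ P := iSup₂_le fun a _ => inf_le_left
  have hQS : Q ≤ S := iSup₂_le fun a ha => (inf_le_inf_right _ hPK).trans (h a ha.1 ha.2)
  have hQA : A ≤ normalizer (Q : Set G) :=
    le_normalizer_iSup₂ (fun a => P ⊓ centralizer {a})
      fun a ha => le_normalizer_inf_centralizer_singleton hPA ha.1
  refine le_trans (le_of_eq ?_) hQS
  by_contra hne
  let W : Subgroup G := normalizer (Q : Set G)
  have hQW : Q ≤ W := le_normalizer
  have : (Q.subgroupOf W).Normal := normal_subgroupOf_of_le_normalizer le_rfl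
  let π := QuotientGroup.mk' (Q.subgroupOf W)
  let M : Subgroup G := P ⊓ W
  let M' : Subgroup (W ⧸ Q.subgroupOf W) := (M.subgroupOf W).map π
  let A' : Subgroup (W ⧸ Q.subgroupOf W) := (A.subgroupOf W).map π
  let B' : Subgroup (W ⧸ Q.subgroupOf W) := (B₀.subgroupOf W).map π
  let Z : Subgroup (W ⧸ Q.subgroupOf W) := M' ⊓ centralizer (M' : Set _)
  have hM'p : IsPGroup p M' := ((hP.to_le inf_le_left).comap_subtype).map π
  have hZcomm : IsMulCommutative Z :=
    ⟨⟨fun x y => Subtype.ext (mem_centralizer_iff.1 y.2.2 x x.2.1)⟩⟩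
  have hM'ne : M' ≠ ⊥ := by
    intro hbot
    rw [Subgroup.map_eq_bot_iff, QuotientGroup.ker_mk'] at hbot
    have hMQ : M ≤ Q := fun x hx => hbot (show (⟨x, hx.2⟩ : W) ∈ M.subgroupOf W from hx)
    have : Group.IsNilpotent P := hP.isNilpotent
    have hlt : Q.subgroupOf P < ⊤ :=
      lt_top_iff_ne_top.2 fun ht => hne (le_antisymm (subgroupOf_eq_top.1 ht) hQP)
    obtain ⟨x, hxN, hxQ⟩ :=
      SetLike.exists_of_lt (Group.normalizerCondition_of_isNilpotent _ hlt)
    refine hxQ (hMQ ⟨x.2, mem_normalizer_iff.2 fun y => ?_⟩)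
    constructor
    · intro hy
      exact (mem_normalizer_iff.1 hxN ⟨y, hQP hy⟩).1 hy
    · intro hy
      have h1 : ((x : G)⁻¹ * ((x : G) * y * (x : G)⁻¹) * x) ∈ Q :=
        (mem_normalizer_iff''.1 hxN ⟨_, hQP hy⟩).1 hy
      convert h1 using 1
      group
  have hZne : Z ≠ ⊥ := by
    have := (Subgroup.nontrivial_iff_ne_bot M').2 hM'ne
    intro hZ
    refine hM'p.bot_lt_center.ne' ((Subgroup.eq_bot_iff_forall _).2 fun z hz => ?_)
    have h1 : (z : W ⧸ Q.subgroupOf W) ∈ Z := by
      refine mem_inf.2 ⟨z.2, mem_centralizer_iff.2 fun y hy => ?_⟩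
      exact congrArg Subtype.val (Subgroup.mem_center_iff.1 hz ⟨y, hy⟩)
    rw [hZ, mem_bot] at h1
    exact Subtype.ext h1
  have hA' : IsMulCommutative A' := by
    refine ⟨⟨?_⟩⟩
    rintro ⟨-, x, hx, rfl⟩ ⟨-, y, hy, rfl⟩
    refine Subtype.ext ?_
    simp only [Subgroup.coe_mul, ← map_mul]
    congr 1
    exact Subtype.ext (congrArg (fun z : A => (z : G))
      (mul_comm' (⟨(x : G), hx⟩ : A) ⟨(y : G), hy⟩))
  have hA'M : A' ≤ normalizer (M' : Set (W ⧸ Q.subgroupOf W)) := by
    refine le_trans (map_mono (coe_normalizer_subgroupOf_le (N := M) inf_le_right ?_))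
      (le_normalizer_map π)
    exact le_normalizer_inf_of_le hPA (le_normalizer_normalizer hQA)
  have hdisj : ∀ x ∈ A, x ∈ Q → x = 1 := fun x hxA hxQ => by
    have h1 : x ∈ A ⊓ K := ⟨hxA, hPK (hQP hxQ)⟩
    rwa [disjoint_of_coprime_card hcop, mem_bot] at h1
  have hinj : ∀ x y : W, (x : G) ∈ A → (y : G) ∈ A → π x = π y → x = y := by
    intro x y hx hy hxy
    rw [QuotientGroup.mk'_apply, QuotientGroup.mk'_apply, QuotientGroup.eq, mem_subgroupOf] at hxy
    have := hdisj _ (A.mul_mem (A.inv_mem hx) hy) (by simpa using hxy)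
    rw [inv_mul_eq_one] at this
    exact Subtype.ext this
  have hnc' : ∀ a' ∈ A', B' ⊔ zpowers a' ≠ A' := by
    rintro _ ⟨a, ha, rfl⟩ heq
    refine hnc a ha (le_antisymm (sup_le hB (zpowers_le.2 ha)) fun x hx => ?_)
    have hxm : π ⟨x, hQA hx⟩ ∈ A' := mem_map_of_mem π (show (⟨x, hQA hx⟩ : W) ∈ A.subgroupOf W from hx)
    rw [← heq, show zpowers (π a) = (zpowers a).map π from (MonoidHom.map_zpowers π a).symm,
      ← Subgroup.map_sup] at hxm
    obtain ⟨y, hy, hyx⟩ := hxm
    have hle : B₀.subgroupOf W ⊔ zpowers a ≤ (B₀ ⊔ zpowers (a : G)).subgroupOf W :=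
      sup_le (fun z hz => mem_sup_left hz) (zpowers_le.2 (mem_sup_right (mem_zpowers _)))
    have hyA : (y : G) ∈ A := sup_le hB (zpowers_le.2 ha) (hle hy)
    have hy' := hinj y ⟨x, hQA hx⟩ hyA hx hyx
    subst hy'
    exact hle hy
  obtain ⟨a', ha', hab, hfix⟩ := exists_inf_centralizer_ne_bot (A := A') (B₀ := B') (V := Z)
    (map_mono fun x hx => hB hx) (by
      rintro _ ⟨b, hb, rfl⟩
      rw [mem_centralizer_iff]
      rintro _ ⟨⟨y, hy, rfl⟩, -⟩
      rw [← map_mul, ← map_mul]
      exact congrArg π (Subtype.ext (mem_centralizer_iff.1 (hBK hb) y (hPK hy.1))))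
    hnc' (le_normalizer_inf_of_le hA'M (le_normalizer_centralizer hA'M))
    (by
      refine (hcop.coprime_dvd_left ?_).coprime_dvd_right ?_
      · refine (card_map_dvd _ π).trans ?_
        rw [card_subgroupOf (show A ≤ W from hQA)]
      · refine (card_dvd_of_le (inf_le_left : Z ≤ M')).trans ((card_map_dvd _ π).trans ?_)
        rw [card_subgroupOf (inf_le_right : M ≤ W)]
        exact card_dvd_of_le (inf_le_left.trans hPK)) hZne
  obtain ⟨a, ha, rfl⟩ := ha'
  obtain ⟨⟨z', hz'⟩, hz1⟩ := Subgroup.ne_bot_iff_exists_ne_one.1 hfix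
  obtain ⟨k, hk, rfl⟩ := hz'.1.1
  have haB : (a : G) ∉ B₀ := fun hb => hab (mem_map_of_mem π hb)
  have hfixk : ∀ x ∈ zpowers (a : G), (k : G)⁻¹ * x * k * x⁻¹ ∈ Q := by
    intro x hx
    obtain ⟨i, rfl⟩ := hx
    have hc : Commute (π a) (π k) := (mem_centralizer_singleton_iff.1 hz'.2).symm
    have h1 : π (k⁻¹ * a ^ i * k * (a ^ i)⁻¹) = 1 := by
      simp only [map_mul, map_inv, map_zpow]
      rw [mul_assoc _ ((π a) ^ i), (hc.zpow_left i).eq]
      group
    have h2 := (QuotientGroup.eq_one_iff _).1 h1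
    simpa [mem_subgroupOf] using h2
  obtain ⟨n, hn, hc⟩ := exists_mul_mem_centralizer (A := zpowers (a : G))
    ((zpowers_le.2 (show (a : G) ∈ A from ha)).trans hQA)
    ((hcop.coprime_dvd_left (card_dvd_of_le (zpowers_le.2 (show (a : G) ∈ A from ha)))).coprime_dvd_right
      (card_dvd_of_le (hQP.trans hPK)))
    (Or.inl (Group.isSolvable_of_comm fun x y => mul_comm' x y)) hfixk
  have hknQ : (k : G) * n ∈ Q := by
    refine mem_iSup_of_mem (a : G) (mem_iSup_of_mem ⟨ha, haB⟩ ⟨P.mul_mem hk.1 (hQP hn), ?_⟩)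
    exact mem_centralizer_singleton_iff.2 (mem_centralizer_iff.1 hc _ (mem_zpowers _)).symm
  have hkQ : (k : G) ∈ Q := by simpa using Q.mul_mem hknQ (Q.inv_mem hn)
  exact hz1 (Subtype.ext ((QuotientGroup.eq_one_iff k).2 hkQ))

omit [Finite G] in
theorem bot_sup_zpowers_ne {A : Subgroup G} (hA : ¬ IsCyclic A) (a : G) :
    (⊥ : Subgroup G) ⊔ zpowers a ≠ A := by
  rw [bot_sup_eq]
  rintro rfl
  exact hA inferInstance

/-- `K` is generated by the centralisers of the nonidentity elements of a noncyclic abelian group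
of coprime operators. -/
theorem eq_of_forall_centralizer_le {A K S : Subgroup G} [IsMulCommutative A]
    (hA : ¬ IsCyclic A) (hAK : A ≤ normalizer (K : Set G))
    (hcop : (Nat.card A).Coprime (Nat.card K)) (hSK : S ≤ K)
    (h : ∀ a ∈ A, a ≠ 1 → K ⊓ centralizer {a} ≤ S) : S = K :=
  eq_of_forall_centralizer_le' bot_le bot_le (fun a _ => bot_sup_zpowers_ne hA a) hAK hcop hSK
    fun a ha ha1 => h a ha fun h1 => ha1 (mem_bot.2 h1)

theorem iSup_centralizer_eq {A K : Subgroup G} [IsMulCommutative A]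
    (hA : ¬ IsCyclic A) (hAK : A ≤ normalizer (K : Set G))
    (hcop : (Nat.card A).Coprime (Nat.card K)) :
    (⨆ a ∈ {a : G | a ∈ A ∧ a ≠ 1}, K ⊓ centralizer {a}) = K :=
  eq_of_forall_centralizer_le hA hAK hcop (iSup₂_le fun _ _ => inf_le_left)
    fun a ha ha1 => le_iSup₂ (f := fun b (_ : b ∈ {a : G | a ∈ A ∧ a ≠ 1}) => K ⊓ centralizer {b})
      a ⟨ha, ha1⟩

/-- `K = ⟨C_K(B) : A/B cyclic⟩`. -/
theorem le_of_forall_cyclic_quotient {A K S : Subgroup G} [IsMulCommutative A]
    (hAK : A ≤ normalizer (K : Set G)) (hcop : (Nat.card A).Coprime (Nat.card K))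
    (h : ∀ B ≤ A, (∃ a ∈ A, B ⊔ zpowers a = A) → K ⊓ centralizer (B : Set G) ≤ S) : K ≤ S := by
  suffices H : ∀ m, ∀ B₀ L : Subgroup G, Nat.card A - Nat.card B₀ = m → B₀ ≤ A → L ≤ K →
      A ≤ normalizer (L : Set G) → B₀ ≤ centralizer (L : Set G) → L ≤ S from
    H _ ⊥ K rfl bot_le le_rfl hAK bot_le
  intro m
  induction m using Nat.strong_induction_on with
  | _ m ih =>
    intro B₀ L hm hB hLK hLA hBL
    by_cases hc : ∃ a ∈ A, B₀ ⊔ zpowers a = A
    · exact (le_inf hLK (le_centralizer_iff.1 hBL)).trans (h B₀ hB hc)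
    push Not at hc
    have hcopL : (Nat.card A).Coprime (Nat.card L) :=
      hcop.coprime_dvd_right (card_dvd_of_le hLK)
    have := eq_of_forall_centralizer_le' (S := L ⊓ S) hB hBL hc hLA hcopL inf_le_left
      fun a ha haB => by
        refine le_inf inf_le_left ?_
        have hB1 : B₀ ⊔ zpowers a ≤ A := sup_le hB (zpowers_le.2 ha)
        have hlt : Nat.card B₀ < Nat.card (B₀ ⊔ zpowers a : Subgroup G) := by
          by_contra hle
          exact haB ((Subgroup.eq_of_le_of_card_ge le_sup_left (not_lt.1 hle)).ge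
            (mem_sup_right (mem_zpowers a)))
        have hle := Subgroup.card_le_of_le hB1
        refine ih _ (by omega) (B₀ ⊔ zpowers a) _ rfl hB1 (inf_le_left.trans hLK)
          (le_normalizer_inf_centralizer_singleton hLA ha) (sup_le ?_ (zpowers_le.2 ?_))
        · exact hBL.trans (centralizer_le inf_le_left)
        · exact mem_centralizer_iff.2 fun x hx => mem_centralizer_singleton_iff.1 hx.2
    exact inf_eq_left.1 this

/-- `[K, A] = ⟨[C_K(B), A] : A/B cyclic⟩`. -/
theorem commutator_le_of_forall_cyclic_quotient {A K S : Subgroup G} [IsMulCommutative A]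
    (hAK : A ≤ normalizer (K : Set G)) (hcop : (Nat.card A).Coprime (Nat.card K))
    (h : ∀ B ≤ A, (∃ a ∈ A, B ⊔ zpowers a = A) → ⁅K ⊓ centralizer (B : Set G), A⁆ ≤ S) :
    ⁅K, A⁆ ≤ S := by
  classical
  have hsA : Group.IsSolvable A := Group.isSolvable_of_comm fun x y => mul_comm' x y
  set M := ⁅K, A⁆ with hM
  have hMK : M ≤ K := commutator_le_left_of_le_normalizer hAK
  have hMA : A ≤ normalizer (M : Set G) := normalizer_commutator_ge_right K A
  have hcopM : (Nat.card A).Coprime (Nat.card M) := hcop.coprime_dvd_right (card_dvd_of_le hMK)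
  let s : Set (Subgroup G) := {B | B ≤ A ∧ ∃ a ∈ A, B ⊔ zpowers a = A}
  let H : Subgroup G := ⨆ B ∈ s, ⁅M ⊓ centralizer (B : Set G), A⁆
  let C : Subgroup G := M ⊓ centralizer (A : Set G)
  have hCH : C ≤ normalizer (H : Set G) := by
    intro c hc
    refine mem_normalizer_of_conj_smul_eq ?_
    show Subgroup.map (MulAut.conj c).toMonoidHom _ = _
    simp only [H, Subgroup.map_iSup]
    refine iSup_congr fun B => iSup_congr fun hB => ?_
    refine conj_smul_eq_self_of_mem (le_normalizer_commutator ?_ inf_le_right hc)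
    refine le_normalizer_inf_of_le (inf_le_left.trans le_normalizer) ?_
    exact (inf_le_right.trans (centralizer_le hB.1)).trans le_normalizer
  have hAH : A ≤ normalizer (H : Set G) := by
    intro a ha
    refine mem_normalizer_of_conj_smul_eq ?_
    show Subgroup.map (MulAut.conj a).toMonoidHom _ = _
    simp only [H, Subgroup.map_iSup]
    exact iSup_congr fun B => iSup_congr fun _ => conj_smul_eq_self_of_mem (normalizer_commutator_ge_right _ A ha)
  have hgen : M ≤ H ⊔ C := by
    refine le_of_forall_cyclic_quotient hMA hcopM fun B hB hcyc => ?_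
    have hBA : A ≤ normalizer ((M ⊓ centralizer (B : Set G) : Subgroup G) : Set G) := by
      refine le_normalizer_inf_of_le hMA (le_trans ?_ le_normalizer)
      refine fun x hx => mem_centralizer_iff.2 fun y hy => ?_
      exact congrArg (fun z : A => (z : G)) (mul_comm' (⟨y, hB hy⟩ : A) ⟨x, hx⟩)
    have hcB : (Nat.card A).Coprime (Nat.card (M ⊓ centralizer (B : Set G) : Subgroup G)) :=
      hcopM.coprime_dvd_right (card_dvd_of_le inf_le_left)
    refine (commutator_sup_centralizer hBA hcB (Or.inl hsA)).ge.trans (sup_le ?_ ?_)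
    · exact le_sup_of_le_left (le_iSup₂ (f := fun B (_ : B ∈ s) => ⁅M ⊓ centralizer (B : Set G), A⁆) B ⟨hB, hcyc⟩)
    · exact le_sup_of_le_right (inf_le_inf_right _ inf_le_left)
  have hMH : ⁅M, A⁆ ≤ H := by
    refine commutator_le.2 fun m hm a ha => ?_
    obtain ⟨x, hx, c, hc, rfl⟩ := (mem_sup_iff_of_le_normalizer' hCH).1 (by
      rw [sup_comm]; exact hgen hm)
    have hca : ⁅c, a⁆ = 1 := commutatorElement_eq_one_iff_mul_comm.2
      ((mem_centralizer_iff.1 hc.2 a ha).symm)
    rw [commutatorElement_mul_left_eq_conj_mul, hca, mul_one, mul_inv_cancel, one_mul,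
      commutatorElement_def, mul_assoc x a, mul_assoc x]
    exact H.mul_mem hx ((mem_normalizer_iff.1 (hAH ha) _).1 (H.inv_mem hx))
  rw [hM, ← commutator_commutator_eq hAK hcop (Or.inl hsA)]
  exact hMH.trans (iSup₂_le fun B hB =>
    (commutator_mono (inf_le_inf_right _ hMK) le_rfl).trans (h B hB.1 hB.2))

end Cfsg.Agent.Coprime
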