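import Cfsg.Agent.Lib.Coprime.Basic
import Mathlib.GroupTheory.Nilpotent

/-!
# Coprime action: invariant Sylow subgroups

* `exists_invariant_sylow`: existence;
* `exists_centralizer_smul_sylow`: any two are conjugate under `C_K(A)`;
* `exists_invariant_sylow_ge`: every invariant `p`-subgroup lies in an invariant one;
* `eq_of_forall_invariant_pgroup_le`: invariant `p`-subgroups generate.
-/

namespace Cfsg.Agent.Coprime

open scoped Pointwise
open Subgroup

variable {G : Type*} [Group G]

theorem mem_normalizer_of_conj_smul_eq {g : G} {H : Subgroup G} (h : MulAut.conj g • H = H) :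
    g ∈ normalizer (H : Set G) := by
  rw [mem_normalizer_iff]
  intro x
  conv_rhs => rw [← h, mem_conj_smul_iff]
  exact iff_of_eq (congrArg (· ∈ H) (by group))

theorem le_normalizer_inf_of_le {A H K : Subgroup G} (hH : A ≤ normalizer (H : Set G))
    (hK : A ≤ normalizer (K : Set G)) : A ≤ normalizer ((H ⊓ K : Subgroup G) : Set G) :=
  fun _ ha => inf_normalizer_le_normalizer_inf ⟨hH ha, hK ha⟩

theorem le_normalizer_normalizer {A U : Subgroup G} (hA : A ≤ normalizer (U : Set G)) :
    A ≤ normalizer ((normalizer (U : Set G) : Subgroup G) : Set G) :=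
  hA.trans le_normalizer

/-- An element normalising `U` and `K` normalises `N_K(U)`. -/
theorem le_normalizer_inf_normalizer {A U K : Subgroup G} (hK : A ≤ normalizer (K : Set G))
    (hA : A ≤ normalizer (U : Set G)) :
    A ≤ normalizer ((K ⊓ normalizer (U : Set G) : Subgroup G) : Set G) :=
  le_normalizer_inf_of_le hK (le_normalizer_normalizer hA)

theorem map_subtype_sylow_le {p : ℕ} {K : Subgroup G} (P : Sylow p K) :
    (P : Subgroup K).map K.subtype ≤ K :=
  map_subtype_le _

variable [Finite G]

/-- For `a` normalising `K`, the `a`-conjugate of a Sylow subgroup of `K` is a `K`-conjugate. -/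
theorem exists_mem_conj_sylow_eq {K : Subgroup G} {p : ℕ} [Fact p.Prime] (P : Sylow p K) {a : G}
    (ha : a ∈ normalizer (K : Set G)) :
    ∃ k ∈ K, MulAut.conj k • (P : Subgroup K).map K.subtype =
      MulAut.conj a • (P : Subgroup K).map K.subtype := by
  set P' := (P : Subgroup K).map K.subtype with hP'
  have hle : MulAut.conj a • P' ≤ K := by
    rw [← conj_smul_eq_self_of_mem ha]
    exact Subgroup.pointwise_smul_le_pointwise_smul_iff.2 (map_subtype_sylow_le P)
  let Q : Sylow p K := Sylow.ofCard ((MulAut.conj a • P').subgroupOf K) (by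
    rw [card_subgroupOf hle, card_conj_smul, hP', card_map_of_injective K.subtype_injective]
    exact P.card_eq_multiplicity)
  obtain ⟨k, hk⟩ := MulAction.exists_smul_eq K P Q
  refine ⟨k, k.2, ?_⟩
  have h1 := congrArg (fun T : Sylow p K => (T : Subgroup K).map K.subtype) hk
  rw [Sylow.coe_subgroup_smul, map_conj_smul] at h1
  rw [hP']
  exact h1.trans (map_subgroupOf_eq_of_le hle)

variable {A K : Subgroup G}

/-- There is an `A`-invariant Sylow `p`-subgroup. -/
theorem exists_invariant_sylow (hAK : A ≤ normalizer (K : Set G))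
    (hcop : (Nat.card A).Coprime (Nat.card K))
    (hs : Group.IsSolvable A ∨ Group.IsSolvable K) (p : ℕ) [Fact p.Prime] :
    ∃ P : Sylow p K, A ≤ normalizer (((P : Subgroup K).map K.subtype : Subgroup G) : Set G) := by
  let P₀ : Sylow p K := default
  set P' := (P₀ : Subgroup K).map K.subtype with hP'
  obtain ⟨k, hk, hkA⟩ := exists_conj_le_of_le_mul (W := normalizer (P' : Set G)) hAK hcop hs
    (by
      intro a ha
      obtain ⟨k, hk, hka⟩ := exists_mem_conj_sylow_eq P₀ (hAK ha)
      refine ⟨k, hk, mem_normalizer_of_conj_smul_eq ?_⟩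
      rw [← conj_smul_smul, ← hka, conj_smul_smul, inv_mul_cancel, map_one, one_smul])
  refine ⟨(⟨k, hk⟩ : K) • P₀, fun a ha => mem_normalizer_of_conj_smul_eq ?_⟩
  have h1 := hkA ha
  rw [mem_conj_smul_iff] at h1
  have h2 := conj_smul_eq_self_of_mem h1
  rw [Sylow.coe_subgroup_smul, map_conj_smul, K.coe_subtype, conj_smul_smul, ← hP']
  rw [show a * k = k * (k⁻¹ * a * k) by group, ← conj_smul_smul, h2]

/-- Two `A`-invariant Sylow subgroups are conjugate under `C_K(A)`. -/
theorem exists_centralizer_smul_sylow (hAK : A ≤ normalizer (K : Set G))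
    (hcop : (Nat.card A).Coprime (Nat.card K))
    (hs : Group.IsSolvable A ∨ Group.IsSolvable K) {p : ℕ} [Fact p.Prime] (P Q : Sylow p K)
    (hP : A ≤ normalizer (((P : Subgroup K).map K.subtype : Subgroup G) : Set G))
    (hQ : A ≤ normalizer (((Q : Subgroup K).map K.subtype : Subgroup G) : Set G)) :
    ∃ c : K, (c : G) ∈ centralizer (A : Set G) ∧ c • P = Q := by
  set P' := (P : Subgroup K).map K.subtype with hP'
  obtain ⟨k, hk⟩ := MulAction.exists_smul_eq K P Q
  have hkQ : (Q : Subgroup K).map K.subtype = MulAut.conj (k : G) • P' := by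
    rw [← hk, Sylow.coe_subgroup_smul, map_conj_smul, K.coe_subtype]
  have hmem : ∀ a ∈ A, (k : G)⁻¹ * a * k * a⁻¹ ∈ K ⊓ normalizer (P' : Set G) := by
    intro a ha
    refine mem_inf.2 ⟨?_, ?_⟩
    · rw [mul_assoc, mul_assoc]
      refine mul_mem (inv_mem k.2) ?_
      rw [← mul_assoc]
      exact (mem_normalizer_iff.1 (hAK ha) k).1 k.2
    · refine mul_mem (mem_normalizer_of_conj_smul_eq ?_) (inv_mem (hP ha))
      have h1 := conj_smul_eq_self_of_mem (hQ ha)
      rw [hkQ, conj_smul_smul] at h1
      rw [mul_assoc, ← conj_smul_smul, h1, conj_smul_smul, inv_mul_cancel, map_one, one_smul]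
  obtain ⟨c, hc, hcN⟩ := exists_mem_inf_centralizer_leftCoset
    (le_normalizer_inf_normalizer hAK hP) inf_le_left hcop hs k.2 hmem
  refine ⟨⟨c, hc.1⟩, hc.2, Sylow.ext (map_injective K.subtype_injective ?_)⟩
  rw [hkQ, Sylow.coe_subgroup_smul, map_conj_smul, K.coe_subtype]
  calc MulAut.conj c • P' = MulAut.conj ((k : G) * ((k : G)⁻¹ * c)) • P' := by
        rw [mul_inv_cancel_left]
    _ = _ := by rw [← conj_smul_smul, conj_smul_eq_self_of_mem hcN.2]

/-- Every `A`-invariant `p`-subgroup of `K` lies in an `A`-invariant Sylow `p`-subgroup. -/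
theorem exists_invariant_sylow_ge (hAK : A ≤ normalizer (K : Set G))
    (hcop : (Nat.card A).Coprime (Nat.card K))
    (hs : Group.IsSolvable A ∨ Group.IsSolvable K) {p : ℕ} [Fact p.Prime] {U : Subgroup G}
    (hUK : U ≤ K) (hU : IsPGroup p U) (hUA : A ≤ normalizer (U : Set G)) :
    ∃ P : Sylow p K, U ≤ (P : Subgroup K).map K.subtype ∧
      A ≤ normalizer (((P : Subgroup K).map K.subtype : Subgroup G) : Set G) := by
  induction hn : Nat.card K - Nat.card U using Nat.strong_induction_on generalizing U with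
  | _ n ih =>
    set N := K ⊓ normalizer (U : Set G) with hN
    have hUN : U ≤ N := le_inf hUK le_normalizer
    obtain ⟨Q, hQA⟩ := exists_invariant_sylow (le_normalizer_inf_normalizer hAK hUA)
      (hcop.coprime_dvd_right (card_dvd_of_le inf_le_left))
      (hs.imp_right (isSolvable_of_le inf_le_left)) p
    set Q' := (Q : Subgroup N).map N.subtype with hQ'
    have hQN : Q' ≤ N := map_subtype_le _
    have hUQ : U ≤ Q' := by
      have h1 : IsPGroup p (U ⊔ Q' : Subgroup G) :=
        hU.to_sup_of_normal_left' (Q.2.map _) (hQN.trans inf_le_right)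
      have h2 : (Q : Subgroup N) ≤ (U ⊔ Q').subgroupOf N := by
        intro x hx
        exact mem_sup_right ⟨x, hx, rfl⟩
      have h3 := Q.3 (h1.comap_subtype) h2
      intro u hu
      have : (⟨u, hUN hu⟩ : N) ∈ (Q : Subgroup N) := h3 ▸ mem_sup_left hu
      exact ⟨_, this, rfl⟩
    rcases hUQ.eq_or_lt with heq | hlt
    · obtain ⟨S, hS⟩ := (hU.comap_subtype : IsPGroup p (U.subgroupOf K)).exists_le_sylow
      have hSU : (S : Subgroup K) = U.subgroupOf K := by
        by_contra hne
        have hlt : U.subgroupOf K < (S : Subgroup K) := lt_of_le_of_ne hS (Ne.symm hne)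
        have : Group.IsNilpotent (S : Subgroup K) := S.2.isNilpotent
        have hlt' : (U.subgroupOf K).subgroupOf (S : Subgroup K) < ⊤ := by
          rw [lt_top_iff_ne_top, Ne, subgroupOf_eq_top]
          exact not_le_of_gt hlt
        obtain ⟨x, hxN, hxU⟩ := SetLike.exists_of_lt
          (Group.normalizerCondition_of_isNilpotent _ hlt')
        set xG : G := ((x : K) : G) with hxG
        have hxn : xG ∈ normalizer (U : Set G) := by
          rw [mem_normalizer_iff]
          intro u
          constructor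
          · intro hu
            have h1 := (mem_normalizer_iff.1 hxN ⟨⟨u, hUK hu⟩, hS hu⟩).1 hu
            exact h1
          · intro hu
            have hu' : (xG⁻¹ * (xG * u * xG⁻¹) * xG) ∈ U := by
              have h1 := (mem_normalizer_iff''.1 hxN ⟨⟨_, hUK hu⟩, hS hu⟩).1 hu
              exact h1
            convert hu' using 1
            group
        set T := U ⊔ zpowers xG with hT
        have hTN : T ≤ N := sup_le hUN (zpowers_le.2 ⟨(x : K).2, hxn⟩)
        have hTp : IsPGroup p T := by
          refine ((S.2.map K.subtype) : IsPGroup p ((S : Subgroup K).map K.subtype)).to_le ?_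
          refine sup_le (fun u hu => ⟨⟨u, hUK hu⟩, hS hu, rfl⟩) (zpowers_le.2 ?_)
          exact ⟨(x : K), x.2, rfl⟩
        have h2 : (Q : Subgroup N) ≤ T.subgroupOf N := by
          intro y hy
          exact mem_sup_left (heq.ge ⟨y, hy, rfl⟩)
        have h3 := Q.3 (hTp.comap_subtype) h2
        have hxQ : (⟨xG, ⟨(x : K).2, hxn⟩⟩ : N) ∈ (Q : Subgroup N) :=
          h3 ▸ mem_sup_right (mem_zpowers xG)
        exact hxU (heq.ge ⟨_, hxQ, rfl⟩ : xG ∈ U)
      have hmap : (S : Subgroup K).map K.subtype = U := by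
        rw [hSU, map_subgroupOf_eq_of_le hUK]
      exact ⟨S, hmap.ge, hmap.symm ▸ hUA⟩
    · have hlt' : Nat.card U < Nat.card Q' := by
        by_contra h
        exact hlt.ne (Subgroup.eq_of_le_of_card_ge hUQ (not_lt.1 h))
      have hle : Nat.card Q' ≤ Nat.card K := Subgroup.card_le_of_le (hQN.trans inf_le_left)
      obtain ⟨P, hP, hPA⟩ := ih _ (by omega) (hQN.trans inf_le_left) (Q.2.map _) hQA rfl
      exact ⟨P, hUQ.trans hP, hPA⟩

/-- Invariant `p`-subgroups (all primes `p`) generate `K`. -/
theorem eq_of_forall_invariant_pgroup_le (hAK : A ≤ normalizer (K : Set G))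
    (hcop : (Nat.card A).Coprime (Nat.card K))
    (hs : Group.IsSolvable A ∨ Group.IsSolvable K) {S : Subgroup G} (hSK : S ≤ K)
    (h : ∀ (p : ℕ) (P : Subgroup G), p.Prime → IsPGroup p P → P ≤ K →
      A ≤ normalizer (P : Set G) → P ≤ S) : S = K := by
  refine Subgroup.eq_of_le_of_card_ge hSK (Nat.le_of_dvd Nat.card_pos ?_)
  refine (Nat.dvd_iff_prime_pow_dvd_dvd _ _).2 fun p k hp hdvd => ?_
  have := Fact.mk hp
  obtain ⟨P, hP⟩ := exists_invariant_sylow hAK hcop hs p
  have h1 := card_dvd_of_le (h p _ hp (P.2.map _) (map_subtype_sylow_le P) hP)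
  rw [card_map_of_injective K.subtype_injective, P.card_eq_multiplicity] at h1
  refine (pow_dvd_pow p ?_).trans h1
  exact (hp.pow_dvd_iff_le_factorization Nat.card_pos.ne').1 hdvd

end Cfsg.Agent.Coprime
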