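import Cfsg.Agent.Lib.Coprime.Quotient
import Mathlib.GroupTheory.SemidirectProduct

/-!
# Coprime action by automorphisms

The results of this area for an action `φ : A →* MulAut K`, through the semidirect product.
Use `K` in `K ⋊[φ] A` as `(inl : K →* _).range` and `A` as `inr.range`; the lemmas below
translate the hypotheses and the conclusions.

* `fixedBy φ` : the subgroup of fixed points;
* `exists_invariant_sylow_hom`, `exists_fixed_smul_sylow_hom`, `exists_fixed_mul_mem_hom`,
  `eq_top_of_forall_fixedBy_le`.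
-/

namespace Cfsg.Agent.Coprime

open scoped Pointwise commutatorElement
open Subgroup SemidirectProduct

variable {A K : Type*} [Group A] [Group K] (φ : A →* MulAut K)

/-- The fixed-point subgroup of an action by automorphisms. -/
def fixedBy : Subgroup K where
  carrier := {k | ∀ a, φ a k = k}
  one_mem' := fun a => map_one _
  mul_mem' := fun {x y} hx hy a => by rw [map_mul, hx a, hy a]
  inv_mem' := fun {x} hx a => by rw [map_inv, hx a]

theorem mem_fixedBy {k : K} : k ∈ fixedBy φ ↔ ∀ a, φ a k = k := Iff.rfl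

theorem inr_range_le_normalizer_map_inl {S : Subgroup K} (hS : ∀ a, ∀ x ∈ S, φ a x ∈ S) :
    (inr : A →* K ⋊[φ] A).range ≤ normalizer ((S.map inl : Subgroup (K ⋊[φ] A)) : Set _) := by
  rintro _ ⟨a, rfl⟩
  rw [mem_normalizer_iff]
  intro x
  constructor
  · rintro ⟨k, hk, rfl⟩
    exact ⟨φ a k, hS a k hk, by rw [inl_aut, map_inv]⟩
  · rintro ⟨k, hk, hkx⟩
    refine ⟨φ a⁻¹ k, hS _ k hk, ?_⟩
    rw [inl_aut, hkx]
    simp only [map_inv, inv_inv]
    group

theorem inr_range_le_normalizer_inl_range :
    (inr : A →* K ⋊[φ] A).range ≤ normalizer (((inl : K →* K ⋊[φ] A).range : Subgroup _) : Set _) := by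
  have := inr_range_le_normalizer_map_inl φ (S := ⊤) (fun _ _ _ => trivial)
  rwa [← MonoidHom.range_eq_map] at this

theorem forall_apply_mem_of_le_normalizer {S : Subgroup K}
    (h : (inr : A →* K ⋊[φ] A).range ≤ normalizer ((S.map inl : Subgroup (K ⋊[φ] A)) : Set _))
    (a : A) {x : K} (hx : x ∈ S) : φ a x ∈ S := by
  obtain ⟨y, hy, hyx⟩ := (mem_normalizer_iff.1 (h ⟨a, rfl⟩) (inl x)).1 ⟨x, hx, rfl⟩
  rw [← map_inv, ← inl_aut, inl_inj] at hyx
  exact hyx ▸ hy

theorem inl_mem_centralizer_iff {k : K} :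
    (inl k : K ⋊[φ] A) ∈ centralizer (((inr : A →* K ⋊[φ] A).range : Subgroup _) : Set _) ↔
      k ∈ fixedBy φ := by
  rw [mem_centralizer_iff, mem_fixedBy]
  constructor
  · intro h a
    apply (inl_injective (φ := φ))
    rw [inl_aut, h _ ⟨a, rfl⟩, map_inv, mul_inv_cancel_right]
  · rintro h _ ⟨a, rfl⟩
    conv_rhs => rw [← h a, inl_aut, map_inv, inv_mul_cancel_right]

theorem card_inl_range : Nat.card (inl : K →* K ⋊[φ] A).range = Nat.card K :=
  (Nat.card_congr (MonoidHom.ofInjective inl_injective).toEquiv).symm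

theorem card_inr_range : Nat.card (inr : A →* K ⋊[φ] A).range = Nat.card A :=
  (Nat.card_congr (MonoidHom.ofInjective inr_injective).toEquiv).symm

theorem coprime_inr_inl (hcop : (Nat.card A).Coprime (Nat.card K)) :
    (Nat.card (inr : A →* K ⋊[φ] A).range).Coprime (Nat.card (inl : K →* K ⋊[φ] A).range) := by
  rwa [card_inl_range, card_inr_range]

theorem isSolvable_inr_or_inl (hs : Group.IsSolvable A ∨ Group.IsSolvable K) :
    Group.IsSolvable (inr : A →* K ⋊[φ] A).range ∨
      Group.IsSolvable (inl : K →* K ⋊[φ] A).range := by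
  refine hs.imp (fun h => ?_) fun h => ?_
  · have := h
    exact Group.isSolvable_of_surjective (inr : A →* K ⋊[φ] A).rangeRestrict_surjective
  · have := h
    exact Group.isSolvable_of_surjective (inl : K →* K ⋊[φ] A).rangeRestrict_surjective

variable [Finite A] [Finite K]

theorem finite_semidirectProduct : Finite (K ⋊[φ] A) :=
  Finite.of_equiv _ SemidirectProduct.equivProd.symm

/-- A coset `k N` (with `N` invariant) fixed by `A` contains a fixed point. -/
theorem exists_fixed_mul_mem_hom {N : Subgroup K} (hN : ∀ a, ∀ x ∈ N, φ a x ∈ N)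
    (hcop : (Nat.card A).Coprime (Nat.card N)) (hs : Group.IsSolvable A ∨ Group.IsSolvable N)
    {k : K} (hk : ∀ a, k⁻¹ * φ a k ∈ N) : ∃ n ∈ N, k * n ∈ fixedBy φ := by
  have := finite_semidirectProduct φ
  have hsN : Group.IsSolvable (inr : A →* K ⋊[φ] A).range ∨
      Group.IsSolvable (N.map (inl : K →* K ⋊[φ] A)) := by
    refine hs.imp (fun h => ?_) (fun h => isSolvable_map _ N h)
    have := h
    exact Group.isSolvable_of_surjective (inr : A →* K ⋊[φ] A).rangeRestrict_surjective
  obtain ⟨_, ⟨n, hn, rfl⟩, hc⟩ := exists_mul_mem_centralizer (k := (inl k : K ⋊[φ] A))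
    (inr_range_le_normalizer_map_inl φ hN)
    (by rwa [card_inr_range, card_map_of_injective inl_injective]) hsN (by
      rintro _ ⟨a, rfl⟩
      refine ⟨k⁻¹ * φ a k, hk a, ?_⟩
      rw [map_mul, map_inv, inl_aut, map_inv]
      group)
  rw [← map_mul, inl_mem_centralizer_iff] at hc
  exact ⟨n, hn, hc⟩

/-- Existence of an invariant Sylow subgroup. -/
theorem exists_invariant_sylow_hom (hcop : (Nat.card A).Coprime (Nat.card K))
    (hs : Group.IsSolvable A ∨ Group.IsSolvable K) (p : ℕ) [Fact p.Prime] :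
    ∃ P : Sylow p K, ∀ a, ∀ x ∈ (P : Subgroup K), φ a x ∈ (P : Subgroup K) := by
  have := finite_semidirectProduct φ
  obtain ⟨P', hP'⟩ := exists_invariant_sylow (inr_range_le_normalizer_inl_range φ)
    (coprime_inr_inl φ hcop) (isSolvable_inr_or_inl φ hs) p
  set S := (P' : Subgroup (inl : K →* K ⋊[φ] A).range).map (Subgroup.subtype _) with hS
  have hSle : S ≤ (inl : K →* K ⋊[φ] A).range := map_subtype_le _
  let P₀ : Subgroup K := S.comap inl
  have hmap : P₀.map inl = S := Subgroup.map_comap_eq_self hSle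
  have hcard : Nat.card P₀ = p ^ (Nat.card K).factorization p := by
    rw [← card_map_of_injective (inl_injective (φ := φ)), hmap, hS,
      card_map_of_injective (Subgroup.subtype_injective _), P'.card_eq_multiplicity,
      card_inl_range]
  refine ⟨Sylow.ofCard P₀ hcard, fun a x hx => ?_⟩
  exact forall_apply_mem_of_le_normalizer φ (S := P₀) (by rw [hmap]; exact hP') a hx

/-- Two invariant Sylow subgroups are conjugate by a fixed point. -/
theorem exists_fixed_smul_sylow_hom (hcop : (Nat.card A).Coprime (Nat.card K))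
    (hs : Group.IsSolvable A ∨ Group.IsSolvable K) {p : ℕ} [Fact p.Prime] (P Q : Sylow p K)
    (hP : ∀ a, ∀ x ∈ (P : Subgroup K), φ a x ∈ (P : Subgroup K))
    (hQ : ∀ a, ∀ x ∈ (Q : Subgroup K), φ a x ∈ (Q : Subgroup K)) :
    ∃ c ∈ fixedBy φ, c • P = Q := by
  obtain ⟨k, hk⟩ := MulAction.exists_smul_eq K P Q
  have hstab : ∀ {a : A} {x : K}, x ∈ normalizer ((P : Subgroup K) : Set K) →
      φ a x ∈ normalizer ((P : Subgroup K) : Set K) := by
    intro a x hx
    rw [mem_normalizer_iff]
    intro y
    have hy : ∀ z, z ∈ (P : Subgroup K) ↔ φ a z ∈ (P : Subgroup K) := fun z =>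
      ⟨hP a z, fun h => by simpa using hP a⁻¹ _ h⟩
    obtain ⟨y, rfl⟩ := (φ a).surjective y
    simp only [SetLike.mem_coe, ← map_inv, ← map_mul, ← hy]
    exact mem_normalizer_iff.1 hx y
  obtain ⟨n, hn, hc⟩ := exists_fixed_mul_mem_hom φ (N := normalizer ((P : Subgroup K) : Set K))
    (fun a x hx => hstab hx) (hcop.coprime_dvd_right (card_subgroup_dvd_card _))
    (hs.imp_right fun h => by
      have := h
      exact Group.isSolvable_of_isSolvable_injective (Subgroup.subtype_injective _)) (k := k) (by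
      intro a
      refine mem_normalizer_of_conj_smul_eq ?_
      have hQk : MulAut.conj k • (P : Subgroup K) = Q := by
        rw [← hk, Sylow.coe_subgroup_smul]
      have hQa : MulAut.conj (φ a k) • (P : Subgroup K) = Q := by
        refine Subgroup.eq_of_le_of_card_ge ?_ ?_
        · intro y hy
          rw [mem_conj_smul_iff] at hy
          have h1 := hP a⁻¹ _ hy
          have h2 : k⁻¹ * φ a⁻¹ y * k ∈ (P : Subgroup K) := by
            simpa [map_mul, map_inv] using h1
          have h3 : φ a⁻¹ y ∈ (Q : Subgroup K) := by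
            rw [← hQk, mem_conj_smul_iff]; exact h2
          simpa using hQ a _ h3
        · rw [card_conj_smul, P.card_eq_multiplicity, Q.card_eq_multiplicity]
      rw [← conj_smul_smul, hQa, ← hQk, conj_smul_smul, inv_mul_cancel, map_one, one_smul])
  refine ⟨k * n, hc, ?_⟩
  rw [mul_smul, Sylow.smul_eq_iff_mem_normalizer.2 hn, hk]

/-- Generation by fixed points of nonidentity elements of a noncyclic abelian group. -/
theorem eq_top_of_forall_fixedBy_le {A : Type*} [CommGroup A] [Finite A] (φ : A →* MulAut K)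
    (hA : ¬ IsCyclic A) (hcop : (Nat.card A).Coprime (Nat.card K)) {S : Subgroup K}
    (h : ∀ a : A, a ≠ 1 → ∀ k, φ a k = k → k ∈ S) : S = ⊤ := by
  have := finite_semidirectProduct φ
  have hc : IsMulCommutative (inr : A →* K ⋊[φ] A).range :=
    ⟨⟨by
      rintro ⟨-, a, rfl⟩ ⟨-, b, rfl⟩
      refine Subtype.ext ?_
      simp only [Subgroup.coe_mul, ← map_mul, mul_comm a b]⟩⟩
  have hA' : ¬ IsCyclic (inr : A →* K ⋊[φ] A).range := fun hcy =>
    hA (isCyclic_of_surjective (MonoidHom.ofInjective (f := (inr : A →* K ⋊[φ] A)) inr_injective).symm.toMonoidHom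
      (MulEquiv.surjective _))
  have := eq_of_forall_centralizer_le (S := S.map inl) hA' (inr_range_le_normalizer_inl_range φ)
    (coprime_inr_inl φ hcop) (map_le_range _ S) ?_
  · rwa [MonoidHom.range_eq_map, (map_injective inl_injective).eq_iff] at this
  · rintro _ ⟨a, rfl⟩ ha _ ⟨⟨k, rfl⟩, hk⟩
    refine mem_map_of_mem inl (h a (fun h1 => ha (by rw [h1, map_one])) k ?_)
    apply (inl_injective (φ := φ))
    rw [inl_aut, ← mem_centralizer_singleton_iff.1 hk, map_inv, mul_inv_cancel_right]

end Cfsg.Agent.Coprime
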