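import Mathlib

/-! Elementary facts on an element `a` moving `h` by a fixed translation `z`. -/

namespace Cfsg.Agent.Coprime

variable {G : Type*} [Group G]

/-- If `a h a⁻¹ = z h` with `a` fixing `z`, then `a ^ k` moves `h` by `z ^ k`. -/
theorem conj_pow_eq_translate {a h z : G} (h1 : a * h * a⁻¹ = z * h) (h2 : Commute a z) :
    ∀ k : ℕ, a ^ k * h * (a ^ k)⁻¹ = z ^ k * h := by
  intro k
  induction k with
  | zero => simp
  | succ k ih =>
    have e : a ^ (k + 1) * h * (a ^ (k + 1))⁻¹ = a * (a ^ k * h * (a ^ k)⁻¹) * a⁻¹ := by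
      rw [pow_succ']; group
    rw [e, ih, pow_succ z k]
    calc a * (z ^ k * h) * a⁻¹ = (a * z ^ k) * h * a⁻¹ := by group
      _ = z ^ k * (a * h * a⁻¹) := by rw [(h2.pow_right k).eq]; group
      _ = z ^ k * z * h := by rw [h1]; group

/-- If `a h a⁻¹ = z h` with `a` fixing `z` and the orders of `a` and `z` coprime, then `a` fixes `h`. -/
theorem commute_of_translate {a h z : G} (h1 : a * h * a⁻¹ = z * h) (h2 : Commute a z)
    (hc : (orderOf a).Coprime (orderOf z)) : Commute a h := by
  have hk := conj_pow_eq_translate h1 h2 (orderOf a)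
  rw [pow_orderOf_eq_one] at hk
  have hz : z ^ orderOf a = 1 := by simpa using hk
  have hd : orderOf z ∣ orderOf a := orderOf_dvd_of_pow_eq_one hz
  have h1' : orderOf z = 1 := (Nat.eq_one_of_dvd_coprimes hc hd dvd_rfl)
  rw [orderOf_eq_one_iff] at h1'
  rw [h1', one_mul, mul_inv_eq_iff_eq_mul] at h1
  exact h1

/-- Coprime orders of subgroups give coprime orders of elements. -/
theorem orderOf_coprime_of_mem {A B : Subgroup G} {a b : G} (ha : a ∈ A) (hb : b ∈ B)
    (h : (Nat.card A).Coprime (Nat.card B)) : (orderOf a).Coprime (orderOf b) :=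
  Nat.Coprime.coprime_dvd_left (Subgroup.orderOf_dvd_natCard A ha)
    (Nat.Coprime.coprime_dvd_right (Subgroup.orderOf_dvd_natCard B hb) h)

end Cfsg.Agent.Coprime
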