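import Mathlib
import Cfsg.Agent.Lib.Coprime.Stabilize
import Cfsg.Agent.Lib.PGroup.Frattini

/-! For `p` odd, a `p'`-group acting on a `p`-group and fixing its elements of order `p` acts trivially. -/

namespace Cfsg.Agent.Coprime

open scoped commutatorElement

variable {G : Type*} [Group G]

private theorem pow_mul_comm_central {x y c : G} (h : y * x = c * x * y) (hx : Commute c x)
    (hy : Commute c y) : ∀ n : ℕ, y ^ n * x = c ^ n * x * y ^ n := by
  intro n
  induction n with
  | zero => simp
  | succ n ih =>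
    calc y ^ (n + 1) * x = y * (y ^ n * x) := by rw [pow_succ', mul_assoc]
      _ = (y * c ^ n) * x * y ^ n := by rw [ih]; group
      _ = c ^ n * (y * x) * y ^ n := by rw [← (hy.pow_left n).eq]; group
      _ = c ^ (n + 1) * x * y ^ (n + 1) := by rw [h, pow_succ, pow_succ']; simp only [mul_assoc]

private theorem mul_pow_central {x y c : G} (h : y * x = c * x * y) (hx : Commute c x)
    (hy : Commute c y) : ∀ n : ℕ, (x * y) ^ n = c ^ (n.choose 2) * x ^ n * y ^ n := by
  intro n
  induction n with
  | zero => simp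
  | succ n ih =>
    have h1 := pow_mul_comm_central h hx hy n
    calc (x * y) ^ (n + 1) = c ^ (n.choose 2) * x ^ n * (y ^ n * x) * y := by rw [pow_succ, ih]; group
      _ = c ^ (n.choose 2) * (x ^ n * c ^ n) * x * (y ^ n * y) := by rw [h1]; group
      _ = c ^ (n.choose 2) * (c ^ n * x ^ n) * x * (y ^ n * y) := by rw [((hx.pow_pow n n).symm).eq]
      _ = _ := by
        rw [Nat.choose_succ_succ, Nat.choose_one_right, add_comm n, pow_add c, pow_succ x, pow_succ y]
        simp only [mul_assoc]

variable [Finite G]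

/-- For `p` odd: if `A` normalizes the `p`-group `H`, has order prime to `p` and centralizes every
`x ∈ H` with `x ^ p = 1`, then `A` centralizes `H`. -/
theorem le_centralizer_of_fix_pow_eq_one {p : ℕ} [hpF : Fact p.Prime] (hp : p ≠ 2) (H A : Subgroup G)
    (hH : IsPGroup p H) (hA : A ≤ Subgroup.normalizer (H : Set G)) (hcop : (Nat.card A).Coprime p)
    (hfix : ∀ x ∈ H, x ^ p = 1 → A ≤ Subgroup.centralizer ({x} : Set G)) :
    A ≤ Subgroup.centralizer (H : Set G) := by
  induction hn : Nat.card H using Nat.strong_induction_on generalizing H with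
  | _ n ih =>
  subst hn
  rcases eq_or_ne H ⊥ with rfl | hne
  · intro a _
    simp [Subgroup.mem_centralizer_iff]
  have hcop' : (Nat.card A).Coprime (Nat.card H) := by
    obtain ⟨k, hk⟩ := hH.exists_card_eq
    rw [hk]
    exact hcop.pow_right k
  have hconjH : ∀ a ∈ A, ∀ x ∈ H, a * x * a⁻¹ ∈ H := fun a ha x hx =>
    (Subgroup.mem_normalizer_iff.mp (hA ha) x).mp hx
  have recur : ∀ K : Subgroup G, K < H → A ≤ Subgroup.normalizer (K : Set G) →
      ∀ a ∈ A, ∀ x ∈ K, Commute a x := by
    intro K hK hAK a ha x hx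
    have hc : Nat.card K < Nat.card H := by
      refine lt_of_le_of_ne (Subgroup.card_le_of_le hK.le) fun h => hK.ne ?_
      exact Subgroup.eq_of_le_of_card_ge hK.le h.ge
    have := ih _ hc K (hH.to_le hK.le) hAK (fun y hy => hfix y (hK.le hy)) rfl ha
    exact (Subgroup.mem_centralizer_iff.mp this x hx).symm
  -- the Frattini subgroup is proper, hence fixed; it contains `H'` and all `p`-th powers
  set K : Subgroup G := (frattini H).map H.subtype with hK
  have hKH : K < H := by
    refine lt_of_le_of_ne (Subgroup.map_subtype_le _) fun h => ?_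
    haveI : Nontrivial H := (Subgroup.nontrivial_iff_ne_bot H).mpr hne
    obtain ⟨M, hM, -⟩ := (IsCoatomic.eq_top_or_exists_le_coatom (⊥ : Subgroup H)).resolve_left bot_ne_top
    apply hM.1
    rw [eq_top_iff]
    have h2 : frattini H = ⊤ := by
      apply Subgroup.map_injective H.subtype_injective
      rw [← MonoidHom.range_eq_map, Subgroup.range_subtype]
      exact h
    rw [← h2]
    exact frattini_le_coatom hM
  have hAK : A ≤ Subgroup.normalizer (K : Set G) := by
    intro a ha
    have hone : ∀ b ∈ A, ∀ k ∈ K, b * k * b⁻¹ ∈ K := by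
      rintro b hb _ ⟨k, hk, rfl⟩
      exact ⟨Subgroup.normalizerMonoidHom H ⟨b, hA hb⟩ k, by
        have := Subgroup.characteristic_iff_map_le.mp (inferInstance : (frattini H).Characteristic)
          (Subgroup.normalizerMonoidHom H ⟨b, hA hb⟩)
        exact this (Subgroup.mem_map_of_mem _ hk), rfl⟩
    refine Subgroup.mem_normalizer_iff.mpr fun w => ⟨hone a ha w, fun h => ?_⟩
    simpa [mul_assoc] using hone a⁻¹ (A.inv_mem ha) _ h
  have hKfix := recur K hKH hAK
  set D : Subgroup G := ⁅H, H⁆ with hD
  have hDK : D ≤ K := by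
    rw [hD, ← H.map_subtype_commutator, hK]
    exact Subgroup.map_mono (PGroup.commutator_le_frattini hH)
  have hDH : D ≤ H := hDK.trans hKH.le
  have hDfix : ∀ a ∈ A, ∀ x ∈ D, Commute a x := fun a ha x hx => hKfix a ha x (hDK hx)
  have hpowK : ∀ u ∈ H, u ^ p ∈ K := fun u hu =>
    ⟨(⟨u, hu⟩ : H) ^ p, PGroup.pow_mem_frattini hH _, by simp⟩
  set W : Subgroup G := Subgroup.closure {w | ∃ a ∈ A, ∃ x ∈ H, w = x⁻¹ * (a * x * a⁻¹)} with hW
  have hWH : W ≤ H := by
    rw [hW, Subgroup.closure_le]
    rintro _ ⟨a, ha, x, hx, rfl⟩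
    exact H.mul_mem (H.inv_mem hx) (hconjH a ha x hx)
  have hWA : ∀ a ∈ A, ∀ w ∈ W, a * w * a⁻¹ ∈ W := by
    intro a ha
    suffices h : W ≤ W.comap (MulAut.conj a).toMonoidHom from fun w hw => h hw
    conv_lhs => rw [hW]
    rw [Subgroup.closure_le]
    rintro _ ⟨b, hb, x, hx, rfl⟩
    refine Subgroup.subset_closure ⟨a * b * a⁻¹, A.mul_mem (A.mul_mem ha hb) (A.inv_mem ha),
      a * x * a⁻¹, hconjH a ha x hx, ?_⟩
    simp only [MulEquiv.coe_toMonoidHom, MulAut.conj_apply]
    group
  have hAW : A ≤ Subgroup.normalizer (W : Set G) := by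
    intro a ha
    refine Subgroup.mem_normalizer_iff.mpr fun w => ⟨hWA a ha w, fun h => ?_⟩
    simpa [mul_assoc] using hWA a⁻¹ (A.inv_mem ha) _ h
  intro a ha
  rw [Subgroup.mem_centralizer_iff]
  intro x hx
  set y : G := x⁻¹ * (a * x * a⁻¹) with hy
  have hyH : y ∈ H := H.mul_mem (H.inv_mem hx) (hconjH a ha x hx)
  have key : Commute a y := by
    rcases hWH.lt_or_eq with hlt | heq
    · exact recur W hlt hAW a ha y (Subgroup.subset_closure ⟨a, ha, x, hx, rfl⟩)
    -- now `D` is central in `H`
    have hcent : ∀ d ∈ D, ∀ h ∈ H, Commute d h := by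
      intro d hd h hh
      rw [← heq] at hh
      have hle : W ≤ Subgroup.centralizer (D : Set G) := by
        rw [hW, Subgroup.closure_le]
        rintro _ ⟨b, hb, u, hu, rfl⟩
        refine Subgroup.mem_centralizer_iff.mpr fun e he => ?_
        have hue : u * e * u⁻¹ ∈ D := by
          have hc : ⁅u, e⁆ ∈ D := Subgroup.commutator_mem_commutator hu (hDH he)
          rw [commutatorElement_def] at hc
          simpa [mul_assoc] using D.mul_mem hc he
        have e1 : b * e = e * b := hDfix b hb e he
        have e2 : b * (u * e * u⁻¹) = u * e * u⁻¹ * b := hDfix b hb _ hue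
        calc e * (u⁻¹ * (b * u * b⁻¹)) = u⁻¹ * ((u * e * u⁻¹ * b) * u * b⁻¹) := by group
          _ = u⁻¹ * (b * u * e * b⁻¹) := by rw [← e2]; group
          _ = u⁻¹ * (b * u * b⁻¹) * (b * e) * b⁻¹ := by group
          _ = u⁻¹ * (b * u * b⁻¹) * e := by rw [e1]; group
      exact Subgroup.mem_centralizer_iff.mp (hle hh) d hd
    set c : G := ⁅y, x⁆ with hc
    have hcD : c ∈ D := Subgroup.commutator_mem_commutator hyH hx
    have hcx := hcent c hcD x hx
    have hcy := hcent c hcD y hyH
    have hyx : y * x = c * x * y := by rw [hc, commutatorElement_def]; group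
    have hxp : Commute a (x ^ p) := hKfix a ha _ (hpowK x hx)
    have hax : (x * y) ^ p = x ^ p := by
      have : x * y = a * x * a⁻¹ := by rw [hy]; group
      rw [this, conj_pow, hxp.eq, mul_inv_cancel_right]
    have hyxp : Commute (x ^ p) y := by
      have h1 : Commute (x ^ p) (x * y) := by
        have h := Commute.pow_self (x * y) p
        rwa [hax] at h
      have h2 : Commute (x ^ p) x := Commute.pow_self x p
      have h3 := h2.inv_right.mul_right h1
      rwa [inv_mul_cancel_left] at h3
    have hcp : c ^ p = 1 := by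
      have h := pow_mul_comm_central (x := y) (y := x) (c := c⁻¹)
        (by rw [mul_assoc c⁻¹, hyx]; group) hcy.inv_left hcx.inv_left p
      rw [hyxp.eq] at h
      have h' : c⁻¹ ^ p * (y * x ^ p) = 1 * (y * x ^ p) := by rw [one_mul, ← mul_assoc, ← h]
      simpa using mul_right_cancel h'
    have hyp : y ^ p = 1 := by
      have h := mul_pow_central hyx hcx hcy p
      obtain ⟨m, hm⟩ : p ∣ p.choose 2 :=
        hpF.out.dvd_choose_self two_ne_zero (lt_of_le_of_ne hpF.out.two_le (Ne.symm hp))
      rw [hax, hm, pow_mul, hcp, one_pow, one_mul, left_eq_mul] at h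
      exact h
    exact ((Subgroup.mem_centralizer_iff.mp (hfix y hyH hyp ha)) y rfl).symm
  -- `a x a⁻¹ = z x` with `z` fixed by `a`
  have hxa : a * x * a⁻¹ = x * y := by rw [hy]; group
  have hcomm : Commute a y := key
  -- pass to `x⁻¹`, so that the translation is on the left
  have hinv : a * x⁻¹ * a⁻¹ = y⁻¹ * x⁻¹ := by
    rw [← mul_inv_rev, ← hxa]; group
  have := commute_of_translate hinv hcomm.inv_right (orderOf_coprime_of_mem ha (H.inv_mem hyH) hcop')
  exact (Commute.inv_right_iff.mp this).eq.symm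

end Cfsg.Agent.Coprime
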