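import Mathlib
import Cfsg.Agent.Lib.PGroup.Class2

/-! The Baer correspondence for a group of odd order and class at most 2 (only the abelian group). -/

namespace Cfsg.Agent.Coprime

open scoped commutatorElement

variable {P : Type*} [Group P]

/-- A group of odd order and class at most 2, to be given the abelian Baer multiplication. -/
structure Baer (P : Type*) [Group P] (h : commutator P ≤ Subgroup.center P) (hodd : Odd (Nat.card P)) where
  /-- The underlying element. -/
  val : P

/-- The exponent halving commutators. -/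
noncomputable def baerExp (P : Type*) : ℕ := (Nat.card P + 1) / 2

/-- The Baer multiplication. -/
noncomputable def baerMul (x y : P) : P := x * y * ⁅y, x⁆ ^ baerExp P

theorem two_baerExp (hodd : Odd (Nat.card P)) : 2 * baerExp P = Nat.card P + 1 := by
  obtain ⟨m, hm⟩ := hodd
  rw [baerExp, hm]
  omega

theorem baerMul_comm (h : commutator P ≤ Subgroup.center P) (hodd : Odd (Nat.card P)) (x y : P) :
    baerMul x y = baerMul y x := by
  have hz := PGroup.mem_center_of_class_two h y x
  have e : x * y = y * x * ⁅x, y⁆ := by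
    have hz' := PGroup.mem_center_of_class_two h x y
    rw [Subgroup.mem_center_iff.mp hz' (y * x), commutatorElement_def]
    group
  have e2 : ⁅y, x⁆ = ⁅x, y⁆⁻¹ := (commutatorElement_inv x y).symm
  have e3 : ⁅x, y⁆ ^ (2 * baerExp P) = ⁅x, y⁆ := by
    rw [two_baerExp hodd, pow_succ, pow_card_eq_one', one_mul]
  rw [baerMul, baerMul, e, e2, inv_pow, mul_assoc]
  congr 1
  rw [mul_inv_eq_iff_eq_mul, ← pow_add, ← two_mul, e3]

theorem baerMul_assoc (h : commutator P ≤ Subgroup.center P) (x y z : P) :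
    baerMul (baerMul x y) z = baerMul x (baerMul y z) := by
  have hc := PGroup.mem_center_of_class_two h
  have hpc : ∀ a b : P, ∀ n : ℕ, ⁅a, b⁆ ^ n ∈ Subgroup.center P := fun a b n => Subgroup.pow_mem _ (hc a b) n
  have hcz : ∀ {c : P}, c ∈ Subgroup.center P → ∀ d : P, ⁅c, d⁆ = 1 ∧ ⁅d, c⁆ = 1 := fun hcc d =>
    ⟨commutatorElement_eq_one_iff_mul_comm.mpr (Subgroup.mem_center_iff.mp hcc d).symm,
      commutatorElement_eq_one_iff_mul_comm.mpr (Subgroup.mem_center_iff.mp hcc d)⟩
  set k := baerExp P with hk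
  have h1 : ⁅z, baerMul x y⁆ = ⁅z, x⁆ * ⁅z, y⁆ := by
    rw [baerMul, PGroup.commutator_mul_right (hc _ _), PGroup.commutator_mul_right (hc _ _),
      (hcz (hpc y x _) z).2, mul_one]
  have h2 : ⁅baerMul y z, x⁆ = ⁅y, x⁆ * ⁅z, x⁆ := by
    rw [baerMul, PGroup.commutator_mul_left (hc _ _), PGroup.commutator_mul_left (hc _ _),
      (hcz (hpc z y _) x).1, mul_one]
  show baerMul x y * z * ⁅z, baerMul x y⁆ ^ k = x * baerMul y z * ⁅baerMul y z, x⁆ ^ k
  have hcomm : Commute ⁅z, x⁆ ⁅z, y⁆ := Subgroup.mem_center_iff.mp (hc z y) _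
  have hcomm' : Commute ⁅y, x⁆ ⁅z, x⁆ := Subgroup.mem_center_iff.mp (hc z x) _
  rw [h1, h2, hcomm.mul_pow, hcomm'.mul_pow, baerMul, baerMul, ← hk]
  have z1 := Subgroup.mem_center_iff.mp (hpc y x k)
  have z2 := Subgroup.mem_center_iff.mp (hpc z y k)
  have z3 := Subgroup.mem_center_iff.mp (hpc z x k)
  calc x * y * ⁅y, x⁆ ^ k * z * (⁅z, x⁆ ^ k * ⁅z, y⁆ ^ k)
      = x * y * (⁅y, x⁆ ^ k * z) * (⁅z, x⁆ ^ k * ⁅z, y⁆ ^ k) := by group
    _ = x * y * z * (⁅y, x⁆ ^ k * ⁅z, x⁆ ^ k) * ⁅z, y⁆ ^ k := by rw [← z1 z]; group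
    _ = x * (y * z * ((⁅y, x⁆ ^ k * ⁅z, x⁆ ^ k) * ⁅z, y⁆ ^ k)) := by group
    _ = _ := by rw [z2 (⁅y, x⁆ ^ k * ⁅z, x⁆ ^ k)]; group

variable {h : commutator P ≤ Subgroup.center P} {hodd : Odd (Nat.card P)}

/-- The Baer group is commutative. -/
noncomputable instance baerCommGroup : CommGroup (Baer P h hodd) where
  mul a b := ⟨baerMul a.val b.val⟩
  one := ⟨1⟩
  inv a := ⟨a.val⁻¹⟩
  mul_assoc a b c := congrArg Baer.mk (baerMul_assoc h a.val b.val c.val)
  one_mul a := by
    show Baer.mk (baerMul 1 a.val) = a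
    simp [baerMul]
  mul_one a := by
    show Baer.mk (baerMul a.val 1) = a
    simp [baerMul]
  inv_mul_cancel a := by
    show Baer.mk (baerMul a.val⁻¹ a.val) = ⟨1⟩
    simp [baerMul, commutatorElement_def]
  mul_comm a b := congrArg Baer.mk (baerMul_comm h hodd a.val b.val)

theorem baer_val_mul (a b : Baer P h hodd) : (a * b).val = a.val * b.val * ⁅b.val, a.val⁆ ^ baerExp P := rfl

theorem baer_val_pow (a : Baer P h hodd) : ∀ n : ℕ, (a ^ n).val = a.val ^ n := by
  intro n
  induction n with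
  | zero => rw [pow_zero, pow_zero]; rfl
  | succ n ih =>
    rw [pow_succ, baer_val_mul, ih, commutatorElement_eq_one_iff_mul_comm.mpr (Commute.self_pow a.val n).eq,
      one_pow, mul_one, pow_succ]

/-- An endomorphism of `P` is one of the Baer group. -/
noncomputable def baerMap (f : P →* P) : Baer P h hodd →* Baer P h hodd where
  toFun a := ⟨f a.val⟩
  map_one' := by
    show Baer.mk (f 1) = ⟨1⟩
    rw [map_one]
  map_mul' a b := congrArg Baer.mk (by
    show f (baerMul a.val b.val) = baerMul (f a.val) (f b.val)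
    simp only [baerMul, map_mul, map_pow, map_commutatorElement])

theorem baerMap_val (f : P →* P) (a : Baer P h hodd) : (baerMap f a).val = f a.val := rfl

end Cfsg.Agent.Coprime
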