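import Mathlib
import Cfsg.Agent.Lib.Coprime.Baer
import Cfsg.Agent.Lib.Coprime.Stabilize
import Cfsg.Agent.Lib.Coprime.Commutator
import Cfsg.Agent.Lib.PGroup.Frattini
import Cfsg.Agent.Lib.PGroup.Class2
import Cfsg.Agent.Lib.Coprime.OmegaOne

/-! A `p'`-group `Q`, normalized by the `p`-group `A` and fixing `C_V(A)`, centralizes the `p`-group `V`
(`p` odd, or class at most 2 of `V A`). -/

namespace Cfsg.Agent.Coprime

open scoped commutatorElement
open Subgroup (normalizer centralizer)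

variable {G : Type*} [Group G] [Finite G]

/-- A `p`-group acting on `V` fixes something modulo a proper invariant subgroup containing `V'`. -/
theorem exists_fixed_mod {p : ℕ} [Fact p.Prime] {V A C : Subgroup G} (hV : IsPGroup p V) (hA : IsPGroup p A)
    (hAV : A ≤ normalizer (V : Set G)) (hVC : ¬ V ≤ C) :
    ∃ x ∈ V, x ∉ C ∧ ∀ a ∈ A, ⁅x, a⁆ ∈ C := by
  obtain ⟨U, -, hU⟩ := Set.Finite.exists_le_minimal
    (Set.toFinite {U : Subgroup G | U ≤ V ∧ A ≤ normalizer (U : Set G) ∧ ¬ U ≤ C}) (a := V)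
    ⟨le_rfl, hAV, hVC⟩
  obtain ⟨⟨hUV, hUA, hUC⟩, hmin⟩ := hU
  obtain ⟨x, hxU, hxC⟩ := SetLike.not_le_iff_exists.mp hUC
  have hlt : ⁅U, A⁆ < U := commutator_lt_of_isPGroup hA (hV.to_le hUV) hUA (fun h => hUC (h ▸ bot_le))
  refine ⟨x, hUV hxU, hxC, fun a ha => ?_⟩
  by_contra hc
  refine hlt.not_ge (hmin ⟨hlt.le.trans hUV, ?_, fun h => hc (h (Subgroup.commutator_mem_commutator hxU ha))⟩ hlt.le)
  intro b hb
  rw [Subgroup.mem_normalizer_iff_map_conj_eq, Subgroup.map_commutator,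
    Subgroup.mem_normalizer_iff_map_conj_eq.mp (hUA hb),
    Subgroup.mem_normalizer_iff_map_conj_eq.mp (Subgroup.le_normalizer hb)]

/-- `p` odd: a `p'`-group fixing the elements `x` of `C_V(A)` with `x ^ p = 1`, normalized by the `p`-group `A`,
centralizes `V`. -/
theorem le_centralizer_of_fix_omega {p : ℕ} [hpF : Fact p.Prime] (hp : p ≠ 2) (V A Q : Subgroup G)
    (hV : IsPGroup p V) (hA : IsPGroup p A) (hQ : (Nat.card Q).Coprime p)
    (hAV : A ≤ normalizer (V : Set G)) (hQV : Q ≤ normalizer (V : Set G))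
    (hAQ : A ≤ normalizer (Q : Set G))
    (hfix : ∀ x ∈ V ⊓ centralizer (A : Set G), x ^ p = 1 → x ∈ centralizer (Q : Set G)) :
    Q ≤ centralizer (V : Set G) := by
  classical
  induction hn : Nat.card V using Nat.strong_induction_on generalizing V with
  | _ n ih =>
  subst hn
  rcases eq_or_ne V ⊥ with rfl | hne
  · intro a _
    simp [Subgroup.mem_centralizer_iff]
  have hcop' : (Nat.card Q).Coprime (Nat.card V) := by
    obtain ⟨k, hk⟩ := hV.exists_card_eq
    rw [hk]
    exact hQ.pow_right k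
  have hconjV : ∀ g : G, g ∈ normalizer (V : Set G) → ∀ x ∈ V, g * x * g⁻¹ ∈ V := fun g hg x hx =>
    (Subgroup.mem_normalizer_iff.mp hg x).mp hx
  have hboth : A ⊔ Q ≤ normalizer (V : Set G) := sup_le hAV hQV
  have recur : ∀ K : Subgroup G, K < V → A ⊔ Q ≤ normalizer (K : Set G) →
      ∀ a ∈ Q, ∀ x ∈ K, Commute a x := by
    intro K hK hK' a ha x hx
    have hc : Nat.card K < Nat.card V := by
      refine lt_of_le_of_ne (Subgroup.card_le_of_le hK.le) fun h => hK.ne ?_
      exact Subgroup.eq_of_le_of_card_ge hK.le h.ge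
    have := ih _ hc K (hV.to_le hK.le) (le_sup_left.trans hK') (le_sup_right.trans hK')
      (fun y hy hyp => hfix y (inf_le_inf_right _ hK.le hy) hyp) rfl ha
    exact (Subgroup.mem_centralizer_iff.mp this x hx).symm
  have norm_of_conj : ∀ K : Subgroup G, (∀ g ∈ A ⊔ Q, ∀ k ∈ K, g * k * g⁻¹ ∈ K) →
      A ⊔ Q ≤ normalizer (K : Set G) := by
    intro K hK g hg
    refine Subgroup.mem_normalizer_iff.mpr fun w => ⟨hK g hg w, fun h => ?_⟩
    simpa [mul_assoc] using hK g⁻¹ (Subgroup.inv_mem _ hg) _ h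
  -- the Frattini subgroup is fixed
  set K : Subgroup G := (frattini V).map V.subtype with hK
  have hKV : K < V := by
    refine lt_of_le_of_ne (Subgroup.map_subtype_le _) fun h => ?_
    haveI : Nontrivial V := (Subgroup.nontrivial_iff_ne_bot V).mpr hne
    obtain ⟨M, hM, -⟩ := (IsCoatomic.eq_top_or_exists_le_coatom (⊥ : Subgroup V)).resolve_left bot_ne_top
    apply hM.1
    have h2 : frattini V = ⊤ := by
      apply Subgroup.map_injective V.subtype_injective
      rw [← MonoidHom.range_eq_map, Subgroup.range_subtype]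
      exact h
    rw [eq_top_iff, ← h2]
    exact frattini_le_coatom hM
  have hKinv : A ⊔ Q ≤ normalizer (K : Set G) := norm_of_conj K (by
    rintro g hg _ ⟨k, hk, rfl⟩
    exact ⟨Subgroup.normalizerMonoidHom V ⟨g, hboth hg⟩ k,
      (Subgroup.characteristic_iff_map_le.mp (inferInstance : (frattini V).Characteristic)
        (Subgroup.normalizerMonoidHom V ⟨g, hboth hg⟩)) (Subgroup.mem_map_of_mem _ hk), rfl⟩)
  set D : Subgroup G := ⁅V, V⁆ with hD
  have hDV : D ≤ V := V.commutator_le_self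
  have hDfix : ∀ a ∈ Q, ∀ x ∈ D, Commute a x := by
    have hDK : D ≤ K := by
      rw [hD, ← V.map_subtype_commutator, hK]
      exact Subgroup.map_mono (PGroup.commutator_le_frattini hV)
    exact fun a ha x hx => recur K hKV hKinv a ha x (hDK hx)
  set W : Subgroup G := Subgroup.closure {w | ∃ a ∈ Q, ∃ x ∈ V, w = x⁻¹ * (a * x * a⁻¹)} with hW
  have hWV : W ≤ V := by
    rw [hW, Subgroup.closure_le]
    rintro _ ⟨a, ha, x, hx, rfl⟩
    exact V.mul_mem (V.inv_mem hx) (hconjV a (hQV ha) x hx)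
  have hsupQ : A ⊔ Q ≤ normalizer (Q : Set G) := sup_le hAQ Subgroup.le_normalizer
  have hWinv : A ⊔ Q ≤ normalizer (W : Set G) := norm_of_conj W (by
    intro g hg
    suffices h : W ≤ W.comap (MulAut.conj g).toMonoidHom from fun w hw => h hw
    conv_lhs => rw [hW]
    rw [Subgroup.closure_le]
    rintro _ ⟨b, hb, x, hx, rfl⟩
    refine Subgroup.subset_closure ⟨g * b * g⁻¹, (Subgroup.mem_normalizer_iff.mp (hsupQ hg) b).mp hb,
      g * x * g⁻¹, hconjV g (hboth hg) x hx, ?_⟩
    simp only [MulEquiv.coe_toMonoidHom, MulAut.conj_apply]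
    group)
  rcases hWV.lt_or_eq with hlt | heq
  · intro a ha
    rw [Subgroup.mem_centralizer_iff]
    intro x hx
    have hy : Commute a (x⁻¹ * (a * x * a⁻¹)) :=
      recur W hlt hWinv a ha _ (Subgroup.subset_closure ⟨a, ha, x, hx, rfl⟩)
    have hinv : a * x⁻¹ * a⁻¹ = (x⁻¹ * (a * x * a⁻¹))⁻¹ * x⁻¹ := by group
    have := commute_of_translate hinv hy.inv_right (orderOf_coprime_of_mem ha
      (V.inv_mem (V.mul_mem (V.inv_mem hx) (hconjV a (hQV ha) x hx))) hcop')
    exact (Commute.inv_right_iff.mp this).eq.symm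
  -- `V` has class at most 2
  have hcent : commutator V ≤ Subgroup.center V := by
    intro d hd
    have hdD : (d : G) ∈ D := by
      rw [hD, ← V.map_subtype_commutator]
      exact Subgroup.mem_map_of_mem _ hd
    have hle : W ≤ centralizer (D : Set G) := by
      rw [hW, Subgroup.closure_le]
      rintro _ ⟨b, hb, u, hu, rfl⟩
      refine Subgroup.mem_centralizer_iff.mpr fun e he => ?_
      have hue : u * e * u⁻¹ ∈ D := by
        have hc : ⁅u, e⁆ ∈ D := Subgroup.commutator_mem_commutator hu (hDV he)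
        rw [commutatorElement_def] at hc
        simpa [mul_assoc] using D.mul_mem hc he
      have e1 : b * e = e * b := hDfix b hb e he
      have e2 : b * (u * e * u⁻¹) = u * e * u⁻¹ * b := hDfix b hb _ hue
      calc e * (u⁻¹ * (b * u * b⁻¹)) = u⁻¹ * ((u * e * u⁻¹ * b) * u * b⁻¹) := by group
        _ = u⁻¹ * (b * u * e * b⁻¹) := by rw [← e2]; group
        _ = u⁻¹ * (b * u * b⁻¹) * (b * e) * b⁻¹ := by group
        _ = u⁻¹ * (b * u * b⁻¹) * e := by rw [e1]; group
    rw [Subgroup.mem_center_iff]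
    intro v
    exact Subtype.ext (Subgroup.mem_centralizer_iff.mp (hle (heq.symm ▸ v.2)) d hdD).symm
  have hodd : Odd (Nat.card V) := by
    obtain ⟨k, hk⟩ := hV.exists_card_eq
    rw [hk]
    exact (hpF.out.odd_of_ne_two hp).pow
  -- reduce to exponent `p`
  by_cases hexp : ∀ v ∈ V, v ^ p = 1
  swap
  · set O : Subgroup V := Subgroup.closure {v : V | v ^ p = 1}
    set W' : Subgroup G := O.map V.subtype with hW'
    have hW'V : W' < V := by
      refine lt_of_le_of_ne (Subgroup.map_subtype_le _) fun h => hexp fun v hv => ?_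
      have hvO : (⟨v, hv⟩ : V) ∈ O := by
        obtain ⟨u, hu, huv⟩ := h.symm ▸ hv
        rwa [← show u = ⟨v, hv⟩ from Subtype.ext huv]
      exact congrArg Subtype.val (PGroup.pow_eq_one_of_mem_closure hpF.out hp hcent (fun _ h => h) hvO)
    have hW'inv : A ⊔ Q ≤ normalizer (W' : Set G) := norm_of_conj W' (by
      rintro g hg _ ⟨k, hk, rfl⟩
      refine ⟨Subgroup.normalizerMonoidHom V ⟨g, hboth hg⟩ k, ?_, rfl⟩
      have hle : O.map (Subgroup.normalizerMonoidHom V ⟨g, hboth hg⟩).toMonoidHom ≤ O := by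
        rw [MonoidHom.map_closure, Subgroup.closure_le]
        rintro _ ⟨u, hu, rfl⟩
        refine Subgroup.subset_closure ?_
        show (Subgroup.normalizerMonoidHom V ⟨g, hboth hg⟩) u ^ p = 1
        rw [← map_pow, show u ^ p = 1 from hu, map_one]
      exact hle (Subgroup.mem_map_of_mem _ hk))
    refine le_centralizer_of_fix_pow_eq_one hp V Q hV hQV hQ fun y hy hyp r hr => ?_
    exact Subgroup.mem_centralizer_singleton_iff.mpr (recur W' hW'V hW'inv r hr y
      ⟨⟨y, hy⟩, Subgroup.subset_closure (Subtype.ext hyp), rfl⟩).eq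
  rw [Subgroup.le_centralizer_iff]
  by_contra hVC
  obtain ⟨x, hxV, hxC, hxA⟩ := exists_fixed_mod hV hA hAV hVC
  haveI := Fintype.ofFinite Q
  let ρ := Subgroup.normalizerMonoidHom V
  let fA : A → (Baer V hcent hodd →* Baer V hcent hodd) :=
    fun a => baerMap (ρ ⟨a, hAV a.2⟩).toMonoidHom
  let fQ : Q → (Baer V hcent hodd →* Baer V hcent hodd) :=
    fun a => baerMap (ρ ⟨a, hQV a.2⟩).toMonoidHom
  let N : Baer V hcent hodd → Baer V hcent hodd := fun u => ∏ q : Q, fQ q u
  have hfQ : ∀ (q : Q) u, ((fQ q u).val : G) = (q : G) * u.val * (q : G)⁻¹ := fun q u => rfl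
  have hfA : ∀ (a : A) u, ((fA a u).val : G) = (a : G) * u.val * (a : G)⁻¹ := fun a u => rfl
  have ext' : ∀ u v : Baer V hcent hodd, (u.val : G) = v.val → u = v := fun u v e => by
    cases u; cases v; exact congrArg Baer.mk (Subtype.ext e)
  have hQN : ∀ (q : Q) u, fQ q (N u) = N u := by
    intro q u
    show fQ q (∏ r : Q, fQ r u) = _
    rw [map_prod]
    refine Fintype.prod_equiv (Equiv.mulLeft q) _ _ fun r => ext' _ _ ?_
    simp only [Equiv.coe_mulLeft, hfQ, Subgroup.coe_mul]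
    group
  have hAN : ∀ (a : A) u, fA a (N u) = N (fA a u) := by
    intro a u
    show fA a (∏ r : Q, fQ r u) = _
    rw [map_prod]
    refine Fintype.prod_equiv (Subgroup.normalizerMonoidHom Q ⟨a, hAQ a.2⟩).toEquiv _ _ fun r => ext' _ _ ?_
    show (a : G) * ((fQ r u).val : G) * (a : G)⁻¹ = _
    show (a : G) * ((r : G) * u.val * (r : G)⁻¹) * (a : G)⁻¹ =
      ((a : G) * r * (a : G)⁻¹) * ((a : G) * u.val * (a : G)⁻¹) * ((a : G) * r * (a : G)⁻¹)⁻¹
    group
  set m := Nat.card Q with hm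
  have hNfix : ∀ u : Baer V hcent hodd, (∀ q : Q, fQ q u = u) → N u = u ^ m := by
    intro u hu
    show ∏ q : Q, fQ q u = _
    simp [hu, hm, Nat.card_eq_fintype_card]
  let x' : Baer V hcent hodd := ⟨⟨x, hxV⟩⟩
  have hz : ∀ (a : A) (q : Q), fQ q (fA a x' / x') = fA a x' / x' := by
    intro a q
    let CQ : Subgroup G := centralizer (Q : Set G)
    have hmem : (((fA a x' / x').val : V) : G) ∈ CQ := by
      rw [div_eq_mul_inv, baer_val_mul]
      push_cast
      refine CQ.mul_mem ?_ ?_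
      · have h1 := CQ.inv_mem (hxA (a : G) a.2)
        show (a : G) * x * (a : G)⁻¹ * x⁻¹ ∈ CQ
        rwa [commutatorElement_inv, commutatorElement_def] at h1
      · refine CQ.pow_mem (Subgroup.mem_centralizer_iff.mpr fun r hr => ?_) _
        exact hDfix r hr _ (Subgroup.commutator_mem_commutator (V.inv_mem hxV) (hconjV a (hAV a.2) x hxV))
    refine ext' _ _ ?_
    rw [hfQ]
    exact mul_inv_eq_iff_eq_mul.mpr (Subgroup.mem_centralizer_iff.mp hmem q q.2)
  let w : Baer V hcent hodd := x' ^ m / N x'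
  have hw : ((w.val : V) : G) ∈ V ⊓ centralizer (A : Set G) := by
    refine ⟨w.val.2, Subgroup.mem_centralizer_iff.mpr fun a ha => ?_⟩
    have hwa : fA ⟨a, ha⟩ w = w := by
      have hNmul : ∀ u v, N (u * v) = N u * N v := fun u v => by
        show ∏ q : Q, fQ q (u * v) = _
        simp [N, map_mul, Finset.prod_mul_distrib]
      have e1 : fA ⟨a, ha⟩ x' = fA ⟨a, ha⟩ x' / x' * x' := (div_mul_cancel _ _).symm
      show fA ⟨a, ha⟩ (x' ^ m / N x') = _
      rw [map_div, map_pow, hAN, e1, mul_pow, hNmul, hNfix _ (hz ⟨a, ha⟩), mul_div_mul_left_eq_div]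
    have := congrArg (fun u : Baer V hcent hodd => (u.val : G)) hwa
    simp only [hfA] at this
    exact mul_inv_eq_iff_eq_mul.mp this
  have hxm : ∀ q : Q, fQ q (x' ^ m) = x' ^ m := by
    intro q
    have h1 : fQ q w = w := ext' _ _ (by
      rw [hfQ]
      exact mul_inv_eq_iff_eq_mul.mpr (Subgroup.mem_centralizer_iff.mp (hfix _ hw (hexp _ w.val.2)) q q.2))
    have h2 : x' ^ m = w * N x' := (div_mul_cancel _ _).symm
    rw [h2, map_mul, h1, hQN]
  apply hxC
  rw [Subgroup.mem_centralizer_iff]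
  intro q hq
  have hpow : Commute q (x ^ m) := by
    have := congrArg (fun u : Baer V hcent hodd => (u.val : G)) (hxm ⟨q, hq⟩)
    simp only [hfQ, baer_val_pow, SubmonoidClass.coe_pow] at this
    exact mul_inv_eq_iff_eq_mul.mp this
  obtain ⟨j, hj⟩ := exists_pow_eq_self_of_coprime
    (Nat.Coprime.coprime_dvd_right (Subgroup.orderOf_dvd_natCard V hxV) hcop')
  rw [← hj]
  exact (hpow.pow_right j).eq

/-- `p` odd: a `p'`-group fixing `C_V(A)`, normalized by the `p`-group `A`, centralizes `V`. -/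
theorem le_centralizer_of_fix_fixed {p : ℕ} [Fact p.Prime] (hp : p ≠ 2) (V A Q : Subgroup G)
    (hV : IsPGroup p V) (hA : IsPGroup p A) (hQ : (Nat.card Q).Coprime p)
    (hAV : A ≤ normalizer (V : Set G)) (hQV : Q ≤ normalizer (V : Set G))
    (hAQ : A ≤ normalizer (Q : Set G))
    (hfix : V ⊓ centralizer (A : Set G) ≤ centralizer (Q : Set G)) :
    Q ≤ centralizer (V : Set G) :=
  le_centralizer_of_fix_omega hp V A Q hV hA hQ hAV hQV hAQ fun _ hx _ => hfix hx

omit [Finite G] in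
/-- Class at most 2 version, for every prime: the commutators `[A, V]` are central in `A V`. -/
theorem le_centralizer_of_fix_fixed_class_two [Finite G] {p : ℕ} [Fact p.Prime] (V A Q : Subgroup G)
    (hV : IsPGroup p V) (hQ : (Nat.card Q).Coprime p)
    (hAV : A ≤ normalizer (V : Set G)) (hQV : Q ≤ normalizer (V : Set G))
    (hAQ : A ≤ normalizer (Q : Set G)) (hcl : ⁅V, A⁆ ≤ centralizer ((A ⊔ V : Subgroup G) : Set G))
    (hfix : V ⊓ centralizer (A : Set G) ≤ centralizer (Q : Set G)) :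
    Q ≤ centralizer (V : Set G) := by
  have hcop' : (Nat.card Q).Coprime (Nat.card V) := by
    obtain ⟨k, hk⟩ := hV.exists_card_eq
    rw [hk]
    exact hQ.pow_right k
  have hconj : ∀ g ∈ normalizer (V : Set G), ∀ v ∈ V, g * v * g⁻¹ ∈ V := fun g hg v hv =>
    (Subgroup.mem_normalizer_iff.mp hg v).mp hv
  -- `a` moves every element of `V` by an element central in `A V` and fixed by `Q`
  have hmove : ∀ a ∈ A, ∀ v ∈ V, ∃ z, a * v * a⁻¹ = z * v ∧ z ∈ V ∧
      z ∈ centralizer ((A ⊔ V : Subgroup G) : Set G) ∧ z ∈ centralizer (Q : Set G) := by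
    intro a ha v hv
    have hzV : a * v * a⁻¹ * v⁻¹ ∈ V := V.mul_mem (hconj a (hAV ha) v hv) (V.inv_mem hv)
    have h1 : a * v * a⁻¹ * v⁻¹ ∈ centralizer ((A ⊔ V : Subgroup G) : Set G) := by
      have h := hcl (Subgroup.commutator_mem_commutator hv ha)
      rw [← Subgroup.inv_mem_iff, commutatorElement_def] at h
      simpa [mul_assoc] using h
    refine ⟨a * v * a⁻¹ * v⁻¹, by group, hzV, h1, hfix ⟨hzV, ?_⟩⟩
    exact Subgroup.centralizer_le (le_sup_left (b := V)) h1
  intro q hq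
  rw [Subgroup.mem_centralizer_iff]
  intro x hx
  set y : G := q * x * q⁻¹ with hy
  have hyV : y ∈ V := hconj q (hQV hq) x hx
  -- `w = y x⁻¹` is fixed by `A`
  have hw : y * x⁻¹ ∈ V ⊓ centralizer (A : Set G) := by
    refine ⟨V.mul_mem hyV (V.inv_mem hx), Subgroup.mem_centralizer_iff.mpr fun a ha => ?_⟩
    obtain ⟨z, hz, hzV, hzc, hzQ⟩ := hmove a ha x hx
    obtain ⟨z', hz', hzV', hzc', hzQ'⟩ := hmove a ha y hyV
    set q' : G := a * q * a⁻¹ with hq'
    have hq'Q : q' ∈ Q := (Subgroup.mem_normalizer_iff.mp (hAQ ha) q).mp hq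
    have cen : ∀ {c : G}, c ∈ centralizer ((A ⊔ V : Subgroup G) : Set G) → ∀ v ∈ V, Commute v c :=
      fun hc v hv => Subgroup.mem_centralizer_iff.mp hc v (Subgroup.mem_sup_right hv)
    -- `z' y = a y a⁻¹ = z (q' x q'⁻¹)`
    have e : z' * y = z * (q' * x * q'⁻¹) := by
      have e0 : a * y * a⁻¹ = q' * (a * x * a⁻¹) * q'⁻¹ := by rw [hy, hq']; group
      rw [← hz', e0, hz]
      calc q' * (z * x) * q'⁻¹ = (q' * z) * x * q'⁻¹ := by group
        _ = z * (q' * x * q'⁻¹) := by rw [Subgroup.mem_centralizer_iff.mp hzQ q' hq'Q]; group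
    set r : G := q⁻¹ * q' with hr
    have hrQ : r ∈ Q := Q.mul_mem (Q.inv_mem hq) hq'Q
    have hcQ : z⁻¹ * z' ∈ centralizer (Q : Set G) := Subgroup.mul_mem _ (Subgroup.inv_mem _ hzQ) hzQ'
    have hcV : z⁻¹ * z' ∈ V := V.mul_mem (V.inv_mem hzV) hzV'
    have hrx : r * x * r⁻¹ = (z⁻¹ * z') * x := by
      have e1 : q' * x * q'⁻¹ = z⁻¹ * z' * y := by rw [mul_assoc z⁻¹ z' y, e]; group
      calc r * x * r⁻¹ = q⁻¹ * (q' * x * q'⁻¹) * q := by rw [hr]; group
        _ = q⁻¹ * (z⁻¹ * z') * q * x := by rw [e1, hy]; group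
        _ = z⁻¹ * z' * x := by
          rw [mul_assoc q⁻¹ (z⁻¹ * z') q, ← Subgroup.mem_centralizer_iff.mp hcQ q hq, inv_mul_cancel_left]
    have hrcomm : Commute r x := commute_of_translate hrx
      (Subgroup.mem_centralizer_iff.mp hcQ r hrQ) (orderOf_coprime_of_mem hrQ hcV hcop')
    have hzz : z = z' := by
      rw [hrcomm.eq, mul_inv_cancel_right, right_eq_mul] at hrx
      exact (inv_mul_eq_one.mp hrx)
    calc a * (y * x⁻¹) = (a * y * a⁻¹) * (a * x * a⁻¹)⁻¹ * a := by group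
      _ = (z' * y) * (z * x)⁻¹ * a := by rw [hz, hz']
      _ = z' * (y * x⁻¹) * z'⁻¹ * a := by rw [hzz]; group
      _ = y * x⁻¹ * a := by
        rw [← (cen hzc' _ (V.mul_mem hyV (V.inv_mem hx))).eq, mul_inv_cancel_right]
  have hq1 : q * x * q⁻¹ = (y * x⁻¹) * x := by rw [hy]; group
  have := commute_of_translate hq1 (Subgroup.mem_centralizer_iff.mp (hfix hw) q hq)
    (orderOf_coprime_of_mem hq hw.1 hcop')
  exact this.eq.symm

end Cfsg.Agent.Coprime
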