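import Mathlib.GroupTheory.SchurZassenhaus
import Mathlib.GroupTheory.Sylow
import Mathlib.GroupTheory.Solvable
import Mathlib.GroupTheory.Commutator.Basic

/-!
# Coprime action, basic part

Setting: subgroups `A` (acting) and `N`/`K` (acted on) of one group `G`, with
`A ≤ Subgroup.normalizer N`, coprime orders, and one of the two solvable.

Main results:
* `exists_conj_eq_of_le_sup`: Schur–Zassenhaus conjugacy, internal form;
* `exists_conj_eq_of_isComplement'`: Schur–Zassenhaus conjugacy for complements;
* `exists_conj_le_of_le_sup`, `exists_conj_le_of_le_mul`: subgroup form of Glauberman's lemma;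
* `exists_mul_mem_centralizer`: an `A`-fixed coset `k N` contains an element centralised by `A`;
* `exists_fixed_point`, `exists_centralizer_smul_eq`: Glauberman's lemma.
-/

namespace Cfsg.Agent.Coprime

open scoped Pointwise
open Subgroup

section Tools

variable {G : Type*} [Group G]

theorem disjoint_of_coprime_card {H K : Subgroup G} [Finite G]
    (h : (Nat.card H).Coprime (Nat.card K)) : H ⊓ K = ⊥ := by
  refine (Subgroup.eq_bot_iff_forall _).2 fun x hx => ?_
  rw [mem_inf] at hx
  exact orderOf_eq_one_iff.1 (Nat.eq_one_of_dvd_coprimes h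
    (Subgroup.orderOf_dvd_natCard _ hx.1) (Subgroup.orderOf_dvd_natCard _ hx.2))

theorem mem_sup_iff_of_le_normalizer {H N : Subgroup G} (h : H ≤ normalizer (N : Set G)) {x : G} :
    x ∈ H ⊔ N ↔ ∃ a ∈ H, ∃ n ∈ N, a * n = x := by
  rw [← SetLike.mem_coe, Subgroup.coe_mul_of_left_le_normalizer_right H N h]
  exact Set.mem_mul

theorem mem_sup_iff_of_le_normalizer' {H N : Subgroup G} (h : H ≤ normalizer (N : Set G)) {x : G} :
    x ∈ H ⊔ N ↔ ∃ n ∈ N, ∃ a ∈ H, n * a = x := by
  rw [sup_comm, ← SetLike.mem_coe, Subgroup.coe_mul_of_right_le_normalizer_left N H h]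
  exact Set.mem_mul

theorem card_sup_of_le_normalizer [Finite G] {H N : Subgroup G}
    (h : H ≤ normalizer (N : Set G)) (hd : H ⊓ N = ⊥) :
    Nat.card (H ⊔ N : Subgroup G) = Nat.card H * Nat.card N := by
  rw [← Nat.card_prod]
  refine (Nat.card_congr (Equiv.ofBijective
    (fun x : H × N => (⟨(x.1 : G) * x.2, mul_mem_sup x.1.2 x.2.2⟩ : (H ⊔ N : Subgroup G)))
    ⟨?_, ?_⟩)).symm
  · intro x y hxy
    simp only [Subtype.mk.injEq] at hxy
    exact Subgroup.mul_injective_of_disjoint (disjoint_iff.2 hd) hxy
  · rintro ⟨x, hx⟩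
    obtain ⟨a, ha, n, hn, rfl⟩ := (mem_sup_iff_of_le_normalizer h).1 hx
    exact ⟨⟨⟨a, ha⟩, ⟨n, hn⟩⟩, rfl⟩

theorem mem_conj_smul_iff {g x : G} {H : Subgroup G} :
    x ∈ MulAut.conj g • H ↔ g⁻¹ * x * g ∈ H := by
  rw [Subgroup.mem_pointwise_smul_iff_inv_smul_mem, ← map_inv]
  simp [MulAut.smul_def]

theorem conj_smul_eq_self_of_mem {g : G} {H : Subgroup G} (h : g ∈ normalizer (H : Set G)) :
    MulAut.conj g • H = H := by
  ext x
  rw [mem_conj_smul_iff]
  exact (mem_normalizer_iff''.1 h x).symm

theorem conj_smul_smul (g h : G) (H : Subgroup G) :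
    MulAut.conj g • MulAut.conj h • H = MulAut.conj (g * h) • H := by
  rw [smul_smul, map_mul]

theorem card_conj_smul (g : G) (H : Subgroup G) :
    Nat.card (MulAut.conj g • H : Subgroup G) = Nat.card H :=
  Nat.card_congr (Subgroup.equivSMul _ H).toEquiv.symm

theorem map_conj_smul {G' : Type*} [Group G'] (f : G →* G') (g : G) (H : Subgroup G) :
    (MulAut.conj g • H).map f = MulAut.conj (f g) • H.map f := by
  ext x
  constructor
  · rintro ⟨y, hy, rfl⟩
    rw [SetLike.mem_coe, mem_conj_smul_iff] at hy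
    rw [mem_conj_smul_iff]
    exact ⟨_, hy, by simp⟩
  · rw [mem_conj_smul_iff]
    rintro ⟨z, hz, hz'⟩
    refine ⟨g * z * g⁻¹, ?_, ?_⟩
    · rw [SetLike.mem_coe, mem_conj_smul_iff]
      simpa [mul_assoc] using hz
    · rw [map_mul, map_mul, map_inv, hz']
      group

theorem map_sup_eq_of_map_quotient_eq {M H K : Subgroup G} [M.Normal]
    (h : H.map (QuotientGroup.mk' M) = K.map (QuotientGroup.mk' M)) : H ⊔ M = K ⊔ M := by
  have := congrArg (Subgroup.comap (QuotientGroup.mk' M)) h
  simpa [Subgroup.comap_map_eq, QuotientGroup.ker_mk'] using this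

theorem isSolvable_subgroupOf {H P : Subgroup G} (h : H ≤ P) (hs : Group.IsSolvable H) :
    Group.IsSolvable (H.subgroupOf P) :=
  Group.isSolvable_of_isSolvable_injective
    (f := (Subgroup.subgroupOfEquivOfLe h).toMonoidHom) (MulEquiv.injective _)

theorem isSolvable_map {G' : Type*} [Group G'] (f : G →* G') (H : Subgroup G)
    (hs : Group.IsSolvable H) : Group.IsSolvable (H.map f) :=
  Group.isSolvable_of_surjective (MonoidHom.subgroupMap_surjective f H)

theorem isSolvable_of_le {H P : Subgroup G} (h : H ≤ P) (hs : Group.IsSolvable P) :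
    Group.IsSolvable H :=
  Group.isSolvable_of_isSolvable_injective (f := Subgroup.inclusion h)
    (Subgroup.inclusion_injective h)

theorem normal_subgroupOf_of_le_normalizer {H P : Subgroup G}
    (h : P ≤ normalizer (H : Set G)) : (H.subgroupOf P).Normal :=
  ⟨fun x hx w => by
    simpa [mem_subgroupOf] using (mem_normalizer_iff.1 (h w.2) _).1 hx⟩

theorem relIndex_sup_right_of_le_normalizer {H K : Subgroup G}
    (h : H ≤ normalizer (K : Set G)) : K.relIndex (H ⊔ K) = K.relIndex H := by
  have := normal_subgroupOf_of_le_normalizer (H := K) (P := H ⊔ K) (sup_le h le_normalizer)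
  have h1 := relIndex_sup_right (H.subgroupOf (H ⊔ K)) (K.subgroupOf (H ⊔ K))
  rwa [← subgroupOf_sup le_sup_left le_sup_right, relIndex_subgroupOf le_rfl,
    relIndex_subgroupOf le_sup_left] at h1

theorem card_subgroupOf {H P : Subgroup G} (h : H ≤ P) :
    Nat.card (H.subgroupOf P) = Nat.card H :=
  Nat.card_congr (Subgroup.subgroupOfEquivOfLe h).toEquiv

theorem conj_smul_of_subgroupOf {P H K : Subgroup G} (hH : H ≤ P) (hK : K ≤ P) (g : P)
    (h : MulAut.conj g • H.subgroupOf P = K.subgroupOf P) : MulAut.conj (g : G) • H = K := by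
  have := congrArg (Subgroup.map P.subtype) h
  rwa [map_conj_smul, map_subgroupOf_eq_of_le hH, map_subgroupOf_eq_of_le hK] at this

theorem coe_normalizer_subgroupOf_le {P N H : Subgroup G} (hN : N ≤ P)
    (h : H ≤ normalizer (N : Set G)) :
    H.subgroupOf P ≤ normalizer ((N.subgroupOf P : Subgroup P) : Set P) := by
  intro x hx
  rw [mem_normalizer_iff]
  intro y
  simp only [mem_subgroupOf, Subgroup.coe_mul, Subgroup.coe_inv, SetLike.mem_coe]
  exact mem_normalizer_iff.1 (h hx) y

end Tools

section SchurZassenhaus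

/-- Conjugacy of coprime complements, abelian kernel. -/
theorem exists_conj_eq_of_le_sup_of_comm {G : Type*} [Group G] [Finite G] (N H K : Subgroup G)
    [IsMulCommutative N] (hH : H ≤ normalizer (N : Set G)) (hK : K ≤ H ⊔ N)
    (hcard : Nat.card K = Nat.card H) (hcop : (Nat.card H).Coprime (Nat.card N)) :
    ∃ g ∈ N, MulAut.conj g • H = K := by
  classical
  have hKN : K ⊓ N = ⊥ := disjoint_of_coprime_card (hcard ▸ hcop)
  -- the bijection between `K` and `H`
  have hdec : ∀ k : K, ∃ h : H, (k : G) * (h : G)⁻¹ ∈ N := by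
    intro k
    obtain ⟨n, hn, a, ha, hna⟩ := (mem_sup_iff_of_le_normalizer' hH).1 (hK k.2)
    exact ⟨⟨a, ha⟩, by simpa [← hna] using hn⟩
  choose φ hφ using hdec
  have hφinj : Function.Injective φ := by
    intro k₁ k₂ h12
    have : (k₁ : G) * (k₂ : G)⁻¹ ∈ K ⊓ N := by
      refine mem_inf.2 ⟨mul_mem k₁.2 (inv_mem k₂.2), ?_⟩
      have := mul_mem (hφ k₁) (inv_mem (hφ k₂))
      rw [h12] at this
      convert this using 1
      group
    rw [hKN, mem_bot, mul_inv_eq_one] at this
    exact Subtype.ext this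
  have hφbij : Function.Bijective φ :=
    (Nat.bijective_iff_injective_and_card φ).2 ⟨hφinj, hcard⟩
  have hsec : ∀ h : H, ∃ n : N, (n : G) * h ∈ K := by
    intro h
    obtain ⟨k, rfl⟩ := hφbij.2 h
    exact ⟨⟨_, hφ k⟩, by simp⟩
  choose f hf using hsec
  -- cocycle identity
  have hco : ∀ a b : H, (f (a * b) : G) = f a * (a * f b * (a : G)⁻¹) := by
    intro a b
    have hmemN : (f a : G) * (a * f b * (a : G)⁻¹) ∈ N :=
      mul_mem (f a).2 ((mem_normalizer_iff.1 (hH a.2) _).1 (f b).2)
    have h1 : ((f a : G) * (a * f b * (a : G)⁻¹)) * (f (a * b) : G)⁻¹ ∈ K ⊓ N := by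
      refine mem_inf.2 ⟨?_, mul_mem hmemN (inv_mem (f _).2)⟩
      have := mul_mem (mul_mem (hf a) (hf b)) (inv_mem (hf (a * b)))
      convert this using 1
      simp only [Subgroup.coe_mul]
      group
    rw [hKN, mem_bot, mul_inv_eq_one] at h1
    exact h1.symm
  open scoped IsMulCommutative in
  have : ∃ d : N, ∀ a : H, (f a : G) = d * (a * (d : G)⁻¹ * (a : G)⁻¹) := by
    have := Fintype.ofFinite H
    let c : N := ∏ b : H, f b
    let act : H → N →* N := fun a =>
      { toFun := fun n => ⟨a * n * (a : G)⁻¹, (mem_normalizer_iff.1 (hH a.2) _).1 n.2⟩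
        map_one' := by ext; simp
        map_mul' := fun m n => by ext; simp [mul_assoc] }
    have hco' : ∀ a b : H, f (a * b) = f a * act a (f b) := fun a b => Subtype.ext (hco a b)
    have hc : ∀ a : H, c = f a ^ Nat.card H * act a c := by
      intro a
      calc c = ∏ b : H, f (a * b) :=
            (Fintype.prod_equiv (Equiv.mulLeft a) (fun b => f (a * b)) f (fun _ => rfl)).symm
        _ = ∏ b : H, f a * act a (f b) := by simp_rw [hco']
        _ = _ := by
            rw [Finset.prod_mul_distrib, Finset.prod_const, Finset.card_univ,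
              Fintype.card_eq_nat_card, ← map_prod]
    obtain ⟨d, hd⟩ := (powCoprime hcop.symm).surjective c
    refine ⟨d, fun a => ?_⟩
    have hd' : d ^ Nat.card H = c := hd
    have h2 : f a ^ Nat.card H = (d * (act a d)⁻¹) ^ Nat.card H := by
      rw [mul_pow, inv_pow, ← map_pow, hd', eq_mul_inv_iff_mul_eq]
      exact (hc a).symm
    have h3 : f a = d * (act a d)⁻¹ := (powCoprime hcop.symm).injective h2
    rw [h3]
    simp [act, mul_assoc]
  obtain ⟨d, hd⟩ := this
  refine ⟨d, d.2, ?_⟩
  refine SetLike.coe_injective (Set.eq_of_subset_of_ncard_le ?_ ?_ (Set.toFinite _))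
  · intro x hx
    rw [SetLike.mem_coe, mem_conj_smul_iff] at hx
    have := hf ⟨_, hx⟩
    rw [hd] at this
    rw [SetLike.mem_coe]
    convert this using 1
    group
  · rw [← Nat.card_coe_set_eq, ← Nat.card_coe_set_eq]
    exact (hcard.trans (card_conj_smul _ _).symm).le

/-- A nontrivial solvable finite group has a nontrivial normal subgroup of prime power order. -/
theorem exists_normal_isPGroup {G : Type*} [Group G] [Finite G] [Group.IsSolvable G]
    [Nontrivial G] :
    ∃ (p : ℕ) (M : Subgroup G), p.Prime ∧ M.Normal ∧ M ≠ ⊥ ∧ IsPGroup p M := by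
  classical
  have hex : ∃ n, derivedSeries G n = ⊥ := Group.IsSolvable.solvable
  obtain ⟨n, hn⟩ : ∃ n, Nat.find hex = n + 1 := by
    refine Nat.exists_eq_succ_of_ne_zero fun h0 => ?_
    have := Nat.find_spec hex
    rw [h0, derivedSeries_zero] at this
    exact bot_ne_top this.symm
  set A := derivedSeries G n with hA
  have hA1 : A ≠ ⊥ := Nat.find_min hex (by omega)
  have hA2 : ⁅A, A⁆ = ⊥ := by
    have := Nat.find_spec hex
    rwa [hn, derivedSeries_succ] at this
  have : IsMulCommutative A := commutator_self_eq_bot_iff.1 hA2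
  have : A.Normal := derivedSeries_normal G n
  have hcard : Nat.card A ≠ 1 := fun h => hA1 (Subgroup.card_eq_one.1 h)
  obtain ⟨p, hp, hpd⟩ := Nat.exists_prime_and_dvd hcard
  have := Fact.mk hp
  let P : Sylow p A := default
  have hPn : (P : Subgroup A).Normal := Subgroup.normal_of_isMulCommutative _
  have : (P : Subgroup A).Characteristic := Sylow.characteristic_of_normal P hPn
  refine ⟨p, (P : Subgroup A).map A.subtype, hp, inferInstance, ?_, P.2.map _⟩
  rw [Ne, map_eq_bot_iff_of_injective _ A.subtype_injective]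
  exact P.ne_bot_of_dvd_card hpd

private def ConjStatement (G : Type*) [Group G] : Prop :=
  ∀ N H K : Subgroup G, H ≤ normalizer (N : Set G) → K ≤ H ⊔ N → Nat.card K = Nat.card H →
    (Nat.card H).Coprime (Nat.card N) → Group.IsSolvable N ∨ Group.IsSolvable H →
    ∃ g ∈ N, MulAut.conj g • H = K

private theorem conj_in_subgroup {G : Type*} [Group G] {P N H K : Subgroup G}
    (hP : ConjStatement P) (hN : N ≤ P) (hHP : H ≤ P) (hKP : K ≤ P)
    (hH : H ≤ normalizer (N : Set G)) (hK : K ≤ H ⊔ N)
    (hcard : Nat.card K = Nat.card H) (hcop : (Nat.card H).Coprime (Nat.card N))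
    (hs : Group.IsSolvable N ∨ Group.IsSolvable H) : ∃ g ∈ N, MulAut.conj g • H = K := by
  obtain ⟨g, hg, hgK⟩ := hP (N.subgroupOf P) (H.subgroupOf P) (K.subgroupOf P)
    (coe_normalizer_subgroupOf_le hN hH)
    (by
      rw [← subgroupOf_sup hHP hN]
      exact fun x hx => hK hx)
    (by rw [card_subgroupOf hKP, card_subgroupOf hHP, hcard])
    (by rw [card_subgroupOf hHP, card_subgroupOf hN]; exact hcop)
    (hs.imp (isSolvable_subgroupOf hN) (isSolvable_subgroupOf hHP))
  exact ⟨g, hg, conj_smul_of_subgroupOf hHP hKP g hgK⟩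

private theorem conj_in_quotient {G : Type*} [Group G] [Finite G] {M N H K : Subgroup G}
    [M.Normal] (hQ : ConjStatement (G ⧸ M)) [N.Normal] (hK : K ≤ H ⊔ N)
    (hcard : Nat.card (K.map (QuotientGroup.mk' M)) = Nat.card (H.map (QuotientGroup.mk' M)))
    (hcop : (Nat.card H).Coprime (Nat.card N))
    (hs : Group.IsSolvable N ∨ Group.IsSolvable H) :
    ∃ g ∈ N, MulAut.conj g • H ⊔ M = K ⊔ M := by
  obtain ⟨g, hg, hgK⟩ := hQ (N.map (QuotientGroup.mk' M)) (H.map (QuotientGroup.mk' M))
    (K.map (QuotientGroup.mk' M))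
    (by
      have : (N.map (QuotientGroup.mk' M)).Normal :=
        Subgroup.Normal.map inferInstance _ (QuotientGroup.mk'_surjective M)
      rw [normalizer_eq_top]; exact le_top)
    (by rw [← Subgroup.map_sup]; exact map_mono hK) hcard
    ((hcop.coprime_dvd_left (card_map_dvd H _)).coprime_dvd_right (card_map_dvd N _))
    (hs.imp (isSolvable_map _ _) (isSolvable_map _ _))
  obtain ⟨n, hn, rfl⟩ := hg
  refine ⟨n, hn, map_sup_eq_of_map_quotient_eq ?_⟩
  rw [map_conj_smul, hgK]

private theorem conjStatement.{u} : ∀ (n : ℕ) {G : Type u} [Group G] [Finite G],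
    Nat.card G = n → ConjStatement G := by
  intro n
  induction n using Nat.strong_induction_on with
  | _ n ih =>
    intro G _ _ hn N H K hH hK hcard hcop hs
    have ihs : ∀ P : Subgroup G, P ≠ ⊤ → ConjStatement P := fun P hP =>
      ih _ (hn ▸ lt_of_le_of_ne P.card_le_card_group fun h => hP (P.eq_top_of_card_eq h)) rfl
    have ihq : ∀ M : Subgroup G, [M.Normal] → M ≠ ⊥ → ConjStatement (G ⧸ M) := fun M _ hM => by
      refine ih _ (hn ▸ ?_) rfl
      rw [M.card_eq_card_quotient_mul_card_subgroup]
      exact lt_mul_of_one_lt_right Nat.card_pos (M.one_lt_card_iff_ne_bot.2 hM)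
    by_cases hP : H ⊔ N = ⊤
    swap
    · exact conj_in_subgroup (ihs _ hP) le_sup_right le_sup_left hK hH hK hcard hcop hs
    have hNn : N.Normal := by
      rw [← normalizer_eq_top_iff, eq_top_iff, ← hP]
      exact sup_le hH le_normalizer
    have hKN : K ⊓ N = ⊥ := disjoint_of_coprime_card (hcard ▸ hcop)
    have hHN : H ⊓ N = ⊥ := disjoint_of_coprime_card hcop
    have hcardG : Nat.card G = Nat.card H * Nat.card N := by
      rw [← card_sup_of_le_normalizer hH hHN, hP, Nat.card_congr Subgroup.topEquiv.toEquiv]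
    have hKtop : K ⊔ N = ⊤ := by
      refine eq_top_of_card_eq _ ?_
      rw [card_sup_of_le_normalizer (by rw [normalizer_eq_top]; exact le_top) hKN, hcard, hcardG]
    by_cases hN : Group.IsSolvable N
    · by_cases hcomm : IsMulCommutative N
      · exact exists_conj_eq_of_le_sup_of_comm N H K hH hK hcard hcop
      let M : Subgroup G := ⁅N, N⁆
      have : M.Normal := commutator_normal N N
      have hMne : M ≠ ⊥ := fun h => hcomm (commutator_self_eq_bot_iff.1 h)
      have hMN : M ≤ N := N.commutator_le_self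
      have hNbot : N ≠ ⊥ := by
        rintro rfl
        exact hMne (eq_bot_iff.2 hMN)
      have hMlt : M < N := by
        refine lt_of_le_of_ne hMN fun he => hNbot ?_
        rw [eq_bot_iff]
        intro x hx
        have := hN
        by_contra hx1
        have : Nontrivial N := ⟨⟨⟨x, hx⟩, 1, fun h => hx1 (by simpa using congrArg Subtype.val h)⟩⟩
        refine (Group.IsSolvable.commutator_lt_top_of_nontrivial (G := N)).ne ?_
        apply map_injective N.subtype_injective
        rw [map_subtype_commutator, ← MonoidHom.range_eq_map, range_subtype]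
        exact he
      have hinj : ∀ L : Subgroup G, L ⊓ N = ⊥ →
          Nat.card (L.map (QuotientGroup.mk' M)) = Nat.card L := by
        intro L hL
        rw [← SetLike.coe_sort_coe, coe_map]
        refine Nat.card_image_of_injOn fun x hx y hy hxy => ?_
        rw [QuotientGroup.mk'_apply, QuotientGroup.mk'_apply, QuotientGroup.eq] at hxy
        have : x⁻¹ * y ∈ L ⊓ N := mem_inf.2 ⟨mul_mem (inv_mem hx) hy, hMN hxy⟩
        rw [hL, mem_bot, inv_mul_eq_one] at this
        exact this
      obtain ⟨g, hg, hgK⟩ := conj_in_quotient (ihq M hMne) hK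
        (by rw [hinj K hKN, hinj H hHN, hcard]) hcop hs
      have hne : K ⊔ M ≠ ⊤ := by
        intro htop
        have hc := card_sup_of_le_normalizer (H := K) (N := M)
          (by rw [normalizer_eq_top]; exact le_top)
          (eq_bot_iff.2 fun x hx => hKN.le ⟨hx.1, hMN hx.2⟩)
        rw [htop, Nat.card_congr Subgroup.topEquiv.toEquiv, hcardG, hcard] at hc
        exact hMlt.ne (Subgroup.eq_of_le_of_card_ge hMN
          (Nat.eq_of_mul_eq_mul_left Nat.card_pos hc).le)
      obtain ⟨m, hm, hmK⟩ := conj_in_subgroup (N := M) (H := MulAut.conj g • H) (K := K)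
        (ihs _ hne) le_sup_right (hgK ▸ le_sup_left) le_sup_left
        (by rw [normalizer_eq_top]; exact le_top) (hgK ▸ le_sup_left)
        (by rw [card_conj_smul, hcard])
        (by rw [card_conj_smul]; exact hcop.coprime_dvd_right (card_dvd_of_le hMN))
        (Or.inl (isSolvable_of_le hMN hN))
      exact ⟨m * g, mul_mem (hMN hm) hg, by rw [← conj_smul_smul, hmK]⟩
    · have hHs : Group.IsSolvable H := hs.resolve_left hN
      by_cases hH1 : H = ⊥
      · subst hH1
        refine ⟨1, one_mem _, ?_⟩
        rw [map_one, one_smul]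
        rw [Subgroup.card_bot] at hcard
        exact (Subgroup.card_eq_one.1 hcard).symm
      have := Subgroup.nontrivial_iff_ne_bot H |>.2 hH1
      obtain ⟨p, M₀, hp, hM₀n, hM₀ne, hM₀p⟩ := exists_normal_isPGroup (G := H)
      have := Fact.mk hp
      let M : Subgroup G := M₀.map H.subtype
      have hMH : M ≤ H := map_subtype_le M₀
      have hMne : M ≠ ⊥ := by rwa [Ne, map_eq_bot_iff_of_injective _ H.subtype_injective]
      have hMp : IsPGroup p M := hM₀p.map _
      have hHM : H ≤ normalizer (M : Set G) := by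
        have := le_normalizer_map (H := M₀) H.subtype
        rw [normalizer_eq_top, ← MonoidHom.range_eq_map, range_subtype] at this
        exact this
      let Q : Subgroup G := M ⊔ N
      have hMN : M ⊓ N = ⊥ := eq_bot_iff.2 fun x hx => hHN.le ⟨hMH hx.1, hx.2⟩
      have hcQ : Nat.card Q = Nat.card M * Nat.card N :=
        card_sup_of_le_normalizer (hMH.trans hH) hMN
      -- the subgroup of `K` above `M`
      let M' : Subgroup G := K ⊓ Q
      have hM'N : M' ⊓ N = ⊥ := eq_bot_iff.2 fun x hx => hKN.le ⟨hx.1.1, hx.2⟩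
      have hM'Q : M' ⊔ N = Q := by
        refine le_antisymm (sup_le inf_le_right le_sup_right) fun x hx => ?_
        obtain ⟨k, hk, n, hn', rfl⟩ := (mem_sup_iff_of_le_normalizer (H := K) (N := N)
          (by rw [normalizer_eq_top]; exact le_top)).1 (hKtop ▸ mem_top x)
        refine mul_mem_sup ⟨hk, ?_⟩ hn'
        have := mul_mem hx (inv_mem (mem_sup_right hn' : n ∈ Q))
        rwa [mul_inv_cancel_right] at this
      have hcM' : Nat.card M' = Nat.card M := by
        have := card_sup_of_le_normalizer (H := M') (N := N)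
          (by rw [normalizer_eq_top]; exact le_top) hM'N
        rw [hM'Q, hcQ] at this
        exact (Nat.eq_of_mul_eq_mul_right Nat.card_pos this).symm
      obtain ⟨e, he⟩ := hMp.exists_card_eq
      have hndvd : ¬ p ∣ Nat.card N := by
        intro hd
        have h1 : p ∣ Nat.card M := by
          rcases Nat.eq_zero_or_pos e with h0 | h0
          · exact absurd (Subgroup.card_eq_one.1 (by simpa [h0] using he)) hMne
          · exact he ▸ dvd_pow_self p h0.ne'
        exact hp.ne_one (Nat.eq_one_of_dvd_coprimes hcop (h1.trans (card_dvd_of_le hMH)) hd)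
      have hfac : p ^ (Nat.card Q).factorization p = p ^ e := by
        rw [hcQ, he, Nat.factorization_mul (pow_ne_zero _ hp.ne_zero) Nat.card_pos.ne',
          Finsupp.add_apply, hp.factorization_pow, Finsupp.single_eq_same,
          Nat.factorization_eq_zero_of_not_dvd hndvd, add_zero]
      let S : Sylow p Q := Sylow.ofCard (M.subgroupOf Q)
        (by rw [card_subgroupOf le_sup_left, hfac, he])
      let S' : Sylow p Q := Sylow.ofCard (M'.subgroupOf Q)
        (by rw [card_subgroupOf inf_le_right, hfac, hcM', he])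
      obtain ⟨x, hx⟩ := MulAction.exists_smul_eq Q S S'
      have hx' : MulAut.conj (x : G) • M = M' := by
        refine conj_smul_of_subgroupOf le_sup_left inf_le_right x ?_
        have := congrArg (fun T : Sylow p Q => (T : Subgroup Q)) hx
        simp only [Sylow.smul_def] at this
        exact this
      obtain ⟨n₀, hn₀, m₀, hm₀, hx0⟩ :=
        (mem_sup_iff_of_le_normalizer' (H := M) (N := N) (hMH.trans hH)).1 x.2
      have hn₀M : MulAut.conj n₀ • M = M' := by
        rw [← hx', ← hx0, ← conj_smul_smul n₀ m₀, conj_smul_eq_self_of_mem (le_normalizer hm₀)]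
      let H₁ : Subgroup G := MulAut.conj n₀ • H
      have hM'H₁ : M' ≤ H₁ := hn₀M ▸ Subgroup.pointwise_smul_le_pointwise_smul_iff.2 hMH
      have hH₁c : Nat.card H₁ = Nat.card H := card_conj_smul _ _
      let W : Subgroup G := normalizer (M' : Set G)
      have hH₁W : H₁ ≤ W := by
        intro y hy
        rw [mem_normalizer_iff]
        intro z
        rw [mem_conj_smul_iff] at hy
        have := mem_normalizer_iff.1 (hHM hy) (n₀⁻¹ * z * n₀)
        simp only [SetLike.mem_coe, ← hn₀M, mem_conj_smul_iff] at this ⊢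
        rw [this]
        exact iff_of_eq (congrArg (· ∈ M) (by group))
      have hKW : K ≤ W := by
        intro k hk
        have hQn : Q.Normal := by
          rw [← normalizer_eq_top_iff, eq_top_iff, ← hP]
          refine sup_le (fun h hh => ?_) (le_sup_right.trans le_normalizer)
          rw [mem_normalizer_iff]
          intro z
          have hself := conj_smul_eq_self_of_mem (hHM hh)
          have hselfN := conj_smul_eq_self_of_mem (hH hh)
          have : MulAut.conj h • Q = Q := by rw [Subgroup.smul_sup, hself, hselfN]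
          constructor
          · intro hz
            rw [← this, mem_conj_smul_iff]
            convert hz using 1
            group
          · intro hz
            rw [← this, mem_conj_smul_iff] at hz
            convert hz using 1
            group
        rw [mem_normalizer_iff]
        intro z
        simp only [SetLike.mem_coe, M', mem_inf]
        refine and_congr ?_ ?_
        · rw [K.mul_mem_cancel_right (inv_mem hk), K.mul_mem_cancel_left hk]
        · exact mem_normalizer_iff.1 (by rw [normalizer_eq_top]; exact mem_top k) z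
      have hH₁N : H₁ ⊔ (N ⊓ W) = W := by
        refine le_antisymm (sup_le hH₁W inf_le_right) fun w hw => ?_
        have htop : H₁ ⊔ N = ⊤ := by
          refine eq_top_of_card_eq _ ?_
          rw [card_sup_of_le_normalizer (by rw [normalizer_eq_top]; exact le_top), hH₁c, hcardG]
          exact disjoint_of_coprime_card (hH₁c ▸ hcop)
        obtain ⟨a, ha, b, hb, rfl⟩ := (mem_sup_iff_of_le_normalizer (H := H₁) (N := N)
          (by rw [normalizer_eq_top]; exact le_top)).1 (htop ▸ mem_top w)
        refine mul_mem_sup ha ⟨hb, ?_⟩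
        have := mul_mem (inv_mem (hH₁W ha)) hw
        rwa [inv_mul_cancel_left] at this
      have hsH₁ : Group.IsSolvable H₁ :=
        Group.isSolvable_of_surjective (Subgroup.equivSMul (MulAut.conj n₀) H).surjective
          (f := (Subgroup.equivSMul (MulAut.conj n₀) H).toMonoidHom)
      by_cases hW : W = ⊤
      · have : M'.Normal := normalizer_eq_top_iff.1 hW
        have hM'ne : M' ≠ ⊥ := fun h => hMne (Subgroup.card_eq_one.1 (by
          rw [← hcM', h, Subgroup.card_bot]))
        have hquot : ∀ L : Subgroup G, M' ≤ L →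
            Nat.card (L.map (QuotientGroup.mk' M')) * Nat.card M' = Nat.card L := by
          intro L hL
          rw [← (M'.subgroupOf L).index_mul_card, card_subgroupOf hL]
          congr 1
          rw [← relIndex_bot_left (L.map _), ← relIndex_comap, MonoidHom.comap_bot,
            QuotientGroup.ker_mk', ← Subgroup.relIndex]
        obtain ⟨g, hg, hgK⟩ := conj_in_quotient (ihq M' hM'ne) (H := H₁) (K := K) (N := N)
          (by rw [show H₁ ⊔ N = ⊤ from top_unique (hW ▸ hH₁N ▸ sup_le_sup_left inf_le_left H₁)]; exact le_top)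
          (Nat.eq_of_mul_eq_mul_right Nat.card_pos (by
            rw [hquot K inf_le_left, hquot H₁ hM'H₁, hcard, hH₁c]))
          (hH₁c ▸ hcop) (Or.inr hsH₁)
        refine ⟨g * n₀, mul_mem hg hn₀, ?_⟩
        rw [← conj_smul_smul]
        rw [sup_of_le_left (show M' ≤ MulAut.conj g • H₁ by
            rw [← conj_smul_eq_self_of_mem (hW ▸ mem_top g : g ∈ W)]
            exact Subgroup.pointwise_smul_le_pointwise_smul_iff.2 hM'H₁),
          sup_of_le_left (inf_le_left : M' ≤ K)] at hgK
        exact hgK
      · obtain ⟨g, hg, hgK⟩ := conj_in_subgroup (N := N ⊓ W) (H := H₁) (K := K) (ihs _ hW)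
          inf_le_right hH₁W hKW
          (fun y hy => inf_normalizer_le_normalizer_inf
            ⟨by rw [normalizer_eq_top]; exact mem_top y, le_normalizer (hH₁W hy)⟩)
          (hKW.trans hH₁N.ge) (hcard.trans hH₁c.symm)
          (hH₁c ▸ hcop.coprime_dvd_right (card_dvd_of_le inf_le_left)) (Or.inr hsH₁)
        exact ⟨g * n₀, mul_mem hg.1 hn₀, by rw [← conj_smul_smul]; exact hgK⟩

/-- **Schur–Zassenhaus conjugacy**, internal form. -/
theorem exists_conj_eq_of_le_sup {G : Type*} [Group G] [Finite G] {N H K : Subgroup G}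
    (hH : H ≤ normalizer (N : Set G)) (hK : K ≤ H ⊔ N) (hcard : Nat.card K = Nat.card H)
    (hcop : (Nat.card H).Coprime (Nat.card N))
    (hs : Group.IsSolvable N ∨ Group.IsSolvable H) : ∃ g ∈ N, MulAut.conj g • H = K :=
  conjStatement (Nat.card G) rfl N H K hH hK hcard hcop hs

/-- **Schur–Zassenhaus conjugacy** for complements; the conjugating element is in `N`. -/
theorem exists_conj_eq_of_isComplement' {G : Type*} [Group G] [Finite G] {N : Subgroup G}
    [N.Normal] (hN : (Nat.card N).Coprime N.index)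
    (hs : Group.IsSolvable N ∨ Group.IsSolvable (G ⧸ N)) {H K : Subgroup G}
    (hH : Subgroup.IsComplement' N H) (hK : Subgroup.IsComplement' N K) :
    ∃ g ∈ N, MulAut.conj g • H = K := by
  have h1 : N.index = Nat.card H := hH.symm.index_eq_card
  have h2 : N.index = Nat.card K := hK.symm.index_eq_card
  refine exists_conj_eq_of_le_sup (by rw [normalizer_eq_top]; exact le_top) ?_ (h2.symm.trans h1)
    (h1 ▸ hN.symm) (hs.imp_right fun hq => ?_)
  · rw [hH.symm.sup_eq_top]; exact le_top
  · have := hq
    exact Group.isSolvable_of_surjective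
      (f := (hH.symm.QuotientMulEquiv).toMonoidHom) (MulEquiv.surjective _)

end SchurZassenhaus

section Glauberman

variable {G : Type*} [Group G] [Finite G]

/-- An element of `N_G(A)` that moves every element of `A` only inside a coset of a subgroup
meeting `A` trivially centralises `A`. -/
theorem mem_centralizer_of_conj_mem {A : Subgroup G} {c : G}
    (hc : c ∈ normalizer (A : Set G)) {L : Subgroup G} (hL : A ⊓ L = ⊥)
    (h : ∀ a ∈ A, a * c * a⁻¹ * c⁻¹ ∈ L) : c ∈ centralizer (A : Set G) := by
  rw [mem_centralizer_iff]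
  intro a ha
  have h1 : a * c * a⁻¹ * c⁻¹ ∈ A ⊓ L := by
    refine mem_inf.2 ⟨?_, h a ha⟩
    have := mul_mem ha ((mem_normalizer_iff.1 hc _).1 (inv_mem ha))
    simpa [mul_assoc] using this
  rw [hL, mem_bot, mul_inv_eq_one, mul_inv_eq_iff_eq_mul] at h1
  exact h1

/-- If the left coset `k N` is fixed by `A`, it contains an element centralised by `A`.
Only the coprimality of `A` with `N` is needed. -/
theorem exists_mul_mem_centralizer {A N : Subgroup G} (hAN : A ≤ normalizer (N : Set G))
    (hcop : (Nat.card A).Coprime (Nat.card N))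
    (hs : Group.IsSolvable A ∨ Group.IsSolvable N) {k : G}
    (hk : ∀ a ∈ A, k⁻¹ * a * k * a⁻¹ ∈ N) :
    ∃ n ∈ N, k * n ∈ centralizer (A : Set G) := by
  have hle : MulAut.conj k⁻¹ • A ≤ A ⊔ N := by
    intro x hx
    rw [mem_conj_smul_iff, inv_inv] at hx
    have h1 := hk _ hx
    have h2 := mul_mem (mem_sup_right h1 : _ ∈ A ⊔ N) (mem_sup_left hx : _ ∈ A ⊔ N)
    convert h2 using 1
    group
  obtain ⟨n, hn, hnA⟩ := exists_conj_eq_of_le_sup hAN hle (card_conj_smul _ _) hcop hs.symm
  refine ⟨n, hn, mem_centralizer_of_conj_mem (L := MulAut.conj k • N) ?_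
    (disjoint_of_coprime_card (by rwa [card_conj_smul])) fun a ha => ?_⟩
  · rw [mem_normalizer_iff]
    intro x
    have h1 : MulAut.conj (k * n) • A = A := by
      rw [← conj_smul_smul, hnA, conj_smul_smul, mul_inv_cancel, map_one, one_smul]
    conv_rhs => rw [← h1, mem_conj_smul_iff]
    exact iff_of_eq (congrArg (· ∈ A) (by group))
  · rw [mem_conj_smul_iff]
    have h1 := hk a ha
    have h2 := mul_mem (mul_mem h1 ((mem_normalizer_iff.1 (hAN ha) n).1 hn)) (inv_mem hn)
    convert h2 using 1
    group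

/-- Version for elements of `K` in which the hypotheses are those of coprime action. -/
theorem exists_mem_inf_centralizer_leftCoset {A K N : Subgroup G}
    (hAN : A ≤ normalizer (N : Set G)) (hNK : N ≤ K) (hcop : (Nat.card A).Coprime (Nat.card K))
    (hs : Group.IsSolvable A ∨ Group.IsSolvable K) {k : G} (hkK : k ∈ K)
    (hk : ∀ a ∈ A, k⁻¹ * a * k * a⁻¹ ∈ N) :
    ∃ c ∈ K ⊓ centralizer (A : Set G), k⁻¹ * c ∈ N := by
  obtain ⟨n, hn, hc⟩ := exists_mul_mem_centralizer hAN
    (hcop.coprime_dvd_right (card_dvd_of_le hNK)) (hs.imp_right (isSolvable_of_le hNK)) hk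
  exact ⟨k * n, ⟨mul_mem hkK (hNK hn), hc⟩, by simpa using hn⟩

/-- Schur–Zassenhaus in "containment up to conjugacy" form: a subgroup `B` of `A N` of order
prime to `N` lies in a conjugate of `A`. -/
theorem exists_le_conj_of_le_sup {A N B : Subgroup G} (hAN : A ≤ normalizer (N : Set G))
    (hB : B ≤ A ⊔ N) (hcopA : (Nat.card A).Coprime (Nat.card N))
    (hcopB : (Nat.card B).Coprime (Nat.card N))
    (hs : Group.IsSolvable A ∨ Group.IsSolvable N) :
    ∃ n ∈ N, B ≤ MulAut.conj n • A := by
  have hAN' : A ⊔ N ≤ normalizer (N : Set G) := sup_le hAN le_normalizer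
  let A₀ : Subgroup G := A ⊓ (B ⊔ N)
  have hA₀N : A₀ ≤ normalizer (N : Set G) := inf_le_left.trans hAN
  have hBA₀ : B ≤ A₀ ⊔ N := by
    intro b hb
    obtain ⟨a, ha, n, hn, rfl⟩ := (mem_sup_iff_of_le_normalizer hAN).1 (hB hb)
    refine mul_mem_sup ⟨ha, ?_⟩ hn
    simpa using mul_mem (mem_sup_left hb : _ ∈ B ⊔ N) (inv_mem (mem_sup_right hn : n ∈ B ⊔ N))
  have hcA₀ : (Nat.card A₀).Coprime (Nat.card N) :=
    hcopA.coprime_dvd_left (card_dvd_of_le inf_le_left)
  have heq : A₀ ⊔ N = B ⊔ N :=
    le_antisymm (sup_le inf_le_right le_sup_right) (sup_le hBA₀ le_sup_right)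
  have hc : Nat.card B = Nat.card A₀ := by
    have h1 := card_sup_of_le_normalizer hA₀N (disjoint_of_coprime_card hcA₀)
    have h2 := card_sup_of_le_normalizer (hB.trans hAN') (disjoint_of_coprime_card hcopB)
    rw [heq, h2] at h1
    exact Nat.eq_of_mul_eq_mul_right Nat.card_pos h1
  obtain ⟨n, hn, hnB⟩ := exists_conj_eq_of_le_sup hA₀N hBA₀ hc hcA₀
    (hs.symm.imp_right (isSolvable_of_le inf_le_left))
  exact ⟨n, hn, hnB.ge.trans (Subgroup.pointwise_smul_le_pointwise_smul_iff.2 inf_le_left)⟩

/-- Subgroup form of Glauberman's lemma: if `A ⊆ K W` for a subgroup `W`, then `A` lies in a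
`K`-conjugate of `W`. -/
theorem exists_conj_le_of_le_mul {A K W : Subgroup G} (hAK : A ≤ normalizer (K : Set G))
    (hcop : (Nat.card A).Coprime (Nat.card K))
    (hs : Group.IsSolvable A ∨ Group.IsSolvable K)
    (hW : ∀ a ∈ A, ∃ k ∈ K, k⁻¹ * a ∈ W) : ∃ k ∈ K, A ≤ MulAut.conj k • W := by
  let W' : Subgroup G := W ⊓ (A ⊔ K)
  have hGK : A ⊔ K ≤ normalizer (K : Set G) := sup_le hAK le_normalizer
  let N' : Subgroup W' := K.subgroupOf W'
  have hN'n : N'.Normal := normal_subgroupOf_of_le_normalizer (inf_le_right.trans hGK)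
  have hWK : W' ⊔ K = A ⊔ K := by
    refine le_antisymm (sup_le inf_le_right le_sup_right) (sup_le (fun a ha => ?_) le_sup_right)
    obtain ⟨k, hk, hkW⟩ := hW a ha
    have h1 : k⁻¹ * a ∈ W' :=
      ⟨hkW, mul_mem (mem_sup_right (inv_mem hk)) (mem_sup_left ha)⟩
    simpa using mul_mem (mem_sup_right hk : k ∈ W' ⊔ K) (mem_sup_left h1 : _ ∈ W' ⊔ K)
  have hidx : N'.index = Nat.card A := by
    show K.relIndex W' = _
    rw [← relIndex_sup_right_of_le_normalizer (inf_le_right.trans hGK), hWK,
      relIndex_sup_right_of_le_normalizer hAK, ← inf_relIndex_right,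
      disjoint_of_coprime_card hcop.symm, relIndex_bot_left]
  have hN'c : Nat.card N' ∣ Nat.card K := by
    show Nat.card (K.subgroupOf W') ∣ _
    rw [← inf_subgroupOf_right, card_subgroupOf inf_le_right]
    exact card_dvd_of_le inf_le_left
  obtain ⟨B₀, hB₀⟩ := exists_right_complement'_of_coprime
    (N := N') (hidx ▸ (hcop.coprime_dvd_right hN'c).symm)
  let B : Subgroup G := B₀.map W'.subtype
  have hBW : B ≤ W' := map_subtype_le B₀
  have hBc : Nat.card B = Nat.card A := by
    rw [card_map_of_injective W'.subtype_injective, ← hidx, hB₀.symm.index_eq_card]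
  obtain ⟨k, hk, hkB⟩ := exists_conj_eq_of_le_sup hAK (hBW.trans inf_le_right) hBc hcop hs.symm
  refine ⟨k⁻¹, inv_mem hk, ?_⟩
  have : A = MulAut.conj k⁻¹ • B := by
    rw [← hkB, conj_smul_smul, inv_mul_cancel, map_one, one_smul]
  rw [this]
  exact Subgroup.pointwise_smul_le_pointwise_smul_iff.2 (hBW.trans inf_le_left)

variable {X : Type*} [MulAction G X]

/-- **Glauberman's lemma**, existence. The hypothesis says that `A` preserves the `K`-orbit
of `x`; it holds when `K` is transitive on an `A`-invariant set containing `x`. -/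
theorem exists_fixed_point {A K : Subgroup G} (hAK : A ≤ normalizer (K : Set G))
    (hcop : (Nat.card A).Coprime (Nat.card K))
    (hs : Group.IsSolvable A ∨ Group.IsSolvable K) (x : X)
    (hx : ∀ a ∈ A, ∃ k ∈ K, k • x = a • x) :
    ∃ k ∈ K, ∀ a ∈ A, a • k • x = k • x := by
  obtain ⟨k, hk, hkA⟩ := exists_conj_le_of_le_mul (W := MulAction.stabilizer G x) hAK hcop hs
    (by
      intro a ha
      obtain ⟨k, hk, hka⟩ := hx a ha
      exact ⟨k, hk, by rw [MulAction.mem_stabilizer_iff, mul_smul, ← hka, inv_smul_smul]⟩)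
  refine ⟨k, hk, fun a ha => ?_⟩
  have := hkA ha
  rw [mem_conj_smul_iff, MulAction.mem_stabilizer_iff, mul_smul, mul_smul, inv_smul_eq_iff] at this
  exact this

/-- **Glauberman's lemma**, uniqueness up to `C_K(A)`. -/
theorem exists_centralizer_smul_eq {A K : Subgroup G} (hAK : A ≤ normalizer (K : Set G))
    (hcop : (Nat.card A).Coprime (Nat.card K))
    (hs : Group.IsSolvable A ∨ Group.IsSolvable K) {x y : X} (hx : ∀ a ∈ A, a • x = x)
    (hy : ∀ a ∈ A, a • y = y) {k : G} (hk : k ∈ K) (hky : k • x = y) :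
    ∃ c ∈ K ⊓ centralizer (A : Set G), c • x = y := by
  have hAS : A ≤ MulAction.stabilizer G x := fun a ha => hx a ha
  have hmem : ∀ a ∈ A, k⁻¹ * a * k * a⁻¹ ∈ K ⊓ MulAction.stabilizer G x := by
    intro a ha
    refine mem_inf.2 ⟨?_, ?_⟩
    · rw [mul_assoc, mul_assoc]
      refine mul_mem (inv_mem hk) ?_
      rw [← mul_assoc]
      exact (mem_normalizer_iff.1 (hAK ha) k).1 hk
    · rw [MulAction.mem_stabilizer_iff, mul_smul, mul_smul, mul_smul, hx _ (inv_mem ha), hky,
        hy a ha, ← hky, inv_smul_smul]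
  obtain ⟨c, hc, hcN⟩ := exists_mem_inf_centralizer_leftCoset
    (N := K ⊓ MulAction.stabilizer G x)
    (fun a ha => inf_normalizer_le_normalizer_inf ⟨hAK ha, le_normalizer (hAS ha)⟩)
    inf_le_left hcop hs hk hmem
  refine ⟨c, hc, ?_⟩
  have h := hcN.2
  change (k⁻¹ * c) • x = x at h
  rw [mul_smul, inv_smul_eq_iff] at h
  rw [h, hky]

end Glauberman

end Cfsg.Agent.Coprime
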