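import Cfsg.Agent.Lib.Coprime.Generation

/-!
# Coprime action: factorisations

* `ncard_mul_mul_card_inf`: `|H K| |H ∩ K| = |H| |K|`;
* `pow_dvd_card_inf_centralizer`: the fixed points of `B` on a `B`-invariant Sylow subgroup of `K`
  form a Sylow subgroup of `C_K(B)`;
* `subset_mul_of_isNilpotent`: factorisation of a nilpotent group from its fixed points;
* `eq_mul_of_forall_centralizer`: if noncyclic abelian `A` acts coprimely on `K` and
  `C_K(a) = C_X(a) C_Y(a)` for all `a ≠ 1` and invariant `X`, `Y`, then `K = X Y`.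
-/

open scoped Pointwise commutatorElement

set_option autoImplicit false

namespace Cfsg.Agent.Coprime

open Subgroup

variable {G : Type*} [Group G]

theorem ncard_mul_mul_card_inf [Finite G] (H K : Subgroup G) :
    Nat.card ((H : Set G) * (K : Set G) : Set G) * Nat.card (H ⊓ K : Subgroup G) =
      Nat.card H * Nat.card K := by
  classical
  rw [← Nat.card_prod, ← Nat.card_prod]
  have hsec : ∀ z : ((H : Set G) * (K : Set G) : Set G), ∃ x : H × K, (x.1 : G) * x.2 = z := by
    rintro ⟨z, hz⟩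
    obtain ⟨x, hx, y, hy, rfl⟩ := Set.mem_mul.1 hz
    exact ⟨(⟨x, hx⟩, ⟨y, hy⟩), rfl⟩
  choose s hs using hsec
  refine Nat.card_congr (Equiv.ofBijective
    (fun w : ((H : Set G) * (K : Set G) : Set G) × (H ⊓ K : Subgroup G) =>
      ((⟨(s w.1).1 * (w.2 : G), mul_mem (s w.1).1.2 (mem_inf.1 w.2.2).1⟩ : H),
       (⟨(w.2 : G)⁻¹ * (s w.1).2, mul_mem (K.inv_mem (mem_inf.1 w.2.2).2) (s w.1).2.2⟩ : K)))
    ⟨?_, ?_⟩)
  · rintro ⟨z, d⟩ ⟨z', d'⟩ h
    simp only [Prod.mk.injEq, Subtype.mk.injEq] at h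
    obtain ⟨h1, h2⟩ := h
    have hz : z = z' := by
      apply Subtype.ext
      rw [← hs z, ← hs z']
      have := congrArg₂ (· * ·) h1 h2
      simpa [mul_assoc] using this
    subst hz
    exact Prod.ext rfl (Subtype.ext (mul_left_cancel h1))
  · rintro ⟨x, y⟩
    have hxy : (x : G) * y ∈ (H : Set G) * (K : Set G) := Set.mul_mem_mul x.2 y.2
    set z : ((H : Set G) * (K : Set G) : Set G) := ⟨(x : G) * y, hxy⟩
    have h := hs z
    have hd : ((s z).1 : G)⁻¹ * x ∈ H ⊓ K := by
      refine mem_inf.2 ⟨mul_mem (H.inv_mem (s z).1.2) x.2, ?_⟩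
      have : ((s z).1 : G)⁻¹ * x = (s z).2 * (y : G)⁻¹ := by
        rw [eq_mul_inv_iff_mul_eq, mul_assoc, inv_mul_eq_iff_eq_mul]
        exact h.symm
      rw [this]
      exact mul_mem (s z).2.2 (K.inv_mem y.2)
    refine ⟨(z, ⟨_, hd⟩), Prod.ext (Subtype.ext ?_) (Subtype.ext ?_)⟩
    · exact mul_inv_cancel_left _ _
    · show (((s z).1 : G)⁻¹ * x)⁻¹ * (s z).2 = y
      rw [mul_inv_rev, inv_inv, mul_assoc, h]
      exact inv_mul_cancel_left _ _

variable [Finite G]

theorem pow_dvd_card_inf_centralizer {B K : Subgroup G} (hBK : B ≤ normalizer (K : Set G))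
    (hcop : (Nat.card B).Coprime (Nat.card K))
    (hs : Group.IsSolvable B ∨ Group.IsSolvable K) {r : ℕ} [Fact r.Prime] (P : Sylow r K)
    (hPB : B ≤ normalizer (((P : Subgroup K).map K.subtype : Subgroup G) : Set G)) {m : ℕ}
    (hm : r ^ m ∣ Nat.card (K ⊓ centralizer (B : Set G) : Subgroup G)) :
    r ^ m ≤ Nat.card ((P : Subgroup K).map K.subtype ⊓ centralizer (B : Set G) : Subgroup G) := by
  set C : Subgroup G := K ⊓ centralizer (B : Set G) with hC
  obtain ⟨U₀, hU₀⟩ := Sylow.exists_subgroup_card_pow_prime r hm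
  set U := U₀.map C.subtype with hU
  have hUcard : Nat.card U = r ^ m := by
    rw [hU, Subgroup.card_subtype, hU₀]
  have hUC : U ≤ C := map_subtype_le _
  have hUB : B ≤ normalizer (U : Set G) := fun b hb => by
    refine centralizer_le_normalizer _ (mem_centralizer_iff.2 fun u hu => ?_)
    exact ((mem_centralizer_iff.1 (hUC hu).2) b hb).symm
  obtain ⟨Q, hUQ, hQB⟩ := exists_invariant_sylow_ge hBK hcop hs (hUC.trans inf_le_left)
    (IsPGroup.of_card hUcard) hUB
  obtain ⟨c, hc, hcQ⟩ := exists_centralizer_smul_sylow hBK hcop hs Q P hQB hPB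
  have hP : MulAut.conj (c : G) • (Q : Subgroup K).map K.subtype = (P : Subgroup K).map K.subtype := by
    rw [← hcQ]
    exact (map_conj_smul K.subtype c (Q : Subgroup K)).symm
  rw [← hUcard, ← card_conj_smul (c : G) U]
  refine Nat.le_of_dvd Nat.card_pos (card_dvd_of_le fun x hx => mem_inf.2 ⟨?_, ?_⟩)
  · rw [← hP, mem_conj_smul_iff]
    rw [mem_conj_smul_iff] at hx
    exact hUQ hx
  · rw [mem_conj_smul_iff] at hx
    have h1 := (hUC hx).2
    have h2 := mul_mem (mul_mem hc h1) (inv_mem hc)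
    simpa [mul_assoc] using h2

/-- If `A` is noncyclic abelian acting coprimely on nilpotent `P`, and `C_P(a) ⊆ X Y` for all
`a ≠ 1`, then `P ⊆ X Y`. -/
theorem subset_mul_of_isNilpotent {A P X Y : Subgroup G} [IsMulCommutative A]
    (hA : ¬ IsCyclic A) (hAP : A ≤ normalizer (P : Set G))
    (hcop : (Nat.card A).Coprime (Nat.card P)) (hP : Group.IsNilpotent P) (hX : X ≤ P) (hY : Y ≤ P)
    (h : ∀ a ∈ A, a ≠ 1 →
      ((P ⊓ centralizer {a} : Subgroup G) : Set G) ⊆ (X : Set G) * (Y : Set G)) :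
    (P : Set G) ⊆ (X : Set G) * (Y : Set G) := by
  obtain ⟨n, hn⟩ := (isNilpotent_iff_lowerCentralSeries P).1 hP
  suffices H : ∀ i, ∀ g ∈ P, ∃ x ∈ X, ∃ l ∈ P.lowerCentralSeries i, ∃ y ∈ Y, g = x * l * y by
    intro g hg
    obtain ⟨x, hx, l, hl, y, hy, rfl⟩ := H n g hg
    rw [hn, mem_bot] at hl
    rw [hl, mul_one]
    exact Set.mul_mem_mul hx hy
  intro i
  induction i with
  | zero => exact fun g hg => ⟨1, X.one_mem, g, hg, 1, Y.one_mem, by simp⟩
  | succ i ih =>
    set L := P.lowerCentralSeries i with hLdef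
    set M := P.lowerCentralSeries (i + 1) with hMdef
    have hLP : L ≤ P := P.lowerCentralSeries_antitone (Nat.zero_le i)
    have hMP : M ≤ P := P.lowerCentralSeries_antitone (Nat.zero_le (i + 1))
    have hMN : ∀ {g : G}, g ∈ P → ∀ {u : G}, u ∈ M → g * u * g⁻¹ ∈ M := fun {g} hg {u} hu =>
      (mem_normalizer_iff.1 (P.self_le_normalizer_lowerCentralSeries (i + 1) hg) u).1 hu
    have hcomm : ∀ {l g : G}, l ∈ L → g ∈ P → ∃ u ∈ M, l * g = u * (g * l) := fun {l g} hl hg =>
      ⟨⁅l, g⁆, commutator_mem_commutator hl hg, by rw [commutatorElement_def]; group⟩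
    have hLA : A ≤ normalizer (L : Set G) := by
      intro a ha
      refine mem_normalizer_of_conj_smul_eq ?_
      have := P.map_lowerCentralSeries (MulAut.conj a).toMonoidHom i
      rw [show P.map (MulAut.conj a).toMonoidHom = P from conj_smul_eq_self_of_mem (hAP ha)] at this
      exact this
    let S : Subgroup G :=
      { carrier := {l | l ∈ L ∧ ∃ x ∈ X, ∃ m ∈ M, ∃ y ∈ Y, l = x * m * y}
        one_mem' := ⟨L.one_mem, 1, X.one_mem, 1, M.one_mem, 1, Y.one_mem, by simp⟩
        mul_mem' := by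
          rintro a b ⟨ha, x, hx, m, hm, y, hy, rfl⟩ ⟨hb, x', hx', m', hm', y', hy', hb'⟩
          refine ⟨mul_mem ha hb, ?_⟩
          -- `y` and `b` commute modulo `M`
          obtain ⟨u, hu, hu'⟩ := hcomm hb (hY hy)
          have h1 : x * m * y * b = x * x' * ((x'⁻¹ * (m * u⁻¹) * x') * m') * (y' * y) := by
            have : y * b = u⁻¹ * (b * y) := by rw [hu', inv_mul_cancel_left]
            calc x * m * y * b = x * m * (y * b) := by group
              _ = x * m * (u⁻¹ * (b * y)) := by rw [this]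
              _ = _ := by rw [hb']; group
          refine ⟨x * x', mul_mem hx hx', _, mul_mem ?_ hm', y' * y, mul_mem hy' hy, h1⟩
          simpa using hMN (P.inv_mem (hX hx')) (mul_mem hm (M.inv_mem hu))
        inv_mem' := by
          rintro a ⟨ha, x, hx, m, hm, y, hy, hae⟩
          refine ⟨inv_mem ha, ?_⟩
          obtain ⟨u, hu, hu'⟩ := hcomm (L.inv_mem ha) (hX hx)
          -- `a⁻¹ x = y⁻¹ m⁻¹`, and `a⁻¹ x = u (x a⁻¹)`
          have h1 : a⁻¹ * x = y⁻¹ * m⁻¹ := by rw [hae]; group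
          have h2 : a⁻¹ = x⁻¹ * u⁻¹ * y⁻¹ * m⁻¹ := by
            rw [hu'] at h1
            calc a⁻¹ = x⁻¹ * u⁻¹ * (u * (x * a⁻¹)) := by group
              _ = _ := by rw [h1]; group
          refine ⟨x⁻¹, X.inv_mem hx, u⁻¹ * (y⁻¹ * m⁻¹ * y), mul_mem (M.inv_mem hu) ?_, y⁻¹,
            Y.inv_mem hy, by rw [h2]; group⟩
          simpa using hMN (P.inv_mem (hY hy)) (M.inv_mem hm) }
    have hSL : S ≤ L := fun l hl => hl.1
    have hS : S = L := eq_of_forall_centralizer_le hA hLA
      (hcop.coprime_dvd_right (card_dvd_of_le hLP)) hSL fun a ha ha1 l hl => by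
        obtain ⟨x, hx, y, hy, rfl⟩ := Set.mem_mul.1
          (h a ha ha1 (mem_inf.2 ⟨hLP (mem_inf.1 hl).1, (mem_inf.1 hl).2⟩))
        exact ⟨(mem_inf.1 hl).1, x, hx, 1, M.one_mem, y, hy, by simp⟩
    intro g hg
    obtain ⟨x, hx, l, hl, y, hy, rfl⟩ := ih g hg
    rw [← hS] at hl
    obtain ⟨-, x', hx', m, hm, y', hy', rfl⟩ := hl
    exact ⟨x * x', mul_mem hx hx', m, hm, y' * y, mul_mem hy' hy, by group⟩

/-- **Factorisation from fixed points.** -/
theorem eq_mul_of_forall_centralizer {A K X Y : Subgroup G} [IsMulCommutative A]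
    (hA : ¬ IsCyclic A) (hAK : A ≤ normalizer (K : Set G))
    (hcop : (Nat.card A).Coprime (Nat.card K)) (hX : X ≤ K) (hY : Y ≤ K)
    (hAX : A ≤ normalizer (X : Set G)) (hAY : A ≤ normalizer (Y : Set G))
    (hfac : ∀ a ∈ A, a ≠ 1 → ((K ⊓ centralizer {a} : Subgroup G) : Set G) =
      ((X ⊓ centralizer {a} : Subgroup G) : Set G) * ((Y ⊓ centralizer {a} : Subgroup G) : Set G)) :
    (K : Set G) = (X : Set G) * (Y : Set G) := by
  classical
  have hsA : Group.IsSolvable A := Group.isSolvable_of_comm fun x y => mul_comm' x y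
  have hsub : ((X : Set G) * (Y : Set G)) ⊆ K := by
    rintro _ ⟨x, hx, y, hy, rfl⟩
    exact mul_mem (hX hx) (hY hy)
  have hkey : ∀ r, r.Prime → ∀ m, r ^ m ∣ Nat.card K * Nat.card (X ⊓ Y : Subgroup G) →
      r ^ m ∣ Nat.card X * Nat.card Y := by
    intro r hr
    have : Fact r.Prime := ⟨hr⟩
    obtain ⟨PX, hPX⟩ := exists_invariant_sylow hAX
      (hcop.coprime_dvd_right (card_dvd_of_le hX)) (Or.inl hsA) r
    obtain ⟨PY, hPY⟩ := exists_invariant_sylow hAY
      (hcop.coprime_dvd_right (card_dvd_of_le hY)) (Or.inl hsA) r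
    set X₀ := (PX : Subgroup X).map X.subtype with hX₀
    set Y₀ := (PY : Subgroup Y).map Y.subtype with hY₀
    obtain ⟨P, hXP, hP⟩ := exists_invariant_sylow_ge hAK hcop (Or.inl hsA)
      ((map_subtype_le _).trans hX) (PX.2.map _) hPX
    obtain ⟨Q, hYQ, hQ⟩ := exists_invariant_sylow_ge hAK hcop (Or.inl hsA)
      ((map_subtype_le _).trans hY) (PY.2.map _) hPY
    obtain ⟨c, hc, hcQ⟩ := exists_centralizer_smul_sylow hAK hcop (Or.inl hsA) P Q hP hQ
    -- write `c = y x` with `x ∈ C_X(A)`, `y ∈ C_Y(A)`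
    obtain ⟨a₀, ha₀, ha₁⟩ : ∃ a ∈ A, a ≠ 1 := by
      by_contra hno
      push Not at hno
      have hbot : A = ⊥ := (eq_bot_iff_forall A).2 hno
      subst hbot
      exact hA inferInstance
    have hca : ((c : G))⁻¹ ∈ ((K ⊓ centralizer {a₀} : Subgroup G) : Set G) :=
      inv_mem (mem_inf.2 ⟨c.2, centralizer_le (Set.singleton_subset_iff.2 ha₀) hc⟩)
    rw [hfac a₀ ha₀ ha₁] at hca
    obtain ⟨x₁, hx₁, y₁, hy₁, hxy⟩ := Set.mem_mul.1 hca
    obtain ⟨x, hx, y, hy, hxy'⟩ := exists_mul_of_mul hcop (Or.inl hsA) hX hAX hAY hx₁.1 hy₁.1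
      (hxy ▸ inv_mem hc)
    rw [hxy] at hxy'
    -- `P' = x⁻¹ P x` contains Sylow subgroups of `X` and of `Y`
    set P₀ := (P : Subgroup K).map K.subtype with hP₀
    set P' := MulAut.conj x⁻¹ • P₀ with hP'
    set X' := MulAut.conj x⁻¹ • X₀ with hX'
    set Y' := MulAut.conj y • Y₀ with hY'
    have hQP : (Q : Subgroup K).map K.subtype = MulAut.conj (c : G) • P₀ := by
      rw [← hcQ]
      exact map_conj_smul K.subtype c (P : Subgroup K)
    have hX'X : X' ≤ X := by
      rw [hX', ← conj_smul_eq_self_of_mem (le_normalizer (X.inv_mem hx.1))]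
      exact pointwise_smul_le_pointwise_smul_iff.2 (map_subtype_le _)
    have hY'Y : Y' ≤ Y := by
      rw [hY', ← conj_smul_eq_self_of_mem (le_normalizer hy.1)]
      exact pointwise_smul_le_pointwise_smul_iff.2 (map_subtype_le _)
    have hX'P : X' ≤ P' := pointwise_smul_le_pointwise_smul_iff.2 hXP
    have hY'P : Y' ≤ P' := by
      have h1 : Y' ≤ MulAut.conj y • MulAut.conj (c : G) • P₀ :=
        pointwise_smul_le_pointwise_smul_iff.2 (hQP ▸ hYQ)
      rw [conj_smul_smul] at h1
      have h2 : y * (c : G) = x⁻¹ := by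
        have := congrArg Inv.inv hxy'
        rw [inv_inv, mul_inv_rev] at this
        rw [this, mul_inv_cancel_left]
      rwa [h2] at h1
    have hconjA : ∀ {g : G}, g ∈ centralizer (A : Set G) → ∀ {U : Subgroup G},
        A ≤ normalizer (U : Set G) → A ≤ normalizer ((MulAut.conj g • U : Subgroup G) : Set G) := by
      intro g hg U hU a ha
      refine mem_normalizer_of_conj_smul_eq ?_
      rw [conj_smul_smul, mem_centralizer_iff.1 hg a ha, ← conj_smul_smul,
        conj_smul_eq_self_of_mem (hU ha)]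
    have hP'A : A ≤ normalizer (P' : Set G) := hconjA (inv_mem hx.2) hP
    have hX'A : A ≤ normalizer (X' : Set G) := hconjA (inv_mem hx.2) hPX
    have hY'A : A ≤ normalizer (Y' : Set G) := hconjA hy.2 hPY
    have hP'K : P' ≤ K := by
      rw [hP', ← conj_smul_eq_self_of_mem (le_normalizer (K.inv_mem (hX hx.1)))]
      exact pointwise_smul_le_pointwise_smul_iff.2 (map_subtype_le _)
    have hP'p : IsPGroup r P' := (P.2.map _).map _
    obtain ⟨k, hPc⟩ : ∃ k, Nat.card K = Nat.card P' * k ∧ ¬ r ∣ k := by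
      refine ⟨(P : Subgroup K).index, ?_, P.not_dvd_index⟩
      rw [hP', card_conj_smul, hP₀, card_subtype, Subgroup.card_mul_index]
    obtain ⟨kX, hXc⟩ : ∃ k, Nat.card X = Nat.card X' * k ∧ ¬ r ∣ k := by
      refine ⟨(PX : Subgroup X).index, ?_, PX.not_dvd_index⟩
      rw [hX', card_conj_smul, hX₀, card_subtype, Subgroup.card_mul_index]
    obtain ⟨kY, hYc⟩ : ∃ k, Nat.card Y = Nat.card Y' * k ∧ ¬ r ∣ k := by
      refine ⟨(PY : Subgroup Y).index, ?_, PY.not_dvd_index⟩
      rw [hY', card_conj_smul, hY₀, card_subtype, Subgroup.card_mul_index]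
    set Z := X ⊓ Y with hZ
    set Z' := X' ⊓ Y' with hZ'
    have hZ'p : IsPGroup r Z' := (hP'p.to_le (inf_le_left.trans hX'P))
    obtain ⟨SZ, hZS, hSZA⟩ := exists_invariant_sylow_ge (K := Z) (p := r) (U := Z')
      (le_normalizer_inf_of_le hAX hAY)
      (hcop.coprime_dvd_right (card_dvd_of_le (inf_le_left.trans hX))) (Or.inl hsA)
      (inf_le_inf hX'X hY'Y) hZ'p (le_normalizer_inf_of_le hX'A hY'A)
    set S := (SZ : Subgroup Z).map Z.subtype with hS
    -- the fixed points of each `a`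
    have hfix : ∀ a ∈ A, a ≠ 1 →
        S ⊓ centralizer {a} ≤ Z' ∧
        ((P' ⊓ centralizer {a} : Subgroup G) : Set G) ⊆ (X' : Set G) * (Y' : Set G) := by
      intro a ha ha1
      set B := zpowers a with hB
      have hBA : B ≤ A := zpowers_le.2 ha
      have hCB : centralizer (B : Set G) = centralizer {a} := by
        rw [hB, zpowers_eq_closure, centralizer_closure]
      have hpr : ∀ {U : Subgroup G}, U ≤ K → A ≤ normalizer (U : Set G) → ∀ (R : Sylow r U),
          A ≤ normalizer (((R : Subgroup U).map U.subtype : Subgroup G) : Set G) → ∀ {m : ℕ},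
          r ^ m ∣ Nat.card (U ⊓ centralizer {a} : Subgroup G) →
          r ^ m ≤ Nat.card ((R : Subgroup U).map U.subtype ⊓ centralizer {a} : Subgroup G) := by
        intro U hUK hU R hR m hm
        rw [← hCB] at hm ⊢
        exact pow_dvd_card_inf_centralizer (hBA.trans hU)
          ((hcop.coprime_dvd_left (card_dvd_of_le hBA)).coprime_dvd_right (card_dvd_of_le hUK))
          (Or.inl (isSolvable_of_le hBA hsA)) R (hBA.trans hR) hm
      set C : Subgroup G := centralizer {a} with hC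
      obtain ⟨u, hu⟩ := (IsPGroup.iff_card.1 (hZ'p.to_le inf_le_left :
        IsPGroup r (Z' ⊓ C : Subgroup G)))
      obtain ⟨t, ht⟩ := (IsPGroup.iff_card.1 ((SZ.2.map _).to_le inf_le_left :
        IsPGroup r (S ⊓ C : Subgroup G)))
      obtain ⟨f, hf⟩ := (IsPGroup.iff_card.1 ((hP'p.to_le hX'P).to_le inf_le_left :
        IsPGroup r (X' ⊓ C : Subgroup G)))
      obtain ⟨g, hg⟩ := (IsPGroup.iff_card.1 ((hP'p.to_le hY'P).to_le inf_le_left :
        IsPGroup r (Y' ⊓ C : Subgroup G)))
      obtain ⟨e, he⟩ := (IsPGroup.iff_card.1 (hP'p.to_le inf_le_left :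
        IsPGroup r (P' ⊓ C : Subgroup G)))
      have hinf : ∀ U V : Subgroup G, (U ⊓ C) ⊓ (V ⊓ C) = (U ⊓ V) ⊓ C := fun U V => by
        rw [inf_inf_inf_comm, inf_idem]
      -- product formulas
      have e1 := ncard_mul_mul_card_inf (X ⊓ C) (Y ⊓ C)
      rw [← hfac a ha ha1, hinf, ← hZ] at e1
      have e2 := ncard_mul_mul_card_inf (X' ⊓ C) (Y' ⊓ C)
      rw [hinf, ← hZ', hu, hf, hg] at e2
      have hsub' : (((X' ⊓ C : Subgroup G) : Set G) * ((Y' ⊓ C : Subgroup G) : Set G)) ⊆
          ((P' ⊓ C : Subgroup G) : Set G) := by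
        rintro _ ⟨p, hp, q, hq, rfl⟩
        exact mul_mem (show p ∈ P' ⊓ C from ⟨hX'P hp.1, hp.2⟩) ⟨hY'P hq.1, hq.2⟩
      have hle : Nat.card (((X' ⊓ C : Subgroup G) : Set G) * ((Y' ⊓ C : Subgroup G) : Set G) : Set G)
          ≤ r ^ e := he ▸ Nat.card_mono (Set.toFinite _) hsub'
      -- Sylow property of the fixed points
      have htu : u ≤ t := by
        have := Nat.le_of_dvd Nat.card_pos (card_dvd_of_le (inf_le_inf_right C hZS))
        rw [hu, ht] at this
        exact (Nat.pow_le_pow_iff_right hr.one_lt).1 this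
      have het : r ^ e * r ^ t ≤ r ^ f * r ^ g := by
        have hd : r ^ (e + t) ∣ Nat.card (X ⊓ C : Subgroup G) * Nat.card (Y ⊓ C : Subgroup G) := by
          rw [← e1, pow_add]
          refine Nat.mul_dvd_mul ?_ ?_
          · rw [← he]; exact card_dvd_of_le (inf_le_inf_right C hP'K)
          · rw [← ht]; exact card_dvd_of_le (inf_le_inf_right C (map_subtype_le _))
        rw [← pow_add, ← pow_add]
        refine Nat.pow_le_pow_right hr.pos ?_
        have hv : ∀ {U U' : Subgroup G}, U ≤ K → A ≤ normalizer (U : Set G) → ∀ (R : Sylow r U) (w : G),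
            w ∈ centralizer (A : Set G) → w ∈ normalizer (U : Set G) →
            A ≤ normalizer (((R : Subgroup U).map U.subtype : Subgroup G) : Set G) →
            U' = MulAut.conj w • (R : Subgroup U).map U.subtype → ∀ {d : ℕ},
            Nat.card (U' ⊓ C : Subgroup G) = r ^ d →
            (Nat.card (U ⊓ C : Subgroup G)).factorization r ≤ d := by
          intro U U' hUK hU R w hwA hwU hR hU' d hd
          have h1 := hpr hUK hU R hR (Nat.ordProj_dvd (Nat.card (U ⊓ C : Subgroup G)) r)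
          have h2 : Nat.card (U' ⊓ C : Subgroup G) =
              Nat.card ((R : Subgroup U).map U.subtype ⊓ C : Subgroup G) := by
            rw [← card_conj_smul w (((R : Subgroup U).map U.subtype) ⊓ C), smul_inf, ← hU',
              conj_smul_eq_self_of_mem (g := w) (H := C)]
            refine le_normalizer (mem_centralizer_iff.2 ?_)
            rintro _ rfl
            exact (mem_centralizer_iff.1 hwA _ ha).symm ▸ rfl
          rw [← h2, hd] at h1
          exact (Nat.pow_le_pow_iff_right hr.one_lt).1 h1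
        have hfX := hv hX hAX PX x⁻¹ (inv_mem hx.2) (le_normalizer (X.inv_mem hx.1)) hPX hX' hf
        have hfY := hv hY hAY PY y hy.2 (le_normalizer hy.1) hPY hY' hg
        have := (Nat.Prime.pow_dvd_iff_le_factorization hr
          (Nat.mul_ne_zero Nat.card_pos.ne' Nat.card_pos.ne')).1 hd
        rw [Nat.factorization_mul Nat.card_pos.ne' Nat.card_pos.ne', Finsupp.add_apply] at this
        omega
      have hut : t = u := by
        have h1 : r ^ e * r ^ t ≤ r ^ e * r ^ u :=
          het.trans (e2 ▸ Nat.mul_le_mul_right _ hle)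
        have := (Nat.pow_le_pow_iff_right hr.one_lt).1
          (Nat.le_of_mul_le_mul_left h1 (pow_pos hr.pos e))
        omega
      refine ⟨?_, ?_⟩
      · have hle' : Z' ⊓ C ≤ S ⊓ C := inf_le_inf_right C hZS
        have := Subgroup.eq_of_le_of_card_ge hle' (by rw [hu, ht, hut])
        exact this.ge.trans inf_le_left
      · have hcard : Nat.card ((P' ⊓ C : Subgroup G) : Set G) ≤
            Nat.card (((X' ⊓ C : Subgroup G) : Set G) * ((Y' ⊓ C : Subgroup G) : Set G) : Set G) := by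
          refine Nat.le_of_mul_le_mul_right ?_ (pow_pos hr.pos u)
          rw [e2]
          refine le_trans (le_of_eq ?_) het
          rw [hut, ← he]
          rfl
        rw [← Set.eq_of_subset_of_ncard_le hsub' (by simpa only [Nat.card_coe_set_eq] using hcard)]
        exact Set.mul_subset_mul (fun p hp => hp.1) fun q hq => hq.1
    have hSZ : Z' = S := eq_of_forall_centralizer_le hA hSZA
      (hcop.coprime_dvd_right (card_dvd_of_le ((map_subtype_le _).trans (inf_le_left.trans hX))))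
      hZS (fun a ha ha1 => (hfix a ha ha1).1)
    have hfacP : (P' : Set G) = (X' : Set G) * (Y' : Set G) := by
      refine Set.Subset.antisymm (subset_mul_of_isNilpotent hA hP'A
        (hcop.coprime_dvd_right (card_dvd_of_le hP'K)) hP'p.isNilpotent hX'P hY'P
        fun a ha ha1 => (hfix a ha ha1).2) ?_
      rintro _ ⟨p, hp, q, hq, rfl⟩
      exact mul_mem (hX'P hp) (hY'P hq)
    have ecard := ncard_mul_mul_card_inf X' Y'
    rw [← hfacP, ← hZ', hSZ] at ecard
    simp only [SetLike.coe_sort_coe] at ecard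
    obtain ⟨kZ, hZc⟩ : ∃ k, Nat.card Z = Nat.card S * k ∧ ¬ r ∣ k :=
      ⟨(SZ : Subgroup Z).index, by rw [hS, card_subtype, Subgroup.card_mul_index],
        SZ.not_dvd_index⟩
    intro m hm
    have hm' : r ^ m ∣ (Nat.card P' * Nat.card S) * (k * kZ) := by
      rw [hPc.1, hZc.1] at hm
      convert hm using 1
      ring
    have := ((Nat.Coprime.pow_left m (hr.coprime_iff_not_dvd.2
      (hr.not_dvd_mul hPc.2 hZc.2))).dvd_of_dvd_mul_right hm')
    rw [ecard] at this
    rw [hXc.1, hYc.1]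
    exact this.trans ⟨kX * kY, by ring⟩
  refine (Set.eq_of_subset_of_ncard_le hsub ?_).symm
  have hdvd : Nat.card K * Nat.card (X ⊓ Y : Subgroup G) ∣ Nat.card X * Nat.card Y :=
    (Nat.dvd_iff_prime_pow_dvd_dvd _ _).2 fun r m hr hm => hkey r hr m hm
  have e := ncard_mul_mul_card_inf X Y
  have hpos : 0 < Nat.card X * Nat.card Y := Nat.mul_pos Nat.card_pos Nat.card_pos
  have := Nat.le_of_mul_le_mul_right (e.symm ▸ Nat.le_of_dvd hpos hdvd) Nat.card_pos
  rw [← Nat.card_coe_set_eq, ← Nat.card_coe_set_eq]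
  exact this

end Cfsg.Agent.Coprime
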