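import Cfsg.Agent.Lib.Coprime.Generation

/-!
# Coprime action: images, and stabilised series

* `map_inf_centralizer`: `f (C_K(A)) = C_{f K}(f A)` for a homomorphism `f`
  ("fixed points in quotients");
* `le_centralizer_of_series`: `A` trivial on `N` and on `K / N` is trivial on `K`.
-/

namespace Cfsg.Agent.Coprime

open scoped Pointwise commutatorElement
open Subgroup

variable {G : Type*} [Group G] [Finite G] {G' : Type*} [Group G']

/-- Fixed points of a coprime action commute with homomorphic images. -/
theorem map_inf_centralizer (f : G →* G') {A K : Subgroup G} (hAK : A ≤ normalizer (K : Set G))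
    (hcop : (Nat.card A).Coprime (Nat.card K))
    (hs : Group.IsSolvable A ∨ Group.IsSolvable K) :
    (K ⊓ centralizer (A : Set G)).map f = K.map f ⊓ centralizer ((A.map f : Subgroup G') : Set G') := by
  refine le_antisymm ?_ ?_
  · rintro _ ⟨x, hx, rfl⟩
    refine mem_inf.2 ⟨mem_map_of_mem f hx.1, mem_centralizer_iff.2 ?_⟩
    rintro _ ⟨a, ha, rfl⟩
    rw [← map_mul, ← map_mul, mem_centralizer_iff.1 hx.2 a ha]
  · rintro _ ⟨⟨k, hk, rfl⟩, hc⟩
    have hker : A ≤ normalizer ((f.ker : Subgroup G) : Set G) := by
      rw [normalizer_eq_top]; exact le_top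
    obtain ⟨c, hc', hcN⟩ := exists_mem_inf_centralizer_leftCoset (A := A) (K := K) (k := k)
      (N := f.ker ⊓ K) (le_normalizer_inf_of_le hker hAK) inf_le_right hcop hs hk fun a ha => by
        refine mem_inf.2 ⟨?_, ?_⟩
        · rw [MonoidHom.mem_ker, map_mul, map_mul, map_mul, map_inv, map_inv,
            mul_assoc _ (f a), mem_centralizer_iff.1 hc (f a) (mem_map_of_mem f ha)]
          group
        · rw [mul_assoc, mul_assoc]
          refine K.mul_mem (K.inv_mem hk) ?_
          rw [← mul_assoc]
          exact (mem_normalizer_iff.1 (hAK ha) k).1 hk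
    refine ⟨c, hc', ?_⟩
    have h1 : f (k⁻¹ * c) = 1 := hcN.1
    rw [map_mul, map_inv, inv_mul_eq_one] at h1
    exact h1.symm

/-- Fixed points in a quotient group. -/
theorem map_mk'_inf_centralizer (N : Subgroup G) [N.Normal] {A K : Subgroup G}
    (hAK : A ≤ normalizer (K : Set G)) (hcop : (Nat.card A).Coprime (Nat.card K))
    (hs : Group.IsSolvable A ∨ Group.IsSolvable K) :
    (K ⊓ centralizer (A : Set G)).map (QuotientGroup.mk' N) =
      K.map (QuotientGroup.mk' N) ⊓
        centralizer ((A.map (QuotientGroup.mk' N) : Subgroup (G ⧸ N)) : Set (G ⧸ N)) :=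
  map_inf_centralizer _ hAK hcop hs

/-- If `A` centralises `N` and `K / N`, it centralises `K` (coprime orders). Only needs that
`[K, A] ≤ N`. -/
theorem le_centralizer_of_series {A K N : Subgroup G} (hAK : A ≤ normalizer (K : Set G))
    (hcop : (Nat.card A).Coprime (Nat.card K))
    (hs : Group.IsSolvable A ∨ Group.IsSolvable K) (hKN : ⁅K, A⁆ ≤ N)
    (hAN : A ≤ centralizer (N : Set G)) : A ≤ centralizer (K : Set G) :=
  le_centralizer_of_commutator_le_centralizer hAK hcop hs (hAN.trans (centralizer_le hKN))

end Cfsg.Agent.Coprime
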