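import Mathlib.GroupTheory.Commutator.Basic
import Mathlib.GroupTheory.QuotientGroup.Basic

/-! The three subgroups lemma relative to a subgroup normalised by all three. -/

set_option autoImplicit false

namespace Cfsg.Agent.Coprime

open Subgroup

variable {G : Type*} [Group G]

/-- The three subgroups lemma modulo a subgroup `N` normalised by the three subgroups. -/
theorem three_subgroup_le {A B C N : Subgroup G} (hA : A ≤ normalizer (N : Set G))
    (hB : B ≤ normalizer (N : Set G)) (hC : C ≤ normalizer (N : Set G))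
    (h1 : ⁅⁅B, C⁆, A⁆ ≤ N) (h2 : ⁅⁅C, A⁆, B⁆ ≤ N) : ⁅⁅A, B⁆, C⁆ ≤ N := by
  let W : Subgroup G := normalizer (N : Set G)
  have hn : (N.subgroupOf W).Normal := normal_subgroupOf_of_le_normalizer le_rfl
  let f := QuotientGroup.mk' (N.subgroupOf W)
  have key : ∀ X Y Z : Subgroup G, X ≤ W → Y ≤ W → Z ≤ W →
      (⁅⁅X, Y⁆, Z⁆ ≤ N ↔
        ⁅⁅(X.subgroupOf W).map f, (Y.subgroupOf W).map f⁆, (Z.subgroupOf W).map f⁆ = ⊥) := by
    intro X Y Z hX hY hZ
    have e : (⁅⁅X.subgroupOf W, Y.subgroupOf W⁆, Z.subgroupOf W⁆).map W.subtype = ⁅⁅X, Y⁆, Z⁆ := by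
      rw [map_commutator, map_commutator, map_subgroupOf_eq_of_le hX, map_subgroupOf_eq_of_le hY,
        map_subgroupOf_eq_of_le hZ]
    rw [← map_commutator, ← map_commutator, Subgroup.map_eq_bot_iff, QuotientGroup.ker_mk', ← e,
      map_le_iff_le_comap]
    rfl
  rw [key A B C hA hB hC]
  exact commutator_commutator_eq_bot_of_rotate ((key B C A hB hC hA).1 h1)
    ((key C A B hC hA hB).1 h2)

end Cfsg.Agent.Coprime
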