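import Cfsg.Agent.Lib.Coprime.Sylow
import Mathlib.Data.Nat.ChineseRemainder

/-!
# Lifting normalisers of cyclic subgroups of coprime order

* `exists_orderOf_lift`: an element of `G ⧸ N` of order prime to `|N|` lifts to one of equal order;
* `exists_mul_mem_normalizer_zpowers`: normalisers of cyclic subgroups lift.
-/

namespace Cfsg.Agent.Coprime

open scoped Pointwise
open Subgroup

variable {G : Type*} [Group G] [Finite G]

/-- An element of a quotient of order prime to `|N|` lifts to an element of the same order. -/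
theorem exists_orderOf_lift (N : Subgroup G) [N.Normal] (y : G ⧸ N)
    (hcop : (orderOf y).Coprime (Nat.card N)) :
    ∃ x : G, (x : G ⧸ N) = y ∧ orderOf x = orderOf y := by
  obtain ⟨g, rfl⟩ := QuotientGroup.mk_surjective y
  obtain ⟨u, hu1, hu2⟩ := Nat.chineseRemainder hcop 1 0
  have hmk : ((g ^ u : G) : G ⧸ N) = g := by
    rw [QuotientGroup.mk_pow]
    conv_rhs => rw [← pow_one (g : G ⧸ N)]
    exact pow_eq_pow_iff_modEq.2 hu1
  refine ⟨g ^ u, hmk, Nat.dvd_antisymm (orderOf_dvd_of_pow_eq_one ?_) ?_⟩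
  · obtain ⟨v, hv⟩ := Nat.modEq_zero_iff_dvd.1 hu2
    have h1 : g ^ orderOf (g : G ⧸ N) ∈ N := by
      rw [← QuotientGroup.eq_one_iff, QuotientGroup.mk_pow, pow_orderOf_eq_one]
    rw [← pow_mul, Nat.mul_comm, pow_mul, hv, pow_mul,
      orderOf_dvd_iff_pow_eq_one.1 (N.orderOf_dvd_natCard h1), one_pow]
  · conv_lhs => rw [← hmk]
    exact orderOf_map_dvd (QuotientGroup.mk' N) _

/-- If `g` normalises `⟨x⟩ N` and `(|x|, |N|) = 1`, some element of `N g` normalises `⟨x⟩`. -/
theorem exists_mul_mem_normalizer_zpowers {N : Subgroup G} [N.Normal] {x g : G}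
    (hcop : (orderOf x).Coprime (Nat.card N)) (hg : g * x * g⁻¹ ∈ zpowers x ⊔ N) :
    ∃ u ∈ N, u * g ∈ normalizer ((zpowers x : Subgroup G) : Set G) := by
  have hNn : zpowers x ≤ normalizer (N : Set G) := by rw [normalizer_eq_top]; exact le_top
  have hle : MulAut.conj g • zpowers x ≤ zpowers x ⊔ N := by
    show Subgroup.map (MulAut.conj g).toMonoidHom _ ≤ _
    rw [MonoidHom.map_zpowers]
    exact zpowers_le.2 hg
  obtain ⟨n, hn, hnx⟩ := exists_conj_eq_of_le_sup hNn hle (card_conj_smul _ _)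
    (by rwa [Nat.card_zpowers]) (Or.inr (Group.isSolvable_of_comm fun a b => mul_comm' a b))
  refine ⟨n⁻¹, inv_mem hn, mem_normalizer_of_conj_smul_eq ?_⟩
  rw [← conj_smul_smul, ← hnx, conj_smul_smul, inv_mul_cancel, map_one, one_smul]

end Cfsg.Agent.Coprime
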