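import Cfsg.Agent.Lib.Coprime.Basic

/-!
# Gaschütz's complement theorem

`K` abelian normal, `K ≤ U`, `(|K|, [G : U]) = 1`.
* `exists_complement_of_gaschutz`: a complement of `K` in `U` gives one in `G`;
* `exists_conj_of_gaschutz`: complements of `K` in `G` with equal intersection with `U` are
  conjugate by an element of `K`.
-/

namespace Cfsg.Agent.Coprime

open scoped Pointwise
open Subgroup

section

variable {G : Type*} [Group G] (K : Subgroup G) [K.Normal]

/-- A crossed homomorphism into a normal subgroup, for the conjugation action. -/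
def IsCrossed (E : G → K) : Prop :=
  ∀ g h : G, (E (g * h) : G) = g * E h * g⁻¹ * E g

variable {K} [IsMulCommutative K]

theorem IsCrossed.map_one {E : G → K} (hE : IsCrossed K E) : E 1 = 1 := by
  refine Subtype.ext ?_
  have h1 : (E (1 * 1) : G) = 1 * E 1 * 1⁻¹ * E 1 := hE 1 1
  simp only [one_mul, inv_one, mul_one, right_eq_mul] at h1
  exact h1

/-- The complement defined by a crossed homomorphism restricting to the identity of `K`. -/
def complementOfCrossed (E : G → K) (hE : IsCrossed K E) : Subgroup G where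
  carrier := {g | (E g : G) = 1}
  one_mem' := congrArg Subtype.val hE.map_one
  mul_mem' := fun {g h} hg hh => by
    simp only [Set.mem_setOf_eq] at hg hh ⊢
    rw [hE, hg, hh]
    group
  inv_mem' := fun {g} hg => by
    simp only [Set.mem_setOf_eq] at hg ⊢
    have h1 := hE g⁻¹ g
    rw [inv_mul_cancel, congrArg Subtype.val hE.map_one, hg, mul_one, inv_inv, inv_mul_cancel,
      one_mul] at h1
    exact h1.symm

theorem mem_complementOfCrossed {E : G → K} {hE : IsCrossed K E} {g : G} :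
    g ∈ complementOfCrossed E hE ↔ (E g : G) = 1 := Iff.rfl

theorem isComplement'_complementOfCrossed [Finite G] {E : G → K} (hE : IsCrossed K E)
    (hEK : ∀ k ∈ K, (E k : G) = k) : IsComplement' K (complementOfCrossed E hE) := by
  refine isComplement'_of_disjoint_and_mul_eq_univ (disjoint_iff.2 ?_) ?_
  · refine (Subgroup.eq_bot_iff_forall _).2 fun g hg => ?_
    rw [← hEK g hg.1]
    exact hg.2
  · refine Set.eq_univ_of_forall fun g =>
      ⟨E g, (E g).2, (E g : G)⁻¹ * g, ?_, mul_inv_cancel_left _ _⟩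
    rw [SetLike.mem_coe, mem_complementOfCrossed, hE, hEK _ (inv_mem (E g).2)]
    group

end

variable {G : Type*} [Group G] [Finite G] (K U : Subgroup G) [K.Normal] [IsMulCommutative K]

/-- Gaschütz: existence. -/
theorem exists_complement_of_gaschutz (hKU : K ≤ U) (hcop : (Nat.card K).Coprime U.index)
    (A : Subgroup G) (hAU : A ≤ U) (hAK : A ⊓ K = ⊥) (hKA : K ⊔ A = U) :
    ∃ H : Subgroup G, IsComplement' K H := by
  classical
  have hAn : A ≤ normalizer (K : Set G) := by rw [normalizer_eq_top]; exact le_top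
  have hdec : ∀ (g : G) (r : G ⧸ U), ∃ c : K, ∃ a ∈ A, g * r.out = c * (g • r).out * a := by
    intro g r
    have h1 : ((g • r).out)⁻¹ * (g * r.out) ∈ U := by
      rw [← QuotientGroup.eq, QuotientGroup.out_eq']
      conv_lhs => rw [← QuotientGroup.out_eq' r]
      rfl
    have h1' := hKA.ge h1
    rw [sup_comm] at h1'
    obtain ⟨c, hc, a, ha, hca⟩ := (mem_sup_iff_of_le_normalizer' hAn).1 h1'
    set t := (g • r).out with ht
    refine ⟨⟨t * c * t⁻¹, Normal.conj_mem inferInstance c hc t⟩, a, ha, ?_⟩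
    rw [show g * r.out = t * (t⁻¹ * (g * r.out)) by group, ← hca]
    group
  choose κ α hα hκ using hdec
  have huniq : ∀ (c d : K) (t a b : G), a ∈ A → b ∈ A → (c : G) * t * a = d * t * b → c = d := by
    intro c d t a b ha hb h
    have h1 : t⁻¹ * ((d : G)⁻¹ * c) * t ∈ A ⊓ K := by
      refine mem_inf.2 ⟨?_, by
        simpa using Normal.conj_mem inferInstance _ (K.mul_mem (K.inv_mem d.2) c.2) t⁻¹⟩
      rw [show t⁻¹ * ((d : G)⁻¹ * c) * t = t⁻¹ * (d : G)⁻¹ * (c * t * a) * a⁻¹ by group, h]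
      convert A.mul_mem hb (A.inv_mem ha) using 1
      group
    rw [hAK, mem_bot] at h1
    have h2 : (d : G)⁻¹ * c = 1 := by
      have := congrArg (fun x => t * x * t⁻¹) h1
      simpa [mul_assoc] using this
    exact Subtype.ext (inv_mul_eq_one.1 h2).symm
  have hκ_mul : ∀ g h r, (κ (g * h) r : G) = g * κ h r * g⁻¹ * κ g (h • r) := by
    intro g h r
    refine congrArg Subtype.val (huniq (κ (g * h) r)
      (⟨g * κ h r * g⁻¹, Normal.conj_mem inferInstance _ (κ h r).2 g⟩ * κ g (h • r))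
      ((g * h) • r).out (α (g * h) r) (α g (h • r) * α h r) (hα _ _)
      (A.mul_mem (hα _ _) (hα _ _)) ?_)
    rw [← hκ]
    have h2 := hκ g (h • r)
    rw [← mul_smul] at h2
    calc g * h * r.out = g * (h * r.out) := mul_assoc _ _ _
      _ = g * κ h r * g⁻¹ * (g * (h • r).out) * α h r := by rw [hκ h r]; group
      _ = g * κ h r * g⁻¹ * (κ g (h • r) * ((g * h) • r).out * α g (h • r)) * α h r := by rw [h2]
      _ = _ := by simp only [Subgroup.coe_mul]; group
  have hκK : ∀ k ∈ K, ∀ r, (κ k r : G) = k := by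
    intro k hk r
    have hr : k • r = r := by
      conv_lhs => rw [← QuotientGroup.out_eq' r]
      conv_rhs => rw [← QuotientGroup.out_eq' r]
      refine QuotientGroup.eq.2 (hKU ?_)
      simpa [mul_assoc] using Normal.conj_mem inferInstance _ (K.inv_mem hk) r.out⁻¹
    refine congrArg Subtype.val (huniq (κ k r) ⟨k, hk⟩ r.out (α k r) 1 (hα _ _) A.one_mem ?_)
    have := hκ k r
    rw [hr] at this
    rw [← this, mul_one]
  open scoped IsMulCommutative in
  have key : ∃ E : G → K, IsCrossed K E ∧ ∀ k ∈ K, (E k : G) = k := by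
    have := Fintype.ofFinite (G ⧸ U)
    have hn : (Nat.card K).Coprime (Fintype.card (G ⧸ U)) := by
      rwa [← Nat.card_eq_fintype_card, ← index_eq_card]
    let act : G → K →* K := fun g => (MulAut.conjNormal g : MulAut K).toMonoidHom
    have hmul : ∀ g h r, κ (g * h) r = act g (κ h r) * κ g (h • r) := fun g h r =>
      Subtype.ext (hκ_mul g h r)
    let root := (powCoprime hn).symm
    have hroot : ∀ x : K, root x ^ Fintype.card (G ⧸ U) = x := (powCoprime hn).apply_symm_apply
    refine ⟨fun g => root (∏ r, κ g r), fun g h => ?_, fun k hk => ?_⟩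
    · have h1 : root (∏ r, κ (g * h) r) = act g (root (∏ r, κ h r)) * root (∏ r, κ g r) := by
        refine (powCoprime hn).injective ?_
        show (root (∏ r, κ (g * h) r)) ^ Fintype.card (G ⧸ U) =
          (act g (root (∏ r, κ h r)) * root (∏ r, κ g r)) ^ Fintype.card (G ⧸ U)
        rw [mul_pow, ← map_pow (act g), hroot, hroot, hroot, map_prod]
        simp_rw [hmul]
        rw [Finset.prod_mul_distrib]
        congr 1
        exact Fintype.prod_equiv (MulAction.toPerm h) _ _ fun r => rfl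
      dsimp only
      rw [h1]
      rfl
    · have h1 : root (∏ r, κ k r) = ⟨k, hk⟩ := by
        refine (powCoprime hn).injective ?_
        show (root (∏ r, κ k r)) ^ Fintype.card (G ⧸ U) = (⟨k, hk⟩ : K) ^ Fintype.card (G ⧸ U)
        rw [hroot]
        simp_rw [show ∀ r, κ k r = ⟨k, hk⟩ from fun r => Subtype.ext (hκK k hk r)]
        rw [Finset.prod_const, Finset.card_univ]
      dsimp only
      rw [h1]
  obtain ⟨E, hE, hEK⟩ := key
  exact ⟨_, isComplement'_complementOfCrossed hE hEK⟩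

/-- Gaschütz: conjugacy. -/
theorem exists_conj_of_gaschutz (hKU : K ≤ U) (hcop : (Nat.card K).Coprime U.index)
    (H₀ H₁ : Subgroup G) (h₀ : IsComplement' K H₀) (h₁ : IsComplement' K H₁)
    (hU : H₀ ⊓ U = H₁ ⊓ U) : ∃ k ∈ K, MulAut.conj k • H₀ = H₁ := by
  classical
  -- the crossed homomorphisms belonging to the two complements
  have hsplit : ∀ (H : Subgroup G), IsComplement' K H → ∃ E : G → K, IsCrossed K E ∧
      (∀ k ∈ K, (E k : G) = k) ∧ ∀ g, g ∈ H ↔ (E g : G) = 1 := by
    intro H hH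
    have hex : ∀ g : G, ∃ c : K, (c : G)⁻¹ * g ∈ H := fun g => by
      obtain ⟨⟨⟨c, hc⟩, ⟨x, hx⟩⟩, rfl⟩ := hH.2 g
      exact ⟨⟨c, hc⟩, by simpa using hx⟩
    choose E hE using hex
    have hu : ∀ (g : G) (c : K), (c : G)⁻¹ * g ∈ H → E g = c := by
      intro g c hc
      refine Subtype.ext (inv_mul_eq_one.1 ?_).symm
      have h1 : (c : G)⁻¹ * E g ∈ H ⊓ K := mem_inf.2
        ⟨by simpa [mul_assoc] using H.mul_mem hc (H.inv_mem (hE g)),
          K.mul_mem (K.inv_mem c.2) (E g).2⟩
      rwa [hH.disjoint.symm.eq_bot, mem_bot] at h1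
    refine ⟨E, fun g h => ?_, fun k hk => ?_, fun g => ⟨fun hg => ?_, fun hg => ?_⟩⟩
    · let d : K := ⟨g * E h * g⁻¹, Normal.conj_mem inferInstance _ (E h).2 g⟩
      refine congrArg Subtype.val (hu (g * h) (d * E g) ?_)
      rw [Subgroup.coe_mul, mul_inv_rev,
        show (E g : G)⁻¹ * (d : G)⁻¹ * (g * h) = ((E g : G)⁻¹ * g) * ((E h : G)⁻¹ * h) by
          simp only [d]; group]
      exact H.mul_mem (hE g) (hE h)
    · exact congrArg Subtype.val (hu k ⟨k, hk⟩ (by simp))
    · exact congrArg Subtype.val (hu g 1 (by simpa using hg))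
    · simpa [hg] using hE g
  obtain ⟨E₀, hE₀, hK₀, hm₀⟩ := hsplit H₀ h₀
  obtain ⟨E₁, hE₁, hK₁, hm₁⟩ := hsplit H₁ h₁
  open scoped IsMulCommutative in
  have key : ∃ d : K, ∀ g ∈ H₀, (E₁ g : G) = d * (g * (d : G)⁻¹ * g⁻¹) := by
    let f : G → K := fun g => E₁ g * (E₀ g)⁻¹
    let act : G → K →* K := fun g => (MulAut.conjNormal g : MulAut K).toMonoidHom
    have h0 : ∀ g h, E₀ (g * h) = act g (E₀ h) * E₀ g := fun g h => Subtype.ext (hE₀ g h)
    have h1 : ∀ g h, E₁ (g * h) = act g (E₁ h) * E₁ g := fun g h => Subtype.ext (hE₁ g h)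
    have hf : ∀ g h, f (g * h) = act g (f h) * f g := by
      intro g h
      show E₁ (g * h) * (E₀ (g * h))⁻¹ = act g (E₁ h * (E₀ h)⁻¹) * (E₁ g * (E₀ g)⁻¹)
      rw [h0, h1, map_mul, map_inv, mul_inv, mul_mul_mul_comm]
    have hfU : ∀ u ∈ U, f u = 1 := by
      intro u hu
      have e0 : E₁ u = E₀ u := by
        obtain ⟨⟨⟨c, hc⟩, ⟨x, hx⟩⟩, rfl⟩ := h₀.2 u
        have hxU : x ∈ U := by simpa using U.mul_mem (U.inv_mem (hKU hc)) hu
        have hx1 : x ∈ H₁ := (hU.le ⟨hx, hxU⟩).1
        refine Subtype.ext ?_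
        rw [hE₁, hE₀, hK₀ c hc, hK₁ c hc, (hm₀ x).1 hx, (hm₁ x).1 hx1]
      simp [f, e0]
    have := Fintype.ofFinite (G ⧸ U)
    have hn : (Nat.card K).Coprime (Fintype.card (G ⧸ U)) := by
      rwa [← Nat.card_eq_fintype_card, ← index_eq_card]
    have hcoset : ∀ (g : G) (r : G ⧸ U), f (g • r).out = act g (f r.out) * f g := by
      intro g r
      have hmem : (g * r.out)⁻¹ * (g • r).out ∈ U := by
        rw [← QuotientGroup.eq, QuotientGroup.out_eq']
        conv_rhs => rw [← QuotientGroup.out_eq' r]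
        rfl
      conv_lhs => rw [← mul_inv_cancel_left (g * r.out) (g • r).out]
      rw [hf (g * r.out), hfU _ hmem, map_one, one_mul, hf]
    let P : K := ∏ r : G ⧸ U, f r.out
    obtain ⟨d, hd⟩ := (powCoprime hn).surjective P
    have hd' : d ^ Fintype.card (G ⧸ U) = P := hd
    refine ⟨d, fun g hg => ?_⟩
    have hfg : f g = d * (act g d)⁻¹ := by
      refine (powCoprime hn).injective ?_
      show f g ^ _ = _ ^ _
      rw [mul_pow d, inv_pow, ← map_pow (act g), hd', eq_mul_inv_iff_mul_eq]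
      calc f g ^ Fintype.card (G ⧸ U) * act g P = ∏ r : G ⧸ U, act g (f r.out) * f g := by
            rw [Finset.prod_mul_distrib, Finset.prod_const, Finset.card_univ, ← map_prod, mul_comm]
        _ = ∏ r : G ⧸ U, f (g • r).out := by simp_rw [hcoset]
        _ = P := Fintype.prod_equiv (MulAction.toPerm g) _ _ fun r => rfl
    have he : E₁ g = f g := by
      have : E₀ g = 1 := Subtype.ext ((hm₀ g).1 hg)
      simp [f, this]
    rw [he, hfg]
    simp [act, mul_assoc]
  obtain ⟨d, hd⟩ := key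
  refine ⟨(d : G)⁻¹, K.inv_mem d.2, ?_⟩
  refine SetLike.coe_injective (Set.eq_of_subset_of_ncard_le ?_ ?_ (Set.toFinite _))
  · intro x hx
    rw [SetLike.mem_coe, mem_conj_smul_iff, inv_inv] at hx
    rw [SetLike.mem_coe, hm₁, show x = (d : G)⁻¹ * ((d * x * (d : G)⁻¹) * d) by group, hE₁,
      hE₁, hK₁ _ (K.inv_mem d.2), hK₁ _ d.2, hd _ hx]
    have hcm : ∀ a b : K, (a : G) * b = b * a := fun a b => congrArg Subtype.val (mul_comm' a b)
    have hdn := Normal.conj_mem (inferInstance : K.Normal) _ d.2 ((d : G) * x * (d : G)⁻¹)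
    have := hcm ⟨_, hdn⟩ ⟨(d : G), d.2⟩
    simp only at this
    calc _ = (d : G)⁻¹ * ((d * x * (d : G)⁻¹) * d * (d * x * (d : G)⁻¹)⁻¹ *
          (d : G)) * ((d * x * (d : G)⁻¹) * (d : G)⁻¹ * (d * x * (d : G)⁻¹)⁻¹) := by group
      _ = (d : G)⁻¹ * ((d : G) * ((d * x * (d : G)⁻¹) * d * (d * x * (d : G)⁻¹)⁻¹)) *
          ((d * x * (d : G)⁻¹) * (d : G)⁻¹ * (d * x * (d : G)⁻¹)⁻¹) := by rw [this]
      _ = 1 := by group
  · rw [← Nat.card_coe_set_eq, ← Nat.card_coe_set_eq]
    show Nat.card H₁ ≤ Nat.card (MulAut.conj (d : G)⁻¹ • H₀ : Subgroup G)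
    rw [card_conj_smul, ← h₀.symm.index_eq_card, ← h₁.symm.index_eq_card]

end Cfsg.Agent.Coprime
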