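import Mathlib

/-! Maschke's theorem for elementary sections of finite abelian groups, by averaging. -/

namespace Cfsg.Agent.Coprime

variable {A : Type*} [CommGroup A] [Finite A] {p : ℕ} [Fact p.Prime]

/-- An elementary section `T/C` has a complement to each subgroup. -/
theorem exists_compl_elementary {C S T : Subgroup A} (hCS : C ≤ S) (hST : S ≤ T)
    (hpow : ∀ t ∈ T, t ^ p ∈ C) : ∃ D : Subgroup A, C ≤ D ∧ D ⊓ S = C ∧ D ⊔ S = T := by
  have hp := (Fact.out : p.Prime)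
  obtain ⟨D, hD⟩ := (Set.toFinite {D : Subgroup A | C ≤ D ∧ D ≤ T ∧ D ⊓ S = C}).exists_maximal
    ⟨C, le_rfl, hCS.trans hST, inf_eq_left.2 hCS⟩
  refine ⟨D, hD.1.1, hD.1.2.2, le_antisymm (sup_le hD.1.2.1 hST) fun t ht => ?_⟩
  by_contra hts
  apply hts
  have hle : D ⊔ Subgroup.zpowers t ≤ T := sup_le hD.1.2.1 (Subgroup.zpowers_le.2 ht)
  by_cases hinf : (D ⊔ Subgroup.zpowers t) ⊓ S = C
  · exact Subgroup.mem_sup_left
      ((hD.2 ⟨hD.1.1.trans le_sup_left, hle, hinf⟩ le_sup_left) (Subgroup.mem_sup_right (Subgroup.mem_zpowers t)))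
  obtain ⟨s, hs, hsC⟩ : ∃ s ∈ (D ⊔ Subgroup.zpowers t) ⊓ S, s ∉ C := by
    by_contra h
    push Not at h
    exact hinf (le_antisymm h (le_inf (hD.1.1.trans le_sup_left) hCS))
  obtain ⟨d, hd, y, hy, hdy⟩ := Subgroup.mem_sup.1 hs.1
  obtain ⟨i, rfl⟩ := Subgroup.mem_zpowers_iff.1 hy
  have htp : t ^ (p : ℤ) ∈ D := by rw [zpow_natCast]; exact hD.1.1 (hpow t ht)
  by_cases hpi : (p : ℤ) ∣ i
  · obtain ⟨k, rfl⟩ := hpi
    refine absurd ?_ hsC
    rw [← hD.1.2.2]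
    refine ⟨?_, hs.2⟩
    rw [← hdy, zpow_mul]
    exact mul_mem hd (zpow_mem htp k)
  · obtain ⟨a, b, hab⟩ : IsCoprime (p : ℤ) i :=
      ((Nat.prime_iff_prime_int.1 hp).coprime_iff_not_dvd).2 hpi
    have hti : t ^ i ∈ D ⊔ S := by
      rw [show t ^ i = d⁻¹ * s by rw [← hdy, inv_mul_cancel_left]]
      exact mul_mem (Subgroup.mem_sup_left (inv_mem hd)) (Subgroup.mem_sup_right hs.2)
    rw [show t = (t ^ (p : ℤ)) ^ a * (t ^ i) ^ b by
      rw [← zpow_mul, ← zpow_mul, ← zpow_add, mul_comm (p : ℤ), mul_comm i, hab, zpow_one]]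
    exact mul_mem (zpow_mem (Subgroup.mem_sup_left htp) a) (zpow_mem hti b)

/-- An elementary section `T/C` has an invariant complement to each invariant subgroup, for a group
of automorphisms of order prime to `p`. -/
theorem exists_invariant_compl_elementary (X : Subgroup (MulAut A)) (hX : (Nat.card X).Coprime p)
    {C S T : Subgroup A} (hCS : C ≤ S) (hST : S ≤ T) (hpow : ∀ t ∈ T, t ^ p ∈ C)
    (hCi : ∀ x ∈ X, ∀ a ∈ C, x a ∈ C) (hSi : ∀ x ∈ X, ∀ a ∈ S, x a ∈ S)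
    (hTi : ∀ x ∈ X, ∀ a ∈ T, x a ∈ T) :
    ∃ D : Subgroup A, C ≤ D ∧ (∀ x ∈ X, ∀ a ∈ D, x a ∈ D) ∧ D ⊓ S = C ∧ D ⊔ S = T := by
  classical
  have := Fintype.ofFinite X
  have hp := (Fact.out : p.Prime)
  obtain ⟨D₀, -, hD1, hD2⟩ := exists_compl_elementary hCS hST hpow
  let q := QuotientGroup.mk' C
  have hq : ∀ {a}, q a = 1 ↔ a ∈ C := fun {a} => QuotientGroup.eq_one_iff a
  have hqeq : ∀ {a b}, q a = q b ↔ a / b ∈ C := fun {a b} => QuotientGroup.eq_iff_div_mem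
  have hdec : ∀ t : T, ∃ s, s ∈ S ∧ (t : A) / s ∈ D₀ := by
    intro t
    obtain ⟨d, hd, s, hs, hds⟩ := Subgroup.mem_sup.1 (hD2.symm ▸ t.2 : (t : A) ∈ D₀ ⊔ S)
    exact ⟨s, hs, by rw [← hds, mul_div_cancel_right]; exact hd⟩
  choose s hs hsD using hdec
  have huniq : ∀ (t : T) (r : A), r ∈ S → (t : A) / r ∈ D₀ → q (s t) = q r := by
    intro t r hr hrD
    rw [hqeq, ← hD1]
    refine Subgroup.mem_inf.2 ⟨?_, div_mem (hs t) hr⟩
    rw [show s t / r = ((t : A) / r) / ((t : A) / s t) from (div_div_div_cancel_left _ _ _).symm]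
    exact div_mem hrD (hsD t)
  let act : X → T → T := fun x t => ⟨(x : MulAut A) (t : A), hTi x x.2 _ t.2⟩
  obtain ⟨m, hm⟩ : ∃ m, Nat.card X * m ≡ 1 [MOD p] := by
    obtain ⟨m, -, hm⟩ := Nat.exists_mul_mod_eq_one_of_coprime hX hp.one_lt
    exact ⟨m, by rw [Nat.ModEq, hm, Nat.mod_eq_of_lt hp.one_lt]⟩
  let F : T → A := fun t => (∏ x : X, (x : MulAut A) (s (act x⁻¹ t))) ^ m
  have hFS : ∀ t, F t ∈ S := fun t => S.pow_mem (S.prod_mem fun (x : X) _ => hSi x x.2 _ (hs _)) m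
  have hxq : ∀ (x : X) {a b : A}, q a = q b → q ((x : MulAut A) a) = q ((x : MulAut A) b) := by
    intro x a b h
    rw [hqeq] at h ⊢
    rw [← map_div]
    exact hCi x x.2 _ h
  have hFmul : ∀ t u, q (F (t * u)) = q (F t) * q (F u) := by
    intro t u
    simp only [F, map_pow, map_prod, ← mul_pow, ← Finset.prod_mul_distrib]
    congr 1
    refine Finset.prod_congr rfl fun x _ => ?_
    rw [← map_mul q, ← map_mul (x : MulAut A)]
    refine hxq x (huniq _ _ (mul_mem (hs _) (hs _)) ?_)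
    have h : ((act x⁻¹ (t * u) : T) : A) = (act x⁻¹ t : A) * (act x⁻¹ u : A) := map_mul _ _ _
    rw [h, mul_div_mul_comm]
    exact mul_mem (hsD _) (hsD _)
  have hFid : ∀ t : T, (t : A) ∈ S → q (F t) = q t := by
    intro t ht
    have : ∀ x : X, q ((x : MulAut A) (s (act x⁻¹ t))) = q t := by
      intro x
      have h1 := huniq (act x⁻¹ t) (act x⁻¹ t : A) (hSi _ (x⁻¹).2 _ ht) (by rw [div_self']; exact one_mem _)
      rw [hxq x h1]
      simp [act]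
    simp only [F, map_pow, map_prod, this, Finset.prod_const, Finset.card_univ, ← pow_mul,
      ← Nat.card_eq_fintype_card]
    conv_rhs => rw [← pow_one (q t)]
    refine pow_eq_pow_iff_modEq.2 (hm.of_dvd ?_)
    exact orderOf_dvd_of_pow_eq_one (by rw [← map_pow, hq]; exact hpow _ t.2)
  let g : T →* A ⧸ C := MonoidHom.mk' (fun t => q (F t)) hFmul
  refine ⟨g.ker.map T.subtype, fun c hc => ⟨⟨c, hST (hCS hc)⟩, ?_, rfl⟩, ?_, ?_, ?_⟩
  · show q (F _) = 1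
    rw [hFid _ (hCS hc), hq]
    exact hc
  · rintro y hy _ ⟨t, ht, rfl⟩
    refine ⟨act ⟨y, hy⟩ t, ?_, rfl⟩
    show q (F _) = 1
    have he : F (act ⟨y, hy⟩ t) = y (F t) := by
      simp only [F, map_pow, map_prod]
      congr 1
      refine Fintype.prod_equiv (Equiv.mulLeft (⟨y, hy⟩ : X)⁻¹) _ _ fun x => ?_
      simp [act, MulAut.mul_apply, mul_inv_rev]
    rw [he, hq]
    exact hCi y hy _ (hq.1 ht)
  · refine le_antisymm ?_ fun c hc => ⟨⟨⟨c, hST (hCS hc)⟩, ?_, rfl⟩, hCS hc⟩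
    · rintro _ ⟨⟨t, ht, rfl⟩, htS⟩
      exact hq.1 ((hFid t htS).symm.trans ht)
    · show q (F _) = 1
      rw [hFid _ (hCS hc), hq]
      exact hc
  · refine le_antisymm (sup_le (Subgroup.map_subtype_le _) hST) fun t ht => ?_
    rw [show t = t / F ⟨t, ht⟩ * F ⟨t, ht⟩ from (div_mul_cancel _ _).symm]
    refine mul_mem (Subgroup.mem_sup_left ⟨⟨t, ht⟩ / ⟨F ⟨t, ht⟩, hST (hFS _)⟩, ?_, rfl⟩)
      (Subgroup.mem_sup_right (hFS _))
    show g _ = 1
    rw [map_div]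
    show q (F _) / q (F _) = 1
    rw [hFid ⟨F ⟨t, ht⟩, hST (hFS _)⟩ (hFS _), div_self']

end Cfsg.Agent.Coprime
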