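import Cfsg.Agent.Lib.Coprime.IndexBound
import Cfsg.Agent.Lib.Coprime.Action
import Mathlib.GroupTheory.Schreier
import Mathlib.Data.Set.Card.Arithmetic

/-!
# Derived subgroups bounded by centraliser data

* `card_commutatorSet_le`: at most `[G : Z(G)]²` commutators;
* `relIndex_centralizer_singleton_le`: `[H : C_H(x)] ≤ |H'|` for `x ∈ H`;
* `card_commutator_le_of_generators`: `G'` is bounded when `G` has generators with boundedly many
  conjugates and boundedly many commutators, each of bounded order;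
* `relIndex_centralizer_le_of_fixed`: bound on `[K : C_K(x)]` for `x` fixed by a big part of a
  group of operators.
-/

set_option autoImplicit false

open scoped Pointwise commutatorElement

namespace Cfsg.Agent.Coprime

open Subgroup

variable {G : Type*} [Group G]

theorem card_commutatorSet_le [Finite G] :
    Nat.card (commutatorSet G) ≤ (center G).index ^ 2 := by
  rw [sq, index, ← Nat.card_prod]
  refine Nat.card_le_card_of_surjective
    (fun q : (G ⧸ center G) × (G ⧸ center G) =>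
      (⟨⁅q.1.out, q.2.out⁆, commutator_mem_commutatorSet _ _⟩ : commutatorSet G)) ?_
  rintro ⟨_, a, b, rfl⟩
  refine ⟨((a : G ⧸ center G), (b : G ⧸ center G)), Subtype.ext ?_⟩
  obtain ⟨za, hza⟩ := QuotientGroup.mk_out_eq_mul (center G) a
  obtain ⟨zb, hzb⟩ := QuotientGroup.mk_out_eq_mul (center G) b
  show ⁅_, _⁆ = ⁅a, b⁆
  rw [hza, hzb]
  have hza' : ∀ g : G, g * za = za * g := mem_center_iff.1 za.2
  have hzb' : ∀ g : G, g * zb = zb * g := mem_center_iff.1 zb.2
  simp only [commutatorElement_def, mul_inv_rev]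
  calc a * za * (b * zb) * ((za : G)⁻¹ * a⁻¹) * ((zb : G)⁻¹ * b⁻¹)
      = a * (za * (b * zb)) * (za : G)⁻¹ * a⁻¹ * (zb : G)⁻¹ * b⁻¹ := by group
    _ = a * ((b * zb) * za) * (za : G)⁻¹ * a⁻¹ * (zb : G)⁻¹ * b⁻¹ := by rw [hza']
    _ = a * b * (zb * a⁻¹) * (zb : G)⁻¹ * b⁻¹ := by group
    _ = a * b * (a⁻¹ * zb) * (zb : G)⁻¹ * b⁻¹ := by rw [hzb']
    _ = _ := by group

theorem relIndex_centralizer_singleton_le [Finite G] {H : Subgroup G} {x : G} (hx : x ∈ H) :
    (centralizer ({x} : Set G)).relIndex H ≤ Nat.card (⁅H, H⁆ : Subgroup G) := by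
  rw [relIndex, index]
  refine Nat.card_le_card_of_injective (fun q => (⟨⁅((q.out : H) : G), x⁆,
    commutator_mem_commutator q.out.2 hx⟩ : (⁅H, H⁆ : Subgroup G))) fun q q' h => ?_
  have h' := congrArg Subtype.val h
  simp only [commutatorElement_def, mul_left_inj] at h'
  rw [← q.out_eq, ← q'.out_eq]
  refine QuotientGroup.eq.2 ?_
  rw [mem_subgroupOf, mem_centralizer_singleton_iff]
  simp only [Subgroup.coe_mul, Subgroup.coe_inv]
  calc ((q.out : H) : G)⁻¹ * (q'.out : H) * x
      = ((q.out : H) : G)⁻¹ * ((q'.out : H) * x * ((q'.out : H) : G)⁻¹) * (q'.out : H) := by group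
    _ = ((q.out : H) : G)⁻¹ * ((q.out : H) * x * ((q.out : H) : G)⁻¹) * (q'.out : H) := by rw [h']
    _ = x * (((q.out : H) : G)⁻¹ * (q'.out : H)) := by group

theorem ncard_conjugatesOf_le [Finite G] (t : G) :
    (conjugatesOf t).ncard ≤ (centralizer ({t} : Set G)).index := by
  classical
  rw [← Nat.card_coe_set_eq, index]
  refine Nat.card_le_card_of_surjective
    (fun q : G ⧸ centralizer ({t} : Set G) =>
      (⟨q.out * t * q.out⁻¹, isConj_iff.2 ⟨q.out, rfl⟩⟩ : conjugatesOf t)) ?_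
  rintro ⟨y, hy⟩
  obtain ⟨c, rfl⟩ := isConj_iff.1 hy
  refine ⟨(c : G ⧸ centralizer ({t} : Set G)), Subtype.ext ?_⟩
  obtain ⟨z, hz⟩ := QuotientGroup.mk_out_eq_mul (centralizer ({t} : Set G)) c
  show _ * t * _⁻¹ = _
  rw [hz, mul_inv_rev, mul_assoc c, mem_centralizer_singleton_iff.1 z.2]
  group

theorem index_centralizer_conj (t c : G) :
    (centralizer ({c * t * c⁻¹} : Set G)).index = (centralizer ({t} : Set G)).index := by
  have h : centralizer ({c * t * c⁻¹} : Set G) =
      (centralizer ({t} : Set G)).comap (MulAut.conj c⁻¹).toMonoidHom := by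
    ext y
    simp only [mem_comap, MulEquiv.toMonoidHom_eq_coe, MonoidHom.coe_coe, MulAut.conj_apply,
      mem_centralizer_singleton_iff, inv_inv]
    constructor
    · intro e
      calc c⁻¹ * y * c * t = c⁻¹ * (y * (c * t * c⁻¹)) * c := by group
        _ = c⁻¹ * ((c * t * c⁻¹) * y) * c := by rw [e]
        _ = t * (c⁻¹ * y * c) := by group
    · intro e
      calc y * (c * t * c⁻¹) = c * ((c⁻¹ * y * c) * t) * c⁻¹ := by group
        _ = c * (t * (c⁻¹ * y * c)) * c⁻¹ := by rw [e]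
        _ = c * t * c⁻¹ * y := by group
  rw [h, index_comap_of_surjective]
  exact (MulAut.conj c⁻¹).surjective

/-- An upper bound for the derived subgroup, see `card_commutator_le_of_generators`. -/
noncomputable def derivedBound (L M m : ℕ) : ℕ :=
  (Finset.range (((M ^ 2) ^ (L * M ^ 2)) ^ 2 + 1)).sup cardCommutatorBound * m ^ (L * M ^ 2)

/-- If `G` is generated by a set of elements with at most `M` conjugates whose commutators lie in a
set of at most `L` elements of order at most `m`, then `|G'|` is bounded in terms of `L, M, m`. -/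
theorem card_commutator_le_of_generators [Finite G] {S T : Set G} (hS : closure S = ⊤)
    {L M m : ℕ} (hm0 : 1 ≤ m) (hM0 : 1 ≤ M) (hT : ∀ x ∈ S, ∀ y ∈ S, ⁅x, y⁆ ∈ T)
    (hM : ∀ x ∈ S, (centralizer ({x} : Set G)).index ≤ M) (hL : T.ncard ≤ L)
    (hm : ∀ t ∈ T, orderOf t ≤ m) :
    Nat.card (commutator G) ≤ derivedBound L M m := by
  classical
  set T₀ : Set G := {t | ∃ x ∈ S, ∃ y ∈ S, ⁅x, y⁆ = t} with hT₀
  have hT₀T : T₀ ⊆ T := by
    rintro _ ⟨x, hx, y, hy, rfl⟩
    exact hT x hx y hy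
  set Y : Set G := Group.conjugatesOfSet T₀ with hY
  set X : Subgroup G := normalClosure T₀ with hX
  have hXG : commutator G ≤ X := by
    have hcomm : ∀ a b : G ⧸ X, a * b = b * a := by
      have hgen : closure (QuotientGroup.mk' X '' S) = ⊤ := by
        rw [← MonoidHom.map_closure, hS, map_top_of_surjective _ (QuotientGroup.mk'_surjective X)]
      have hpair : ∀ a ∈ QuotientGroup.mk' X '' S, ∀ b ∈ QuotientGroup.mk' X '' S,
          a * b = b * a := by
        rintro _ ⟨x, hx, rfl⟩ _ ⟨y, hy, rfl⟩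
        refine commutatorElement_eq_one_iff_mul_comm.1 ?_
        rw [← map_commutatorElement]
        exact (QuotientGroup.eq_one_iff _).2 (subset_normalClosure ⟨x, hx, y, hy, rfl⟩)
      intro a b
      have hcz : closure (QuotientGroup.mk' X '' S) ≤
          centralizer (QuotientGroup.mk' X '' S : Set (G ⧸ X)) :=
        (closure_le _).2 fun a ha => mem_centralizer_iff.2 fun b hb => hpair b hb a ha
      rw [hgen] at hcz
      have h2 : closure (QuotientGroup.mk' X '' S) ≤ centralizer ({a} : Set (G ⧸ X)) :=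
        (closure_le _).2 fun b hb => mem_centralizer_singleton_iff.2
          (mem_centralizer_iff.1 (hcz (mem_top a)) b hb)
      rw [hgen] at h2
      exact (mem_centralizer_singleton_iff.1 (h2 (mem_top b))).symm
    rw [commutator_def, commutator_le]
    intro a _ b _
    rw [← QuotientGroup.eq_one_iff, ← QuotientGroup.mk'_apply, map_commutatorElement]
    exact commutatorElement_eq_one_iff_mul_comm.2 (hcomm _ _)
  have hidx : ∀ y ∈ Y, (centralizer ({y} : Set G)).index ≤ M ^ 2 := by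
    intro y hy
    obtain ⟨t, ⟨a, ha, b, hb, rfl⟩, hty⟩ := Group.mem_conjugatesOfSet_iff.1 hy
    obtain ⟨c, rfl⟩ := isConj_iff.1 hty
    rw [index_centralizer_conj, sq]
    refine le_trans ?_ ((index_inf_le (H := centralizer ({a} : Set G))
      (K := centralizer ({b} : Set G))).trans (Nat.mul_le_mul (hM a ha) (hM b hb)))
    refine Nat.le_of_dvd (Nat.pos_of_ne_zero index_ne_zero_of_finite) (index_dvd_of_le ?_)
    intro z hz
    have h1 : Commute z a := mem_centralizer_singleton_iff.1 hz.1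
    have h2 : Commute z b := mem_centralizer_singleton_iff.1 hz.2
    exact mem_centralizer_singleton_iff.2
      (((h1.mul_right h2).mul_right h1.inv_right).mul_right h2.inv_right).eq
  have hord : ∀ y ∈ Y, orderOf y ≤ m := by
    intro y hy
    obtain ⟨t, ht, hty⟩ := Group.mem_conjugatesOfSet_iff.1 hy
    obtain ⟨c, rfl⟩ := isConj_iff.1 hty
    rw [← MulAut.conj_apply, MulEquiv.orderOf_eq]
    exact hm t (hT₀T ht)
  set Yf : Finset G := (Set.toFinite Y).toFinset with hYf
  have hYn : Yf.card ≤ L * M ^ 2 := by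
    rw [← Set.ncard_eq_toFinset_card Y (Set.toFinite Y)]
    have hcov : Y ⊆ ⋃ t ∈ (Set.toFinite T₀).toFinset, conjugatesOf t := by
      intro y hy
      obtain ⟨t, ht, hty⟩ := Group.mem_conjugatesOfSet_iff.1 hy
      exact Set.mem_biUnion (by simpa using ht) hty
    refine (Set.ncard_le_ncard hcov (Set.toFinite _)).trans
      ((Finset.set_ncard_biUnion_le _ _).trans ?_)
    refine (Finset.sum_le_card_nsmul _ _ (M ^ 2) fun t ht => ?_).trans ?_
    · refine (ncard_conjugatesOf_le t).trans (hidx t ?_)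
      exact Group.subset_conjugatesOfSet (by simpa using ht)
    · rw [smul_eq_mul, ← Set.ncard_eq_toFinset_card T₀]
      exact Nat.mul_le_mul_right _ ((Set.ncard_le_ncard hT₀T (Set.toFinite _)).trans hL)
  have hYX : ∀ y ∈ Y, y ∈ X := fun y hy => conjugatesOfSet_subset_normalClosure hy
  have hXY : X = closure Y := rfl
  -- the centre of `X`
  have hcen : (center X).index ≤ (M ^ 2) ^ (L * M ^ 2) := by
    have hle : (⨅ y : {y // y ∈ Yf}, centralizer ({(y : G)} : Set G)).subgroupOf X ≤ center X := by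
      intro z hz
      rw [mem_subgroupOf, mem_iInf] at hz
      refine mem_center_iff.2 fun w => Subtype.ext ?_
      have h : X ≤ centralizer ({(z : G)} : Set G) :=
        (le_of_eq hXY).trans ((closure_le _).2 fun y hy => mem_centralizer_singleton_iff.2
          (mem_centralizer_singleton_iff.1 (hz ⟨y, (Set.Finite.mem_toFinset _).2 hy⟩)).symm)
      exact mem_centralizer_singleton_iff.1 (h w.2)
    refine (Nat.le_of_dvd (Nat.pos_of_ne_zero index_ne_zero_of_finite) (index_dvd_of_le hle)).trans ?_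
    refine (relIndex_iInf_le _).trans ?_
    refine (Finset.prod_le_pow_card _ _ (M ^ 2) fun y _ => ?_).trans ?_
    · refine le_trans ?_ (hidx y ((Set.Finite.mem_toFinset _).1 y.2))
      rw [← relIndex_top_right]
      exact relIndex_le_of_le_right le_top (by rw [relIndex_top_right]; exact index_ne_zero_of_finite)
    · rw [Finset.card_univ, Fintype.card_coe]
      exact Nat.pow_le_pow_right (Nat.one_le_pow _ _ hM0) hYn
  have hder : Nat.card (⁅X, X⁆ : Subgroup G) ≤
      (Finset.range (((M ^ 2) ^ (L * M ^ 2)) ^ 2 + 1)).sup cardCommutatorBound := by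
    rw [← X.map_subtype_commutator, card_subtype]
    refine (card_commutator_le_of_finite_commutatorSet (G := X)).trans (Finset.le_sup ?_)
    rw [Finset.mem_range, Nat.lt_succ_iff]
    exact card_commutatorSet_le.trans (Nat.pow_le_pow_left hcen 2)
  -- the abelian quotient
  have hXX : ⁅X, X⁆ ≤ X := commutator_le_self X
  have hquot : (⁅X, X⁆ : Subgroup G).relIndex X ≤ m ^ (L * M ^ 2) := by
    have h := relIndex_sup_iSup_dvd_prod Yf (fun y => zpowers y) hXX le_rfl
      fun y hy => zpowers_le.2 (hYX y (by simpa [hYf] using hy))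
    have htop : ⁅X, X⁆ ⊔ ⨆ y ∈ Yf, zpowers y = X := by
      refine le_antisymm (sup_le hXX (iSup₂_le fun y hy => zpowers_le.2 (hYX y (by simpa [hYf] using hy)))) ?_
      refine le_sup_of_le_right ?_
      rw [hXY, closure_le]
      intro y hy
      exact mem_iSup_of_mem y (mem_iSup_of_mem (by simpa [hYf] using hy) (mem_zpowers y))
    rw [htop] at h
    refine (Nat.le_of_dvd (Finset.prod_pos fun y _ =>
      Nat.pos_of_ne_zero index_ne_zero_of_finite) h).trans ?_
    refine (Finset.prod_le_pow_card _ _ m fun y hy => ?_).trans (Nat.pow_le_pow_right hm0 hYn)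
    refine (Nat.le_of_dvd Nat.card_pos (relIndex_dvd_card _ _)).trans ?_
    rw [Nat.card_zpowers]
    exact hord y (by simpa [hYf] using hy)
  calc Nat.card (commutator G) ≤ Nat.card X := card_le_of_le hXG
    _ = Nat.card (⁅X, X⁆ : Subgroup G) * (⁅X, X⁆ : Subgroup G).relIndex X :=
        (card_mul_relIndex hXX).symm
    _ ≤ _ := Nat.mul_le_mul hder hquot

end Cfsg.Agent.Coprime

namespace Cfsg.Agent.Coprime

open Subgroup

variable {G : Type*} [Group G]

theorem conj_mem_centralizer_of_commute {A : Subgroup G} [IsMulCommutative A] {B : Subgroup G}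
    (hB : B ≤ A) {a x : G} (ha : a ∈ A) (hx : x ∈ centralizer (B : Set G)) :
    a * x * a⁻¹ ∈ centralizer (B : Set G) := by
  refine mem_centralizer_iff.2 fun b hb => ?_
  have hab : Commute b a := congrArg Subtype.val (mul_comm' (⟨b, hB hb⟩ : A) ⟨a, ha⟩)
  have hbx : Commute b x := mem_centralizer_iff.1 hx b hb
  exact ((hab.mul_right hbx).mul_right hab.inv_right).eq

/-- Elements fixed by `B₁` have boundedly many conjugates. -/
theorem relIndex_centralizer_le_of_fixed [Finite G] {A K : Subgroup G} [IsMulCommutative A]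
    (Bs : Finset (Subgroup G))
    (hBs : ∀ B ≤ A, (∃ a ∈ A, B ⊔ zpowers a = A) → B ∈ Bs) (hBA : ∀ B ∈ Bs, B ≤ A)
    (hmeet : ∀ B ∈ Bs, ∀ B' ∈ Bs, ∃ a ∈ A, a ≠ 1 ∧ a ∈ B ∧ a ∈ B')
    (hAK : A ≤ normalizer (K : Set G)) (hcop : (Nat.card A).Coprime (Nat.card K)) {m : ℕ}
    (hm : ∀ a ∈ A, a ≠ 1 → Nat.card (⁅K ⊓ centralizer {a}, K ⊓ centralizer {a}⁆ : Subgroup G) ≤ m)
    {B₁ : Subgroup G} (hB₁ : B₁ ∈ Bs) {x : G} (hxK : x ∈ K)
    (hx : x ∈ centralizer (B₁ : Set G)) :
    (centralizer ({x} : Set G)).relIndex K ≤ (m ^ Nat.card A) ^ Bs.card := by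
  classical
  have := Fintype.ofFinite A
  let f : A → Subgroup G := fun a => centralizer ({(a : G) * x * (a : G)⁻¹} : Set G)
  let D : Subgroup G := K ⊓ ⨅ a : A, f a
  have hDx : D ≤ centralizer ({x} : Set G) := fun z hz => by
    have := mem_iInf.1 hz.2 (1 : A)
    simpa [f] using this
  have hDA : A ≤ normalizer (D : Set G) := by
    have key : ∀ a ∈ A, ∀ z ∈ D, a * z * a⁻¹ ∈ D := by
      intro a ha z hz
      refine ⟨(mem_normalizer_iff.1 (hAK ha) z).1 hz.1, mem_iInf.2 fun b => ?_⟩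
      have h := mem_centralizer_singleton_iff.1 (mem_iInf.1 hz.2 (⟨a, ha⟩⁻¹ * b))
      simp only [Subgroup.coe_mul, Subgroup.coe_inv] at h
      refine mem_centralizer_singleton_iff.2 ?_
      calc a * z * a⁻¹ * ((b : G) * x * (b : G)⁻¹)
          = a * (z * (a⁻¹ * (b : G) * x * (a⁻¹ * (b : G))⁻¹)) * a⁻¹ := by group
        _ = a * ((a⁻¹ * (b : G) * x * (a⁻¹ * (b : G))⁻¹) * z) * a⁻¹ := by rw [h]
        _ = (b : G) * x * (b : G)⁻¹ * (a * z * a⁻¹) := by group
    intro a ha
    rw [mem_normalizer_iff]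
    refine fun z => ⟨key a ha z, fun h => ?_⟩
    have := key a⁻¹ (A.inv_mem ha) _ h
    simpa [mul_assoc] using this
  refine (Nat.le_of_dvd (Nat.pos_of_ne_zero index_ne_zero_of_finite)
    (relIndex_dvd_of_le_left K hDx)).trans ?_
  refine (Nat.le_of_dvd (Finset.prod_pos fun B _ => Nat.pos_of_ne_zero index_ne_zero_of_finite)
    (relIndex_dvd_prod_fixed Bs hBs hBA inf_le_left hDA hAK hcop)).trans ?_
  refine Finset.prod_le_pow_card _ _ _ fun B hB => ?_
  obtain ⟨a₀, ha₀, ha₀1, haB, haB₁⟩ := hmeet B hB B₁ hB₁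
  set H : Subgroup G := K ⊓ centralizer {a₀} with hH
  have hle : K ⊓ centralizer (B : Set G) ≤ H :=
    inf_le_inf_left _ (centralizer_le (Set.singleton_subset_iff.2 haB))
  have hD : (⨅ a : A, f a).relIndex (K ⊓ centralizer (B : Set G)) =
      (D ⊓ centralizer (B : Set G)).relIndex (K ⊓ centralizer (B : Set G)) := by
    rw [← inf_relIndex_right (⨅ a : A, f a)]
    congr 1
    rw [inf_left_comm, inf_assoc]
  refine (le_of_eq hD.symm).trans ?_
  refine (relIndex_iInf_le _).trans ((Finset.prod_le_pow_card _ _ m fun a _ => ?_).trans (le_of_eq ?_))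
  · have haH : (a : G) * x * (a : G)⁻¹ ∈ H := by
      refine ⟨(mem_normalizer_iff.1 (hAK a.2) x).1 hxK, ?_⟩
      exact centralizer_le (Set.singleton_subset_iff.2 haB₁)
        (conj_mem_centralizer_of_commute (hBA B₁ hB₁) a.2 hx)
    exact (relIndex_le_of_le_right hle index_ne_zero_of_finite).trans
      ((relIndex_centralizer_singleton_le haH).trans (hm a₀ ha₀ ha₀1))
  · rw [Finset.card_univ, Nat.card_eq_fintype_card]

/-- **Derived subgroup bound.** -/
theorem card_commutator_le_of_fixed [Finite G] {A K : Subgroup G} [IsMulCommutative A] {q : ℕ}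
    (hq : q.Prime) (hA : Nat.card A = q ^ 3) (hAe : ∀ a ∈ A, a ^ q = 1)
    (hAK : A ≤ normalizer (K : Set G)) (hcop : (Nat.card A).Coprime (Nat.card K)) {m : ℕ}
    (hm : ∀ a ∈ A, a ≠ 1 → Nat.card (⁅K ⊓ centralizer {a}, K ⊓ centralizer {a}⁆ : Subgroup G) ≤ m) :
    Nat.card (⁅K, K⁆ : Subgroup G) ≤
      derivedBound (q ^ 3 * m) ((m ^ q ^ 3) ^ 2 ^ q ^ 3) m := by
  classical
  have := Fintype.ofFinite A
  have hm1 : 1 ≤ m := by
    obtain ⟨a, ha⟩ : ∃ a : A, a ≠ 1 := by
      have : Nontrivial A := Finite.one_lt_card_iff_nontrivial.1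
        (hA ▸ Nat.one_lt_pow (by norm_num) hq.one_lt)
      exact exists_ne 1
    exact le_trans Nat.card_pos (hm a a.2 fun h => ha (Subtype.ext h))
  let Bs : Finset (Subgroup G) :=
    (Set.toFinite {B : Subgroup G | B ≤ A ∧ q ^ 2 ≤ Nat.card B}).toFinset
  have hmem : ∀ {B}, B ∈ Bs ↔ B ≤ A ∧ q ^ 2 ≤ Nat.card B := fun {B} => by simp [Bs]
  have hBs : ∀ B ≤ A, (∃ a ∈ A, B ⊔ zpowers a = A) → B ∈ Bs := by
    rintro B hB ⟨a, ha, heq⟩
    refine hmem.2 ⟨hB, ?_⟩
    have hn : zpowers a ≤ normalizer (B : Set G) := fun z hz => by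
      have hzA : z ∈ A := zpowers_le.2 ha hz
      exact centralizer_le_normalizer _ (mem_centralizer_iff.2 fun b hb =>
        congrArg Subtype.val (mul_comm' (⟨b, hB hb⟩ : A) ⟨z, hzA⟩))
    have h1 := (card_sup_of_le_normalizer hn)
    have hz : Nat.card (zpowers a) ≤ q := by
      rw [Nat.card_zpowers]
      exact Nat.le_of_dvd hq.pos (orderOf_dvd_of_pow_eq_one (hAe a ha))
    have h2 : Nat.card A ≤ Nat.card B * q := by
      have h3 := relIndex_sup_right_of_le_normalizer hn
      rw [← heq, ← card_mul_relIndex (le_sup_left : B ≤ B ⊔ zpowers a), sup_comm, h3]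
      exact Nat.mul_le_mul_left _ ((Nat.le_of_dvd Nat.card_pos (relIndex_dvd_card _ _)).trans hz)
    rw [hA, pow_succ] at h2
    exact Nat.le_of_mul_le_mul_right h2 hq.pos
  have hBA : ∀ B ∈ Bs, B ≤ A := fun B hB => (hmem.1 hB).1
  have hmeet : ∀ B ∈ Bs, ∀ B' ∈ Bs, ∃ a ∈ A, a ≠ 1 ∧ a ∈ B ∧ a ∈ B' := by
    intro B hB B' hB'
    obtain ⟨hBA1, hBc⟩ := hmem.1 hB
    obtain ⟨hB'A, hB'c⟩ := hmem.1 hB'
    have h := ncard_mul_mul_card_inf B B'
    have hsub : Nat.card ((B : Set G) * (B' : Set G) : Set G) ≤ q ^ 3 := by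
      rw [← hA]
      refine Nat.card_mono (Set.toFinite _) ?_
      rintro _ ⟨b, hb, b', hb', rfl⟩
      exact A.mul_mem (hBA1 hb) (hB'A hb')
    have hne : B ⊓ B' ≠ ⊥ := by
      intro hbot
      rw [hbot, Subgroup.card_bot, mul_one] at h
      have h4 : q ^ 4 ≤ q ^ 3 := by
        calc q ^ 4 = q ^ 2 * q ^ 2 := by ring
          _ ≤ Nat.card B * Nat.card B' := Nat.mul_le_mul hBc hB'c
          _ ≤ q ^ 3 := h ▸ hsub
      have := (Nat.pow_le_pow_iff_right hq.one_lt).1 h4
      omega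
    obtain ⟨⟨a, ha⟩, ha1⟩ := Subgroup.ne_bot_iff_exists_ne_one.1 hne
    exact ⟨a, hBA1 ha.1, fun h => ha1 (Subtype.ext h), ha.1, ha.2⟩
  have hcard : Bs.card ≤ 2 ^ q ^ 3 := by
    rw [← hA, Nat.card_eq_fintype_card (α := A)]
    have hinj : ∀ B ∈ Bs, ∀ B' ∈ Bs, ({a : A | (a : G) ∈ B} : Finset A) = ({a : A | (a : G) ∈ B'} : Finset A) →
        B = B' := by
      intro B hB B' hB' h
      ext z
      constructor <;> intro hz
      · have := Finset.ext_iff.1 h ⟨z, hBA B hB hz⟩
        simpa [hz] using this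
      · have := Finset.ext_iff.1 h ⟨z, hBA B' hB' hz⟩
        simpa [hz] using this
    refine le_trans (Finset.card_le_card_of_injOn _ (fun _ _ => Finset.mem_univ _) hinj) (le_of_eq ?_)
    rw [Finset.card_univ, Fintype.card_finset]
  have hM : ∀ x ∈ K, ∀ B₁ ∈ Bs, x ∈ centralizer (B₁ : Set G) →
      (centralizer ({x} : Set G)).relIndex K ≤ (m ^ q ^ 3) ^ 2 ^ q ^ 3 := by
    intro x hxK B₁ hB₁ hx
    refine (relIndex_centralizer_le_of_fixed Bs hBs hBA hmeet hAK hcop hm hB₁ hxK hx).trans ?_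
    rw [hA]
    exact Nat.pow_le_pow_right (Nat.one_le_pow _ _ hm1) hcard
  -- move into `K`
  let S : Set K := {x | ∃ B ∈ Bs, (x : G) ∈ centralizer (B : Set G)}
  let T : Set K := {t | ∃ a ∈ A, a ≠ 1 ∧ (t : G) ∈ ⁅K ⊓ centralizer {a}, K ⊓ centralizer {a}⁆}
  have hS : closure S = ⊤ := by
    refine map_injective K.subtype_injective ?_
    refine le_antisymm (map_subtype_le _ |>.trans (le_of_eq ?_)) ?_
    · rw [← MonoidHom.range_eq_map, K.range_subtype]
    rw [← MonoidHom.range_eq_map, K.range_subtype]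
    refine le_of_forall_cyclic_quotient hAK hcop fun B hB hc => ?_
    intro x hx
    exact ⟨⟨x, hx.1⟩, subset_closure ⟨B, hBs B hB hc, hx.2⟩, rfl⟩
  have hT : ∀ x ∈ S, ∀ y ∈ S, ⁅x, y⁆ ∈ T := by
    rintro x ⟨B, hB, hx⟩ y ⟨B', hB', hy⟩
    obtain ⟨a, ha, ha1, haB, haB'⟩ := hmeet B hB B' hB'
    refine ⟨a, ha, ha1, ?_⟩
    exact commutator_mem_commutator (H₁ := K ⊓ centralizer {a}) (H₂ := K ⊓ centralizer {a})
      ⟨x.2, centralizer_le (Set.singleton_subset_iff.2 haB) hx⟩
      ⟨y.2, centralizer_le (Set.singleton_subset_iff.2 haB') hy⟩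
  have hTL : T.ncard ≤ q ^ 3 * m := by
    have hsub : (Subtype.val '' T : Set G) ⊆ ⋃ a ∈ (Finset.univ.filter fun a : A => a ≠ 1),
        ((⁅K ⊓ centralizer {(a : G)}, K ⊓ centralizer {(a : G)}⁆ : Subgroup G) : Set G) := by
      rintro _ ⟨t, ⟨a, ha, ha1, ht⟩, rfl⟩
      refine Set.mem_biUnion (x := (⟨a, ha⟩ : A)) ?_ ht
      exact Finset.mem_filter.2 ⟨Finset.mem_univ _, fun h => ha1 (congrArg Subtype.val h)⟩
    rw [← Set.ncard_image_of_injective T Subtype.val_injective]
    refine (Set.ncard_le_ncard hsub (Set.toFinite _)).trans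
      ((Finset.set_ncard_biUnion_le _ _).trans ((Finset.sum_le_card_nsmul _ _ m ?_).trans ?_))
    · intro a ha
      rw [← Nat.card_coe_set_eq]
      exact hm a a.2 fun h => (Finset.mem_filter.1 ha).2 (Subtype.ext h)
    · rw [smul_eq_mul, ← hA, Nat.card_eq_fintype_card]
      exact Nat.mul_le_mul_right _ (Finset.card_filter_le _ _)
  have hTm : ∀ t ∈ T, orderOf t ≤ m := by
    rintro t ⟨a, ha, ha1, ht⟩
    rw [← Subgroup.orderOf_coe]
    exact (Nat.le_of_dvd Nat.card_pos (Subgroup.orderOf_dvd_natCard _ ht)).trans (hm a ha ha1)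
  have hSM : ∀ x ∈ S, (centralizer ({x} : Set K)).index ≤ (m ^ q ^ 3) ^ 2 ^ q ^ 3 := by
    rintro x ⟨B, hB, hx⟩
    refine le_trans (le_of_eq ?_) (hM x x.2 B hB hx)
    rw [relIndex]
    congr 1
    ext y
    simp only [mem_subgroupOf, mem_centralizer_singleton_iff, Subtype.ext_iff, Subgroup.coe_mul]
  have h := card_commutator_le_of_generators hS hm1
    (Nat.one_le_pow _ _ (Nat.one_le_pow _ _ hm1)) hT hSM hTL hTm
  rwa [← card_subtype K (commutator K), K.map_subtype_commutator] at h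

end Cfsg.Agent.Coprime
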