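import Mathlib.GroupTheory.GroupAction.CardCommute
import Mathlib.GroupTheory.PGroup
import Mathlib.GroupTheory.Commutator.Basic
import Cfsg.Agent.Lib.Coprime.Basic
import Cfsg.Agent.Lib.Coprime.Sylow
import Cfsg.Agent.Lib.PGroup.Class2

/-!
# Orders of groups acting without fixed points

* `card_dvd_card_of_free`: the order of a semiregular group divides the number of points;
* `card_dvd_of_fpf_diff`: if `A` normalizes `B ≤ T` and `T ∩ C(a) ≤ B` for `a ≠ 1` then
  `|A| ∣ |T| - |B|`;
* `card_dvd_sub_one_or_add_one`: an abelian group of odd order prime to `p`, centralizing the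
  centre of a nonabelian group of order `p³` and exponent `p` and acting without fixed points
  modulo it, has order dividing `p - 1` or `p + 1`.
-/

set_option autoImplicit false

namespace Cfsg.Agent.Coprime

open Subgroup (centralizer normalizer zpowers)
open scoped Pointwise commutatorElement

universe u
variable {G : Type u} [Group G] [Finite G]

theorem card_dvd_card_of_free {A S : Type*} [Group A] [Finite A] [Finite S] [MulAction A S]
    (h : ∀ (a : A) (s : S), a • s = s → a = 1) : Nat.card A ∣ Nat.card S := by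
  have hfree : ∀ s : S, MulAction.stabilizer A s = ⊥ := fun s => by
    rw [Subgroup.eq_bot_iff_forall]
    exact fun a ha => h a s ha
  rw [Nat.card_congr (MulAction.selfEquivOrbitsQuotientProd hfree), Nat.card_prod]
  exact dvd_mul_left _ _

theorem card_dvd_of_fpf_diff {A T B : Subgroup G} (hT : A ≤ normalizer (T : Set G))
    (hB : A ≤ normalizer (B : Set G)) (hBT : B ≤ T)
    (h : ∀ a ∈ A, a ≠ 1 → T ⊓ centralizer ({a} : Set G) ≤ B) :
    Nat.card A ∣ Nat.card T - Nat.card B := by
  have hinv : ∀ a ∈ A, ∀ t ∈ (T : Set G) \ B, a * t * a⁻¹ ∈ (T : Set G) \ B := fun a ha t ht =>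
    ⟨(Subgroup.mem_normalizer_iff.1 (hT ha) t).1 ht.1,
      fun hm => ht.2 ((Subgroup.mem_normalizer_iff.1 (hB ha) t).2 hm)⟩
  letI : MulAction A ((T : Set G) \ B : Set G) :=
    { smul := fun a t => ⟨(a : G) * t * (a : G)⁻¹, hinv a a.2 t t.2⟩
      one_smul := fun t => Subtype.ext (show (1 : G) * t * (1 : G)⁻¹ = t by group)
      mul_smul := fun a b t => Subtype.ext
        (show ((a : G) * b) * t * ((a : G) * b)⁻¹ = (a : G) * ((b : G) * t * (b : G)⁻¹) * (a : G)⁻¹ by group) }
  have hd := card_dvd_card_of_free (A := A) (S := ((T : Set G) \ B : Set G)) fun a t hat => by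
    by_contra ha
    refine t.2.2 (h a a.2 (fun e => ha (Subtype.ext e)) ⟨t.2.1, Subgroup.mem_centralizer_singleton_iff.2 ?_⟩)
    have e : (a : G) * t * (a : G)⁻¹ = t := congrArg Subtype.val hat
    exact (mul_inv_eq_iff_eq_mul.1 e).symm
  rwa [Nat.card_coe_set_eq, Set.ncard_sdiff hBT (Set.toFinite _), ← Nat.card_coe_set_eq,
    ← Nat.card_coe_set_eq] at hd

/-- An abelian group of odd order acting on a nonabelian group of order `p³`. -/
theorem card_dvd_sub_one_or_add_one {p : ℕ} [Fact p.Prime] {P Z K : Subgroup G}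
    (hP : Nat.card P = p ^ 3) (hexp : ∀ a ∈ P, a ^ p = 1) (hna : ¬ IsMulCommutative P)
    (hZ : Nat.card Z = p) (hZP : Z ≤ P) (hcent : P ≤ centralizer (Z : Set G))
    (hcom : ∀ a ∈ P, ∀ b ∈ P, ⁅a, b⁆ ∈ Z) (hKZ : K ≤ centralizer (Z : Set G))
    (hKP : K ≤ normalizer (P : Set G)) (hK : IsMulCommutative K) (hodd : Odd (Nat.card K))
    (hcop : (Nat.card K).Coprime p) (hfix : ∀ k ∈ K, k ≠ 1 → P ⊓ centralizer ({k} : Set G) ≤ Z) :
    Nat.card K ∣ p - 1 ∨ Nat.card K ∣ p + 1 := by
  have hpp := (Fact.out : p.Prime)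
  set L : G → Subgroup G := fun a => zpowers a ⊔ Z with hL
  have hzn : ∀ a ∈ P, zpowers a ≤ normalizer (Z : Set G) := fun a ha =>
    (Subgroup.zpowers_le.2 (hcent ha)).trans (Subgroup.centralizer_le_normalizer _)
  have hKn : K ≤ normalizer (Z : Set G) := hKZ.trans (Subgroup.centralizer_le_normalizer _)
  have hLP : ∀ a ∈ P, L a ≤ P := fun a ha => sup_le (Subgroup.zpowers_le.2 ha) hZP
  have hcard : ∀ a ∈ P, a ∉ Z → Nat.card (L a) = p ^ 2 := fun a ha haZ => by
    have ha1 : a ≠ 1 := fun e => haZ (e ▸ one_mem Z)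
    have ho : Nat.card (zpowers a) = p := by rw [Nat.card_zpowers, orderOf_eq_prime (hexp a ha) ha1]
    have hd : zpowers a ⊓ Z = ⊥ := by
      rcases (Nat.dvd_prime hpp).1 (ho ▸ Subgroup.card_dvd_of_le (inf_le_left : zpowers a ⊓ Z ≤ zpowers a))
        with e | e
      · exact Subgroup.card_eq_one.1 e
      · refine absurd ((inf_le_right : zpowers a ⊓ Z ≤ Z) ?_) haZ
        rw [Subgroup.eq_of_le_of_card_ge inf_le_left (ho.trans e.symm).le]
        exact Subgroup.mem_zpowers a
    rw [hL, card_sup_of_le_normalizer (hzn a ha) hd, ho, hZ, sq]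
  have hmemL : ∀ a, a ∈ L a := fun a => Subgroup.mem_sup_left (Subgroup.mem_zpowers a)
  have hLeq : ∀ a ∈ P, a ∉ Z → ∀ b ∈ L a, b ∉ Z → L b = L a := fun a ha haZ b hb hbZ =>
    Subgroup.eq_of_le_of_card_ge (sup_le (Subgroup.zpowers_le.2 hb) le_sup_right)
      (by rw [hcard b (hLP a ha hb) hbZ, hcard a ha haZ])
  have hconj : ∀ k ∈ K, ∀ a, MulAut.conj k • L a = L (k * a * k⁻¹) := fun k hk a => by
    rw [hL, Subgroup.smul_sup, conj_smul_eq_self_of_mem (hKn hk)]
    exact congrArg (· ⊔ Z) (MonoidHom.map_zpowers _ a)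
  have hout : ∀ k ∈ K, ∀ a ∈ P, a ∉ Z → k * a * k⁻¹ ∈ P ∧ k * a * k⁻¹ ∉ Z := fun k hk a ha haZ =>
    ⟨(Subgroup.mem_normalizer_iff.1 (hKP hk) a).1 ha,
      fun hm => haZ ((Subgroup.mem_normalizer_iff.1 (hKn hk) a).2 hm)⟩
  by_cases hA : ∃ k ∈ K, k ≠ 1 ∧ ∃ a ∈ P, a ∉ Z ∧ MulAut.conj k • L a = L a
  · left
    obtain ⟨k, hk, hk1, a, ha, haZ, hfixL⟩ := hA
    have hall : ∀ m ∈ K, MulAut.conj m • L a = L a := by
      intro m hm
      rw [hconj m hm]
      obtain ⟨ha', ha'Z⟩ := hout m hm a ha haZ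
      set a' := m * a * m⁻¹ with ha'def
      by_contra hne
      have hnot : a' ∉ L a := fun hb => hne (hLeq a ha haZ a' hb ha'Z)
      -- `a` and `a'` do not commute
      have hc1 : ⁅a, a'⁆ ≠ 1 := by
        intro hc
        refine hna ?_
        have hcomm : Commute a a' := commutatorElement_eq_one_iff_mul_comm.1 hc
        have hle : L a ⊔ zpowers a' ≤ centralizer ((L a ⊔ zpowers a' : Subgroup G) : Set G) := by
          have h0 : (L a ⊔ zpowers a' : Subgroup G) = Subgroup.closure ({a, a'} ∪ (Z : Set G)) := by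
            rw [hL, Subgroup.closure_union, Subgroup.closure_eq, Set.insert_eq, Subgroup.closure_union,
              ← Subgroup.zpowers_eq_closure, ← Subgroup.zpowers_eq_closure]
            exact sup_right_comm _ _ _
          rw [h0, Subgroup.centralizer_closure, Subgroup.closure_le]
          have hzc : ∀ z ∈ Z, ∀ b ∈ P, Commute z b := fun z hz b hb =>
            Subgroup.mem_centralizer_iff.1 (hcent hb) z hz
          rintro u hu
          refine Subgroup.mem_centralizer_iff.2 fun v hv => ?_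
          rcases hu with (rfl | rfl) | hu <;> rcases hv with (rfl | rfl) | hv
          · rfl
          · exact hcomm.eq.symm
          · exact (hzc v hv u ha).eq
          · exact hcomm.eq
          · rfl
          · exact (hzc v hv a' ha').eq
          · exact (hzc u hu v ha).eq.symm
          · exact (hzc u hu a' ha').eq.symm
          · exact (hzc v hv u (hZP hu)).eq
        have heq : L a ⊔ zpowers a' = P := by
          refine Subgroup.eq_of_le_of_card_ge (sup_le (hLP a ha) (Subgroup.zpowers_le.2 ha')) ?_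
          obtain ⟨j, -, hj⟩ := (Nat.dvd_prime_pow hpp).1
            (hP ▸ Subgroup.card_dvd_of_le (sup_le (hLP a ha) (Subgroup.zpowers_le.2 ha')))
          rw [hj, hP]
          refine Nat.pow_le_pow_right hpp.pos (Nat.succ_le_of_lt ((Nat.pow_lt_pow_iff_right hpp.one_lt).1 ?_))
          rw [← hj, ← hcard a ha haZ]
          exact lt_of_le_of_ne (Nat.le_of_dvd Nat.card_pos (Subgroup.card_dvd_of_le le_sup_left)) fun e =>
            hnot ((Subgroup.eq_of_le_of_card_ge le_sup_left e.ge).ge
              (Subgroup.mem_sup_right (Subgroup.mem_zpowers a')))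
        rw [heq] at hle
        exact ⟨⟨fun u v => Subtype.ext (Subgroup.mem_centralizer_iff.1 (hle v.2) u u.2)⟩⟩
      -- `k` is a scalar `i`
      have hb : k * a * k⁻¹ ∈ L a := by
        rw [← hfixL]
        exact Subgroup.smul_mem_pointwise_smul _ (MulAut.conj k) _ (hmemL a)
      obtain ⟨_, ⟨i, rfl⟩, z, hz, hi⟩ := (mem_sup_iff_of_le_normalizer (hzn a ha)).1 hb
      beta_reduce at hi
      have hzc : ∀ b ∈ P, Commute z b := fun b hb => Subgroup.mem_centralizer_iff.1 (hcent hb) z hz
      have hkm : Commute k m := congrArg Subtype.val (hK.is_comm.comm ⟨k, hk⟩ ⟨m, hm⟩)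
      have hi' : k * a' * k⁻¹ = a' ^ i * z := by
        calc k * a' * k⁻¹ = k * m * a * (k * m)⁻¹ := by rw [ha'def]; group
          _ = m * k * a * (m * k)⁻¹ := by rw [hkm.eq]
          _ = m * (k * a * k⁻¹) * m⁻¹ := by group
          _ = m * (a ^ i * z) * m⁻¹ := by rw [hi]
          _ = a' ^ i * (m * z * m⁻¹) := by rw [ha'def, conj_zpow]; group
          _ = a' ^ i * z := by
            rw [show m * z * m⁻¹ = z from
              mul_inv_eq_iff_eq_mul.2 (Subgroup.mem_centralizer_iff.1 (hKZ hm) z hz).symm]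
      set c := ⁅a, a'⁆ with hc
      have hcZ : c ∈ Z := hcom a ha a' ha'
      have hcc : ∀ b ∈ P, Commute c b := fun b hb => Subgroup.mem_centralizer_iff.1 (hcent hb) c hcZ
      have h1 : ⁅a ^ i, a' ^ i⁆ = c := by
        have e : k * c * k⁻¹ = c :=
          mul_inv_eq_iff_eq_mul.2 (Subgroup.mem_centralizer_iff.1 (hKZ hk) c hcZ).symm
        have hzi := hzc _ (P.zpow_mem ha i)
        have hzi' := hzc _ (P.zpow_mem ha' i)
        calc ⁅a ^ i, a' ^ i⁆ = ⁅a ^ i * z, a' ^ i * z⁆ := by
              symm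
              generalize a ^ i = x at hzi ⊢
              generalize a' ^ i = y at hzi' ⊢
              calc ⁅x * z, y * z⁆ = x * (z * y * x⁻¹) * z⁻¹ * y⁻¹ := by rw [commutatorElement_def]; group
                _ = x * y * (z * x⁻¹) * z⁻¹ * y⁻¹ := by rw [hzi'.eq]; group
                _ = ⁅x, y⁆ := by rw [(hzi.inv_right).eq, commutatorElement_def]; group
          _ = ⁅k * a * k⁻¹, k * a' * k⁻¹⁆ := by rw [← hi, hi']
          _ = k * c * k⁻¹ := by rw [hc, commutatorElement_def, commutatorElement_def]; group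
          _ = c := e
      have h2 : ⁅a ^ i, a' ^ i⁆ = c ^ (i * i) := by
        set A : P := ⟨a, ha⟩
        set A' : P := ⟨a', ha'⟩
        have hcentr : ⁅A, A'⁆ ∈ Subgroup.center P := Subgroup.mem_center_iff.2 fun b =>
          Subtype.ext (hcc b b.2).symm.eq
        have e1 : ⁅A ^ i, A'⁆ = ⁅A, A'⁆ ^ i := PGroup.commutator_zpow_left hcentr i
        have e2 : ⁅A' ^ i, A ^ i⁆ = ⁅A', A ^ i⁆ ^ i :=
          PGroup.commutator_zpow_left (by
            rw [← commutatorElement_inv, e1]
            exact Subgroup.inv_mem _ (Subgroup.zpow_mem _ hcentr i)) i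
        have e3 : ⁅A ^ i, A' ^ i⁆ = ⁅A, A'⁆ ^ (i * i) := by
          rw [← commutatorElement_inv, e2, ← commutatorElement_inv, e1, inv_zpow, inv_inv, ← zpow_mul]
        exact congrArg Subtype.val e3
      have hco : orderOf c = p := orderOf_eq_prime (hexp c (hZP hcZ)) hc1
      have hdvd : (p : ℤ) ∣ i * i - 1 := by
        rw [← hco, orderOf_dvd_iff_zpow_eq_one, zpow_sub, zpow_one, ← h2, h1]
        exact mul_inv_cancel c
      -- so `k²` fixes `a` modulo `Z`
      have hk2 : k * k * a * (k * k)⁻¹ * a⁻¹ ∈ Z := by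
        have e : k * k * a * (k * k)⁻¹ = (a ^ i * z) ^ i * z := by
          calc k * k * a * (k * k)⁻¹ = k * (k * a * k⁻¹) * k⁻¹ := by group
            _ = k * (a ^ i * z) * k⁻¹ := by rw [hi]
            _ = (k * a * k⁻¹) ^ i * (k * z * k⁻¹) := by rw [conj_zpow]; group
            _ = _ := by
              rw [← hi, show k * z * k⁻¹ = z from
                mul_inv_eq_iff_eq_mul.2 (Subgroup.mem_centralizer_iff.1 (hKZ hk) z hz).symm]
        rw [e, (hzc _ (P.zpow_mem ha i)).symm.mul_zpow, ← zpow_mul]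
        have e2 : a ^ (i * i) = a := by
          obtain ⟨j, hj⟩ := hdvd
          have h3 : a ^ (i * i - 1) = 1 := by
            rw [hj, zpow_mul, zpow_natCast, hexp a ha, one_zpow]
          rw [zpow_sub, zpow_one, mul_inv_eq_one] at h3
          exact h3
        rw [e2]
        have hw : z ^ i * z ∈ Z := Z.mul_mem (Z.zpow_mem hz i) hz
        have hcw : Commute (z ^ i * z) a⁻¹ :=
          (Subgroup.mem_centralizer_iff.1 (hcent (P.inv_mem ha)) _ hw : _)
        rwa [show a * z ^ i * z * a⁻¹ = z ^ i * z by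
          rw [mul_assoc a, mul_assoc a, hcw.eq, ← mul_assoc, mul_inv_cancel, one_mul]]
      set k' := k * k with hk'
      have hk'K : k' ∈ K := K.mul_mem hk hk
      set w := k' * a * k'⁻¹ * a⁻¹ with hw
      have hwk : ∀ n : ℕ, k' ^ n * a * (k' ^ n)⁻¹ = w ^ n * a := by
        intro n
        induction n with
        | zero => simp
        | succ n ih =>
          calc k' ^ (n + 1) * a * (k' ^ (n + 1))⁻¹ = k' * (k' ^ n * a * (k' ^ n)⁻¹) * k'⁻¹ := by
                rw [pow_succ']; group
            _ = k' * w ^ n * k'⁻¹ * (k' * a * k'⁻¹) := by rw [ih]; group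
            _ = w ^ n * (w * a) := by
              rw [show k' * w ^ n * k'⁻¹ = w ^ n from
                mul_inv_eq_iff_eq_mul.2 (Subgroup.mem_centralizer_iff.1 (hKZ hk'K) _ (Z.pow_mem hk2 n)).symm,
                show k' * a * k'⁻¹ = w * a by rw [hw, inv_mul_cancel_right]]
            _ = w ^ (n + 1) * a := by rw [pow_succ]; exact (mul_assoc _ _ _).symm
      have hw1 : w = 1 := by
        refine orderOf_eq_one_iff.1 (Nat.eq_one_of_dvd_coprimes hcop ?_
          (orderOf_dvd_of_pow_eq_one (hexp w (hZP hk2))))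
        refine (orderOf_dvd_of_pow_eq_one ?_).trans (Subgroup.orderOf_dvd_natCard K hk'K)
        have := hwk (orderOf k')
        rw [pow_orderOf_eq_one, inv_one, mul_one, one_mul, right_eq_mul] at this
        exact this
      rw [hw, mul_inv_eq_one, mul_inv_eq_iff_eq_mul] at hw1
      have hk'1 : k' = 1 := by_contra fun hne' =>
        haZ (hfix k' hk'K hne' ⟨ha, Subgroup.mem_centralizer_singleton_iff.2 hw1.symm⟩)
      refine hk1 (orderOf_eq_one_iff.1 ?_)
      have h2' : orderOf k ∣ 2 := orderOf_dvd_of_pow_eq_one (by rw [pow_two]; exact hk'1)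
      rcases (Nat.dvd_prime Nat.prime_two).1 h2' with e | e
      · exact e
      · exact absurd (e ▸ Subgroup.orderOf_dvd_natCard K hk : 2 ∣ Nat.card K) hodd.not_two_dvd_nat
    have hKL : K ≤ normalizer (L a : Set G) := fun m hm => Coprime.mem_normalizer_of_conj_smul_eq (hall m hm)
    have hd := card_dvd_of_fpf_diff hKL hKn le_sup_right
      fun m hm hm1 => (inf_le_inf_right _ (hLP a ha)).trans (hfix m hm hm1)
    rw [hcard a ha haZ, hZ, show p ^ 2 - p = (p - 1) * p by rw [Nat.sub_one_mul, sq]] at hd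
    exact hcop.dvd_of_dvd_mul_right hd
  · right
    push Not at hA
    let S := {V : Subgroup G // ∃ a ∈ P, a ∉ Z ∧ V = L a}
    letI : MulAction K S :=
      { smul := fun k V => ⟨MulAut.conj (k : G) • V.1, by
          obtain ⟨a, ha, haZ, e⟩ := V.2
          exact ⟨_, (hout k k.2 a ha haZ).1, (hout k k.2 a ha haZ).2, by rw [e, hconj k k.2]⟩⟩
        one_smul := fun V => Subtype.ext
          (show MulAut.conj ((1 : K) : G) • V.1 = V.1 by rw [Subgroup.coe_one, map_one, one_smul])
        mul_smul := fun k m V => Subtype.ext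
          (show MulAut.conj ((k * m : K) : G) • V.1 = MulAut.conj (k : G) • MulAut.conj (m : G) • V.1 by
            rw [Subgroup.coe_mul, map_mul, mul_smul]) }
    have hfree : Nat.card K ∣ Nat.card S := card_dvd_card_of_free fun k V hkV => by
      by_contra hk1
      obtain ⟨a, ha, haZ, e⟩ := V.2
      exact hA k k.2 (fun e' => hk1 (Subtype.ext e')) a ha haZ
        (by rw [← e]; exact congrArg Subtype.val hkV)
    let f : ((P : Set G) \ Z : Set G) → S := fun b => ⟨L b, b, b.2.1, b.2.2, rfl⟩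
    have hfib : ∀ V : S, Nat.card {b // f b = V} = p ^ 2 - p := by
      rintro ⟨V, a, ha, haZ, rfl⟩
      have e : {b // f b = ⟨L a, a, ha, haZ, rfl⟩} ≃ ((L a : Set G) \ Z : Set G) :=
        { toFun := fun b => ⟨b.1.1, (congrArg Subtype.val b.2 : L b.1.1 = L a).le (hmemL _), b.1.2.2⟩
          invFun := fun b => ⟨⟨b.1, hLP a ha b.2.1, b.2.2⟩, Subtype.ext (hLeq a ha haZ b.1 b.2.1 b.2.2)⟩
          left_inv := fun _ => rfl
          right_inv := fun _ => rfl }
      rw [Nat.card_congr e, Nat.card_coe_set_eq, Set.ncard_sdiff (fun x hx => Subgroup.mem_sup_right hx)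
        (Set.toFinite _), ← Nat.card_coe_set_eq, ← Nat.card_coe_set_eq]
      exact congrArg₂ _ (hcard a ha haZ) hZ
    have hcount : Nat.card S * (p ^ 2 - p) = p ^ 3 - p := by
      letI := Fintype.ofFinite S
      have h' := Nat.card_congr (Equiv.sigmaFiberEquiv f)
      rw [Nat.card_sigma, Finset.sum_congr rfl fun V _ => hfib V, Finset.sum_const, Finset.card_univ,
        ← Nat.card_eq_fintype_card, smul_eq_mul, Nat.card_coe_set_eq,
        Set.ncard_sdiff hZP (Set.toFinite _), ← Nat.card_coe_set_eq, ← Nat.card_coe_set_eq] at h'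
      exact h'.trans (congrArg₂ _ hP hZ)
    have hS : Nat.card S = p + 1 := by
      refine Nat.eq_of_mul_eq_mul_right (Nat.sub_pos_of_lt ?_) (hcount.trans ?_)
      · nlinarith [hpp.one_lt]
      · rw [Nat.mul_sub, show (p + 1) * p ^ 2 = p ^ 3 + p ^ 2 by ring, show (p + 1) * p = p + p ^ 2 by ring,
          Nat.add_sub_add_right]
    exact hS ▸ hfree

end Cfsg.Agent.Coprime
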