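import Cfsg.Agent.Lib.Coprime.Factorization
import Cfsg.Agent.Lib.PGroup.Frattini

/-!
# Coprime action: bounding an index by the indices on fixed points

* `relIndex_sup_iSup_dvd_prod`: `[M ⊔ ⨆ᵢ Hᵢ : M] ∣ ∏ [Hᵢ : Hᵢ ⊓ M]` inside a group with abelian
  quotient by `M`;
* `relIndex_dvd_prod_fixed`: for `D ≤ K` invariant under the coprime abelian operator group `A`,
  `[K : D] ∣ ∏ [C_K(B) : C_D(B)]` over `B ≤ A` with `A / B` cyclic.
-/

set_option autoImplicit false

open scoped Pointwise commutatorElement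

namespace Cfsg.Agent.Coprime

open Subgroup

variable {G : Type*} [Group G]

theorem le_normalizer_of_commutator_le_of_le {P M X : Subgroup G} (hPP : ⁅P, P⁆ ≤ M) (hMX : M ≤ X)
    (hXP : X ≤ P) : P ≤ normalizer (X : Set G) := by
  have key : ∀ g ∈ P, ∀ x ∈ X, g * x * g⁻¹ ∈ X := fun g hg x hx => by
    have h := X.mul_mem (hMX (hPP (commutator_mem_commutator hg (hXP hx)))) hx
    rwa [commutatorElement_def, inv_mul_cancel_right] at h
  intro g hg
  rw [mem_normalizer_iff]
  refine fun x => ⟨key g hg x, fun h => ?_⟩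
  have := key g⁻¹ (P.inv_mem hg) _ h
  simpa [mul_assoc] using this

theorem relIndex_sup_iSup_dvd_prod {ι : Type*} (s : Finset ι) (H : ι → Subgroup G)
    {P M : Subgroup G} (hMP : M ≤ P) (hPP : ⁅P, P⁆ ≤ M) (hH : ∀ i ∈ s, H i ≤ P) :
    M.relIndex (M ⊔ ⨆ i ∈ s, H i) ∣ ∏ i ∈ s, M.relIndex (H i) := by
  classical
  induction s using Finset.induction_on with
  | empty => simp
  | insert a t ha ih =>
    have ht : ∀ i ∈ t, H i ≤ P := fun i hi => hH i (Finset.mem_insert_of_mem hi)
    rw [Finset.prod_insert ha, Finset.iSup_insert, sup_left_comm, sup_comm (H a)]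
    set X := M ⊔ ⨆ i ∈ t, H i with hX
    have hXP : X ≤ P := sup_le hMP (iSup₂_le ht)
    have haX : H a ≤ normalizer (X : Set G) :=
      (hH a (Finset.mem_insert_self a t)).trans
        (le_normalizer_of_commutator_le_of_le hPP le_sup_left hXP)
    have h1 : X.relIndex (X ⊔ H a) = X.relIndex (H a) := by
      rw [sup_comm]
      exact relIndex_sup_right_of_le_normalizer haX
    rw [← relIndex_mul_relIndex M X (X ⊔ H a) le_sup_left le_sup_left, h1, mul_comm (M.relIndex (H a))]
    exact Nat.mul_dvd_mul (ih ht) (relIndex_dvd_of_le_left _ le_sup_left)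

variable [Finite G]

omit [Finite G] in
theorem card_mul_relIndex {H K : Subgroup G} (h : H ≤ K) :
    Nat.card H * H.relIndex K = Nat.card K := by
  rw [← relIndex_bot_left H, relIndex_mul_relIndex _ _ _ bot_le h, relIndex_bot_left]

/-- The `p`-group case of `relIndex_dvd_prod_fixed`. -/
theorem relIndex_dvd_prod_fixed_pgroup {A : Subgroup G} [IsMulCommutative A]
    (Bs : Finset (Subgroup G))
    (hBs : ∀ B ≤ A, (∃ a ∈ A, B ⊔ zpowers a = A) → B ∈ Bs) {r : ℕ} [Fact r.Prime]
    {Q P : Subgroup G} (hP : IsPGroup r P) (hQP : Q ≤ P) (hAQ : A ≤ normalizer (Q : Set G))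
    (hAP : A ≤ normalizer (P : Set G)) (hcop : (Nat.card A).Coprime (Nat.card P)) :
    Q.relIndex P ∣ ∏ B ∈ Bs,
      (Q ⊓ centralizer (B : Set G)).relIndex (P ⊓ centralizer (B : Set G)) := by
  suffices H : ∀ n, ∀ P : Subgroup G, Nat.card P = n → IsPGroup r P → Q ≤ P →
      A ≤ normalizer (P : Set G) → (Nat.card A).Coprime (Nat.card P) →
      Q.relIndex P ∣ ∏ B ∈ Bs,
        (Q ⊓ centralizer (B : Set G)).relIndex (P ⊓ centralizer (B : Set G)) from
    H _ P rfl hP hQP hAP hcop
  intro n
  induction n using Nat.strong_induction_on with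
  | _ n ih =>
    intro P hn hP hQP hAP hcop
    rcases eq_or_lt_of_le hQP with rfl | hlt
    · simp
    let M : Subgroup G := Q ⊔ ⁅P, P⁆
    have hPP : ⁅P, P⁆ ≤ P := commutator_le_self P
    have hMP : M ≤ P := sup_le hQP hPP
    have hQM : Q ≤ M := le_sup_left
    have hMA : A ≤ normalizer (M : Set G) := by
      intro a ha
      refine mem_normalizer_of_conj_smul_eq ?_
      have h1 : Subgroup.map (MulAut.conj a).toMonoidHom Q = Q :=
        conj_smul_eq_self_of_mem (hAQ ha)
      have h2 : Subgroup.map (MulAut.conj a).toMonoidHom P = P :=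
        conj_smul_eq_self_of_mem (hAP ha)
      show Subgroup.map (MulAut.conj a).toMonoidHom _ = _
      rw [Subgroup.map_sup, Subgroup.map_commutator, h1, h2]
    have hMlt : M < P := by
      refine lt_of_le_of_ne hMP fun hM => hlt.ne ?_
      have h1 : Q.subgroupOf P ⊔ frattini P = ⊤ := by
        refine top_le_iff.1 (le_trans ?_
          (sup_le_sup_left (PGroup.commutator_le_frattini hP) (Q.subgroupOf P)))
        intro x _
        have hx : (x : G) ∈ M := hM.ge x.2
        have heq : (Q.subgroupOf P ⊔ commutator P).map P.subtype = M := by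
          rw [Subgroup.map_sup, map_subgroupOf_eq_of_le hQP, P.map_subtype_commutator]
        rw [← heq] at hx
        obtain ⟨y, hy, hyx⟩ := hx
        rwa [Subtype.ext hyx] at hy
      exact le_antisymm hQP (subgroupOf_eq_top.1 (frattini_nongenerating h1))
    -- generation of `P` modulo `M` by the fixed points
    have hgenP : P ≤ M ⊔ ⨆ B ∈ Bs, P ⊓ centralizer (B : Set G) :=
      le_of_forall_cyclic_quotient hAP hcop fun B hB hc =>
        le_sup_of_le_right (le_iSup₂ (f := fun B (_ : B ∈ Bs) => P ⊓ centralizer (B : Set G))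
          B (hBs B hB hc))
    have htop : M.relIndex P ∣
        ∏ B ∈ Bs, (M ⊓ centralizer (B : Set G)).relIndex (P ⊓ centralizer (B : Set G)) := by
      have h := relIndex_sup_iSup_dvd_prod Bs (fun B => P ⊓ centralizer (B : Set G)) hMP
        (le_sup_right : ⁅P, P⁆ ≤ M) fun B _ => inf_le_left
      rw [le_antisymm (sup_le hMP (iSup₂_le fun B _ => inf_le_left)) hgenP] at h
      refine h.trans (dvd_of_eq (Finset.prod_congr rfl fun B _ => ?_))
      rw [← inf_relIndex_right, ← inf_assoc, inf_eq_left.2 hMP]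
    have hlow := ih _ (hn ▸ lt_of_le_of_ne (card_le_of_le hMP)
      fun h => hMlt.ne (eq_of_le_of_card_ge hMP h.ge)) M rfl (hP.to_le hMP) hQM hMA
      (hcop.coprime_dvd_right (card_dvd_of_le hMP))
    rw [← relIndex_mul_relIndex _ _ _ hQM hMP]
    refine (Nat.mul_dvd_mul hlow htop).trans (dvd_of_eq ?_)
    rw [← Finset.prod_mul_distrib]
    exact Finset.prod_congr rfl fun B _ =>
      relIndex_mul_relIndex _ _ _ (inf_le_inf_right _ hQM) (inf_le_inf_right _ hMP)

/-- **Index bound.** If the abelian group `A` acts coprimely on `K` and `D ≤ K` is invariant,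
then `[K : D]` divides the product of the `[C_K(B) : C_D(B)]`, `B ≤ A` with `A / B` cyclic. -/
theorem relIndex_dvd_prod_fixed {A K D : Subgroup G} [IsMulCommutative A]
    (Bs : Finset (Subgroup G))
    (hBs : ∀ B ≤ A, (∃ a ∈ A, B ⊔ zpowers a = A) → B ∈ Bs) (hBA : ∀ B ∈ Bs, B ≤ A)
    (hDK : D ≤ K) (hAD : A ≤ normalizer (D : Set G)) (hAK : A ≤ normalizer (K : Set G))
    (hcop : (Nat.card A).Coprime (Nat.card K)) :
    D.relIndex K ∣ ∏ B ∈ Bs,
      (D ⊓ centralizer (B : Set G)).relIndex (K ⊓ centralizer (B : Set G)) := by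
  classical
  have hsA : Group.IsSolvable A := Group.isSolvable_of_comm fun x y => mul_comm' x y
  have key : Nat.card K * ∏ B ∈ Bs, Nat.card (D ⊓ centralizer (B : Set G) : Subgroup G) ∣
      Nat.card D * ∏ B ∈ Bs, Nat.card (K ⊓ centralizer (B : Set G) : Subgroup G) := by
    refine (Nat.dvd_iff_prime_pow_dvd_dvd _ _).2 fun r m hr hm => ?_
    have := Fact.mk hr
    have hcopD : (Nat.card A).Coprime (Nat.card D) := hcop.coprime_dvd_right (card_dvd_of_le hDK)
    obtain ⟨SD, hSD⟩ := exists_invariant_sylow hAD hcopD (Or.inl hsA) r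
    set Q : Subgroup G := (SD : Subgroup D).map D.subtype with hQ
    obtain ⟨SK, hQK, hSK⟩ := exists_invariant_sylow_ge hAK hcop (Or.inl hsA)
      ((map_subtype_le _).trans hDK) (SD.2.map _) hSD
    set P : Subgroup G := (SK : Subgroup K).map K.subtype with hP
    have hPK : P ≤ K := map_subtype_le _
    have hmain := relIndex_dvd_prod_fixed_pgroup Bs hBs (SK.2.map K.subtype) hQK hSD hSK
      (hcop.coprime_dvd_right (card_dvd_of_le hPK))
    have hPC : Nat.card P * ∏ B ∈ Bs, Nat.card (Q ⊓ centralizer (B : Set G) : Subgroup G) ∣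
        Nat.card Q * ∏ B ∈ Bs, Nat.card (P ⊓ centralizer (B : Set G) : Subgroup G) := by
      rw [← card_mul_relIndex hQK, mul_assoc]
      refine Nat.mul_dvd_mul_left _ ((Nat.mul_dvd_mul_right hmain _).trans (dvd_of_eq ?_))
      rw [← Finset.prod_mul_distrib]
      exact Finset.prod_congr rfl fun B _ => by
        rw [mul_comm]; exact card_mul_relIndex (inf_le_inf_right _ hQK)
    -- the `r`-part of the left hand side
    have hKr : r ^ m ∣ Nat.card P * ∏ B ∈ Bs, Nat.card (Q ⊓ centralizer (B : Set G) : Subgroup G) := by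
      have hne : ∀ H : Subgroup G, Nat.card H ≠ 0 := fun H => Nat.card_pos.ne'
      have hle : ∀ B ∈ Bs, (Nat.card (D ⊓ centralizer (B : Set G) : Subgroup G)).factorization r ≤
          (Nat.card (Q ⊓ centralizer (B : Set G) : Subgroup G)).factorization r := by
        intro B hB
        have h1 := pow_dvd_card_inf_centralizer (hBA B hB |>.trans hAD)
          (hcopD.coprime_dvd_left (card_dvd_of_le (hBA B hB)))
          (Or.inl (isSolvable_of_le (hBA B hB) hsA)) SD ((hBA B hB).trans hSD)
          (Nat.ordProj_dvd (Nat.card (D ⊓ centralizer (B : Set G) : Subgroup G)) r)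
        obtain ⟨k, hk⟩ := IsPGroup.iff_card.1
          ((SD.2.map D.subtype).to_le (inf_le_left : Q ⊓ centralizer (B : Set G) ≤ Q))
        rw [hk, Nat.Prime.factorization_pow hr, Finsupp.single_eq_same]
        rw [← hQ, hk] at h1
        exact (Nat.pow_le_pow_iff_right hr.one_lt).1 h1
      rw [Nat.Prime.pow_dvd_iff_le_factorization hr
        (Nat.mul_ne_zero (hne _) (Finset.prod_ne_zero_iff.2 fun B _ => hne _)),
        Nat.factorization_mul (hne _) (Finset.prod_ne_zero_iff.2 fun B _ => hne _),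
        Nat.factorization_prod fun B _ => hne _, Finsupp.add_apply, Finsupp.finsetSum_apply] at hm ⊢
      have hPc : (Nat.card P).factorization r = (Nat.card K).factorization r := by
        rw [hP, card_subtype, SK.card_eq_multiplicity, Nat.Prime.factorization_pow hr,
          Finsupp.single_eq_same]
      rw [hPc]
      exact hm.trans (Nat.add_le_add_left (Finset.sum_le_sum hle) _)
    refine (hKr.trans hPC).trans (Nat.mul_dvd_mul (card_dvd_of_le (map_subtype_le _)) ?_)
    exact Finset.prod_dvd_prod_of_dvd _ _ fun B _ => card_dvd_of_le (inf_le_inf_right _ hPK)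
  rw [← card_mul_relIndex hDK, mul_assoc, Nat.mul_dvd_mul_iff_left Nat.card_pos] at key
  refine Nat.dvd_of_mul_dvd_mul_right (k := ∏ B ∈ Bs,
    Nat.card (D ⊓ centralizer (B : Set G) : Subgroup G)) (Finset.prod_pos fun B _ => Nat.card_pos)
    (key.trans (dvd_of_eq ?_))
  rw [← Finset.prod_mul_distrib]
  exact Finset.prod_congr rfl fun B _ => by
    rw [mul_comm]; exact (card_mul_relIndex (inf_le_inf_right _ hDK)).symm

end Cfsg.Agent.Coprime
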