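import Mathlib

/-!
# Lifting coprime matrix representations from `ZMod p` to `ZMod (p ^ k)`, and fixed-point traces

A homomorphism of a group of order prime to `p` into `GL n (ZMod p)` lifts to `GL n (ZMod (p ^ k))`
(Schur--Zassenhaus), and the trace of the averaging idempotent of a subgroup is the dimension of its
fixed space, now known modulo `p ^ k`.
-/

set_option autoImplicit false
set_option linter.style.haveILetI false

open Matrix

namespace Cfsg.Agent.Coprime

variable {p k n : ℕ} [Fact p.Prime]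

/-- Reduction modulo `p` of the integers modulo `p ^ k`. -/
def redHom (p k : ℕ) (hk : k ≠ 0) : ZMod (p ^ k) →+* ZMod p :=
  ZMod.castHom (dvd_pow_self p hk) (ZMod p)

/-- Reduction of matrices. -/
def redMat (p k : ℕ) (hk : k ≠ 0) (n : ℕ) :
    Matrix (Fin n) (Fin n) (ZMod (p ^ k)) →+* Matrix (Fin n) (Fin n) (ZMod p) :=
  (redHom p k hk).mapMatrix

instance neZeroPrimePow : NeZero (p ^ k) := ⟨pow_ne_zero _ (Fact.out : p.Prime).ne_zero⟩

theorem red_surjective (hk : k ≠ 0) : Function.Surjective (redHom p k hk) :=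
  ZMod.castHom_surjective (dvd_pow_self p hk)

theorem exists_mul_of_red_eq_zero (hk : k ≠ 0) {x : ZMod (p ^ k)} (h : redHom p k hk x = 0) :
    ∃ y, x = (p : ZMod (p ^ k)) * y := by
  rw [← ZMod.natCast_zmod_val x, map_natCast, ZMod.natCast_eq_zero_iff] at h
  obtain ⟨m, hm⟩ := h
  exact ⟨m, by rw [← ZMod.natCast_zmod_val x, hm, Nat.cast_mul]⟩

theorem isUnit_of_red_ne_zero (hk : k ≠ 0) {x : ZMod (p ^ k)} (h : redHom p k hk x ≠ 0) : IsUnit x := by
  rw [← ZMod.natCast_zmod_val x, map_natCast, ne_eq, ZMod.natCast_eq_zero_iff] at h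
  have hco : Nat.Coprime x.val (p ^ k) :=
    Nat.Coprime.pow_right _ ((Fact.out : p.Prime).coprime_iff_not_dvd.2 h).symm
  rw [← ZMod.natCast_zmod_val x, ← ZMod.coe_unitOfCoprime _ hco]
  exact Units.isUnit _

theorem redMat_surjective (hk : k ≠ 0) : Function.Surjective (redMat p k hk n) := by
  intro M
  choose M' hM' using fun i j => red_surjective hk (M i j)
  exact ⟨Matrix.of M', Matrix.ext fun i j => hM' i j⟩

theorem isUnit_of_redMat (hk : k ≠ 0) {M : Matrix (Fin n) (Fin n) (ZMod (p ^ k))}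
    (h : IsUnit (redMat p k hk n M)) : IsUnit M := by
  rw [Matrix.isUnit_iff_isUnit_det] at h ⊢
  rw [redMat, ← RingHom.map_det] at h
  exact isUnit_of_red_ne_zero hk h.ne_zero

theorem exists_smul_of_redMat_eq_zero (hk : k ≠ 0) {M : Matrix (Fin n) (Fin n) (ZMod (p ^ k))}
    (h : redMat p k hk n M = 0) : ∃ M', M = (p : ZMod (p ^ k)) • M' := by
  choose M' hM' using fun i j => exists_mul_of_red_eq_zero hk (x := M i j) (congrFun (congrFun h i) j)
  exact ⟨Matrix.of M', Matrix.ext fun i j => by simpa using hM' i j⟩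

theorem pow_eq_one_of_redMat_eq_one (hk : k ≠ 0) {M : Matrix (Fin n) (Fin n) (ZMod (p ^ k))}
    (h : redMat p k hk n M = 1) : M ^ (p ^ k) = 1 := by
  have hred : ∀ i, redMat p k hk n (M ^ i) = 1 := fun i => by rw [map_pow, h, one_pow]
  have key : ∀ i, ∃ N, M ^ (p ^ i) - 1 = (p : ZMod (p ^ k)) ^ (i + 1) • N := by
    intro i
    induction i with
    | zero =>
      obtain ⟨N, hN⟩ := exists_smul_of_redMat_eq_zero hk (M := M - 1) (by rw [map_sub, h, map_one, sub_self])
      exact ⟨N, by simpa using hN⟩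
    | succ i ih =>
      obtain ⟨N, hN⟩ := ih
      obtain ⟨N', hN'⟩ := exists_smul_of_redMat_eq_zero hk
        (M := ∑ j ∈ Finset.range p, (M ^ (p ^ i)) ^ j) (by
          rw [map_sum, Finset.sum_congr rfl (g := fun _ => 1) (fun j _ => by rw [← pow_mul]; exact hred _),
            Finset.sum_const, Finset.card_range, nsmul_eq_mul, mul_one]
          ext a b
          by_cases hab : a = b <;> simp [Matrix.natCast_apply, hab])
      refine ⟨N * N', ?_⟩
      rw [show p ^ (i + 1) = p ^ i * p from pow_succ p i, pow_mul, ← mul_geom_sum, hN, hN',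
        smul_mul_assoc, mul_smul_comm, smul_smul, ← pow_succ]
  obtain ⟨N, hN⟩ := key k
  have h0 : (p : ZMod (p ^ k)) ^ (k + 1) = 0 := by
    rw [pow_succ, ← Nat.cast_pow, ZMod.natCast_self, zero_mul]
  rw [h0, zero_smul, sub_eq_zero] at hN
  exact hN

/-- A representation of a group of order prime to `p` lifts modulo `p ^ k`. -/
theorem exists_lift (hk : k ≠ 0) {A : Type*} [Group A] [Finite A]
    (hA : (Nat.card A).Coprime p) (ρ : A →* Matrix (Fin n) (Fin n) (ZMod p)) :
    ∃ ρ' : A →* Matrix (Fin n) (Fin n) (ZMod (p ^ k)), ∀ a, redMat p k hk n (ρ' a) = ρ a := by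
  let red : (Matrix (Fin n) (Fin n) (ZMod (p ^ k)))ˣ →* (Matrix (Fin n) (Fin n) (ZMod p))ˣ :=
    Units.map (redMat p k hk n).toMonoidHom
  let P : Subgroup (A × (Matrix (Fin n) (Fin n) (ZMod (p ^ k)))ˣ) :=
    MonoidHom.eqLocus (ρ.toHomUnits.comp (MonoidHom.fst _ _)) (red.comp (MonoidHom.snd _ _))
  let π : ↥P →* A := (MonoidHom.fst _ _).comp P.subtype
  have hsurj : Function.Surjective π := by
    intro a
    obtain ⟨M, hM⟩ := redMat_surjective hk (ρ a)
    have hu : IsUnit M := isUnit_of_redMat hk (by rw [hM]; exact (ρ.toHomUnits a).isUnit)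
    exact ⟨⟨(a, hu.unit), Units.ext hM.symm⟩, rfl⟩
  have hker : IsPGroup p π.ker := by
    rintro ⟨⟨⟨a, g⟩, hg⟩, hx⟩
    obtain rfl : a = 1 := hx
    refine ⟨k, Subtype.ext (Subtype.ext (Prod.ext ?_ (Units.ext ?_)))⟩
    · simp
    · have h1 : redMat p k hk n (g : Matrix (Fin n) (Fin n) (ZMod (p ^ k))) = 1 := by
        have := congrArg (Units.val) (Eq.symm (α := (Matrix (Fin n) (Fin n) (ZMod p))ˣ) hg)
        exact this.trans (by simp)
      simpa using pow_eq_one_of_redMat_eq_one hk h1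
  have hcop : (Nat.card π.ker).Coprime π.ker.index := by
    obtain ⟨m, hm⟩ := IsPGroup.iff_card.1 hker
    rw [hm, Subgroup.index_ker, MonoidHom.range_eq_top.2 hsurj, Subgroup.card_top]
    exact Nat.Coprime.pow_left _ hA.symm
  obtain ⟨C, hC⟩ := Subgroup.exists_left_complement'_of_coprime hcop
  have hbij : Function.Bijective (π.comp C.subtype) := by
    refine ⟨(injective_iff_map_eq_one _).2 fun c hc => ?_, fun a => ?_⟩
    · have : (c : ↥P) ∈ C ⊓ π.ker := ⟨c.2, hc⟩
      rw [hC.disjoint.eq_bot, Subgroup.mem_bot] at this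
      exact Subtype.ext this
    · obtain ⟨x, rfl⟩ := hsurj a
      obtain ⟨⟨c, m⟩, hcm, -⟩ := Subgroup.IsComplement.existsUnique hC x
      refine ⟨c, ?_⟩
      show π c = π x
      rw [← hcm, map_mul, MonoidHom.mem_ker.1 m.2, mul_one]
  let e : ↥C ≃* A := MulEquiv.ofBijective _ hbij
  refine ⟨(Units.coeHom _).comp ((((MonoidHom.snd _ _).comp P.subtype).comp C.subtype).comp
    e.symm.toMonoidHom), fun a => ?_⟩
  obtain ⟨c, rfl⟩ := e.surjective a
  have := congrArg Units.val ((c : ↥P).2 : (ρ.toHomUnits.comp (MonoidHom.fst _ _)) (c : ↥P).1 =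
    (red.comp (MonoidHom.snd _ _)) (c : ↥P).1)
  show redMat p k hk n ↑((((e.symm (e c)) : ↥C) : ↥P) : A × (Matrix (Fin n) (Fin n) (ZMod (p ^ k)))ˣ).2 = ρ (π (c : ↥P))
  rw [MulEquiv.symm_apply_apply]
  exact this.symm

/-- Congruent idempotents have equal traces. -/
theorem trace_eq_of_redMat_eq (hk : k ≠ 0) {P Q : Matrix (Fin n) (Fin n) (ZMod (p ^ k))}
    (hP : P * P = P) (hQ : Q * Q = Q) (h : redMat p k hk n P = redMat p k hk n Q) :
    P.trace = Q.trace := by
  have hq : redMat p k hk n Q * redMat p k hk n Q = redMat p k hk n Q := by rw [← map_mul, hQ]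
  obtain ⟨u, hu⟩ : IsUnit (P * Q + (1 - P) * (1 - Q)) := isUnit_of_redMat hk (by
    rw [map_add, map_mul, map_mul, map_sub, map_sub, map_one, h]
    rw [show redMat p k hk n Q * redMat p k hk n Q +
      (1 - redMat p k hk n Q) * (1 - redMat p k hk n Q) = 1 by
        rw [sub_mul, mul_sub, mul_sub, hq, one_mul, mul_one, one_mul, sub_self, sub_zero,
          add_sub_cancel]]
    exact isUnit_one)
  have z1 : P * (1 - P) = 0 := by rw [mul_sub, mul_one, hP, sub_self]
  have z2 : (1 - Q) * Q = 0 := by rw [sub_mul, one_mul, hQ, sub_self]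
  have e1 : P * (u : Matrix (Fin n) (Fin n) (ZMod (p ^ k))) = (u : Matrix _ _ _) * Q := by
    rw [hu, mul_add, add_mul, ← mul_assoc P (1 - P), z1, zero_mul, mul_assoc (1 - P), z2, mul_zero,
      ← mul_assoc, hP, mul_assoc P Q Q, hQ]
  calc P.trace = (P * (u : Matrix _ _ _) * (↑u⁻¹ : Matrix (Fin n) (Fin n) (ZMod (p ^ k)))).trace := by
        rw [Units.mul_inv_cancel_right]
    _ = Q.trace := by rw [e1, Matrix.trace_mul_comm, Units.inv_mul_cancel_left]

/-- An idempotent modulo `p` has an idempotent lift, whose trace is the dimension of the image. -/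
theorem exists_idempotent_lift (hk : k ≠ 0) {P : Matrix (Fin n) (Fin n) (ZMod p)} (hP : P * P = P) :
    ∃ (r : ℕ) (Q : Matrix (Fin n) (Fin n) (ZMod (p ^ k))), Q * Q = Q ∧ redMat p k hk n Q = P ∧
      Q.trace = (r : ZMod (p ^ k)) ∧ r ≤ n ∧
      Nat.card {v : Fin n → ZMod p // P *ᵥ v = v} = p ^ r := by
  classical
  let f : (Fin n → ZMod p) →ₗ[ZMod p] (Fin n → ZMod p) := Matrix.toLin' P
  let W := LinearMap.range f
  set r := Module.finrank (ZMod p) W with hr
  let bW : Module.Basis (Fin r) (ZMod p) W := Module.finBasis _ _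
  let b := Pi.basisFun (ZMod p) (Fin n)
  let B : Matrix (Fin n) (Fin r) (ZMod p) := LinearMap.toMatrix bW b W.subtype
  let C : Matrix (Fin r) (Fin n) (ZMod p) := LinearMap.toMatrix b bW f.rangeRestrict
  have hBC : B * C = P := by
    rw [← LinearMap.toMatrix_comp]
    show LinearMap.toMatrix b b f = P
    rw [LinearMap.toMatrix_eq_toMatrix']
    exact LinearMap.toMatrix'_toLin' P
  have hCB : C * B = 1 := by
    rw [← LinearMap.toMatrix_comp, ← LinearMap.toMatrix_id bW]
    congr 1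
    refine LinearMap.ext fun w => Subtype.ext ?_
    obtain ⟨v, hv⟩ := w.2
    show f w = w
    rw [← hv]
    simp [f, Matrix.mulVec_mulVec, hP]
  choose B' hB' using fun i j => red_surjective hk (B i j)
  choose C' hC' using fun i j => red_surjective hk (C i j)
  let B'' : Matrix (Fin n) (Fin r) (ZMod (p ^ k)) := Matrix.of B'
  let C'' : Matrix (Fin r) (Fin n) (ZMod (p ^ k)) := Matrix.of C'
  have hBmap : B''.map (redHom p k hk) = B := Matrix.ext hB'
  have hCmap : C''.map (redHom p k hk) = C := Matrix.ext hC'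
  obtain ⟨u, hu⟩ : IsUnit (C'' * B'') := isUnit_of_redMat hk (by
    show IsUnit ((C'' * B'').map (redHom p k hk))
    rw [Matrix.map_mul, hBmap, hCmap, hCB]
    exact isUnit_one)
  have hui : redMat p k hk r (↑u⁻¹ : Matrix (Fin r) (Fin r) (ZMod (p ^ k))) = 1 := by
    have h1 : redMat p k hk r (u : Matrix (Fin r) (Fin r) (ZMod (p ^ k))) = 1 := by
      rw [hu]
      show (C'' * B'').map (redHom p k hk) = 1
      rw [Matrix.map_mul, hBmap, hCmap, hCB]
    have h2 := congrArg (redMat p k hk r) (Units.mul_inv u)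
    rwa [map_mul, h1, one_mul, map_one] at h2
  refine ⟨r, B'' * (↑u⁻¹ : Matrix (Fin r) (Fin r) (ZMod (p ^ k))) * C'', ?_, ?_, ?_, ?_, ?_⟩
  · rw [show B'' * (↑u⁻¹ : Matrix (Fin r) (Fin r) (ZMod (p ^ k))) * C'' * (B'' * (↑u⁻¹ : Matrix (Fin r) (Fin r) (ZMod (p ^ k))) * C'') =
      B'' * (↑u⁻¹ : Matrix (Fin r) (Fin r) (ZMod (p ^ k))) * (C'' * B'') * (↑u⁻¹ : Matrix (Fin r) (Fin r) (ZMod (p ^ k))) * C'' by
        simp only [Matrix.mul_assoc], ← hu, Matrix.mul_assoc B'' _ (u : Matrix (Fin r) (Fin r) (ZMod (p ^ k))), Units.inv_mul,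
      Matrix.mul_one]
  · show (B'' * (↑u⁻¹ : Matrix (Fin r) (Fin r) (ZMod (p ^ k))) * C'').map (redHom p k hk) = P
    rw [Matrix.map_mul, Matrix.map_mul, hBmap, hCmap]
    show B * redMat p k hk r _ * C = P
    rw [hui, Matrix.mul_one, hBC]
  · rw [Matrix.trace_mul_comm, ← Matrix.mul_assoc, ← hu, Units.mul_inv]
    simp
  · exact (Submodule.finrank_le W).trans_eq (Module.finrank_fin_fun _)
  · have : {v : Fin n → ZMod p | P *ᵥ v = v} = (W : Set (Fin n → ZMod p)) := by
      ext v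
      simp only [W, SetLike.mem_coe, LinearMap.mem_range, Set.mem_ofPred_eq, f, Matrix.toLin'_apply]
      exact ⟨fun h => ⟨v, h⟩, by rintro ⟨w, rfl⟩; rw [Matrix.mulVec_mulVec, hP]⟩
    rw [← Set.coe_ofPred, this]
    simp only [SetLike.coe_sort_coe]
    rw [Nat.card_eq_fintype_card, Module.card_eq_pow_finrank (K := ZMod p), ZMod.card]

/-- The averaging sum over a subgroup: its trace is `|S|` times the dimension of the fixed space. -/
theorem trace_sum_eq (hk : k ≠ 0) {A : Type*} [Group A] (S : Subgroup A) [Fintype S]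
    (hS : (Fintype.card S).Coprime p) (ρ : A →* Matrix (Fin n) (Fin n) (ZMod p))
    (ρ' : A →* Matrix (Fin n) (Fin n) (ZMod (p ^ k))) (hρ : ∀ a, redMat p k hk n (ρ' a) = ρ a) :
    ∃ r : ℕ, r ≤ n ∧ Nat.card {v : Fin n → ZMod p // ∀ s ∈ S, ρ s *ᵥ v = v} = p ^ r ∧
      ∑ s : S, (ρ' (s : A)).trace = ((Fintype.card S * r : ℕ) : ZMod (p ^ k)) := by
  classical
  set u := ZMod.unitOfCoprime (Fintype.card S) (Nat.Coprime.pow_right k hS) with hu
  have hcu : (Fintype.card S : ZMod (p ^ k)) * (↑u⁻¹ : ZMod (p ^ k)) = 1 := by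
    rw [← ZMod.coe_unitOfCoprime _ (Nat.Coprime.pow_right k hS)]
    exact u.mul_inv
  let Sm : Matrix (Fin n) (Fin n) (ZMod (p ^ k)) := ∑ s : S, ρ' (s : A)
  let e : Matrix (Fin n) (Fin n) (ZMod (p ^ k)) := (↑u⁻¹ : ZMod (p ^ k)) • Sm
  have habs : ∀ t : S, ρ' (t : A) * Sm = Sm := by
    intro t
    simp only [Sm, Finset.mul_sum, ← map_mul, ← Subgroup.coe_mul]
    exact Fintype.sum_equiv (Equiv.mulLeft t) _ _ (fun s => rfl)
  have hSS : Sm * Sm = (Fintype.card S : ZMod (p ^ k)) • Sm := by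
    conv_lhs => arg 1; simp only [Sm]
    rw [Finset.sum_mul, Finset.sum_congr rfl (g := fun _ => Sm) (fun t _ => habs t), Finset.sum_const,
      Finset.card_univ, Nat.cast_smul_eq_nsmul]
  have he : e * e = e := by
    simp only [e]
    rw [smul_mul_assoc, mul_smul_comm, hSS, smul_smul _ (Fintype.card S : ZMod (p ^ k)),
      mul_comm (↑u⁻¹ : ZMod (p ^ k)), hcu, one_smul]
  obtain ⟨r, Q, hQ, hQe, htr, hrn, hcard⟩ := exists_idempotent_lift hk (P := redMat p k hk n e)
    (by rw [← map_mul, he])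
  refine ⟨r, hrn, ?_, ?_⟩
  · rw [← hcard]
    refine Nat.card_congr (Equiv.subtypeEquivRight fun v => ?_)
    have hcu' : (Fintype.card S : ZMod p) * redHom p k hk (↑u⁻¹ : ZMod (p ^ k)) = 1 := by
      rw [← map_natCast (redHom p k hk), ← map_mul, hcu, map_one]
    have hrede : redMat p k hk n e = redHom p k hk (↑u⁻¹ : ZMod (p ^ k)) • ∑ s : S, ρ (s : A) := by
      have h1 : redMat p k hk n Sm = ∑ s : S, ρ (s : A) := by simp [Sm, map_sum, hρ]
      rw [← h1]
      ext i j
      exact map_mul (redHom p k hk) _ _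
    constructor
    · intro h
      rw [hrede, Matrix.smul_mulVec, Matrix.sum_mulVec,
        show ∑ s : S, ρ (s : A) *ᵥ v = ∑ _s : S, v from Finset.sum_congr rfl fun s _ => h s s.2,
        Finset.sum_const, Finset.card_univ, ← Nat.cast_smul_eq_nsmul (ZMod p),
        smul_smul, mul_comm, hcu', one_smul]
    · intro h s hs
      rw [← h, Matrix.mulVec_mulVec, ← hρ s, ← map_mul]
      congr 2
      simp only [e, mul_smul_comm, habs ⟨s, hs⟩]
  · rw [show ∑ s : S, (ρ' (s : A)).trace = Sm.trace from (Matrix.trace_sum _ _).symm]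
    have h1 : e.trace = (r : ZMod (p ^ k)) := (trace_eq_of_redMat_eq hk he hQ hQe.symm).trans htr
    simp only [e, Matrix.trace_smul, smul_eq_mul] at h1
    rw [Nat.cast_mul, ← h1, ← mul_assoc, hcu, one_mul]

end Cfsg.Agent.Coprime
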