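import Cfsg.Agent.Lib.Coprime.Commutator
import Cfsg.Agent.Lib.Perm.PrimeDegree
import Mathlib.Data.Nat.ChineseRemainder
import Mathlib.GroupTheory.GroupAction.MultipleTransitivity

/-!
# Coprime action with fixed points of prime index

`card_commutator_of_relIndex_centralizer`: if `[K : C_K(A)] = p` then `|[K, A]| = p`.
-/

namespace Cfsg.Agent.Coprime

open scoped Pointwise commutatorElement
open Subgroup

variable {G : Type*} [Group G] [Finite G]

/-- A subgroup `C` of prime index in `K` is maximal. -/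
theorem eq_or_eq_of_prime_relIndex {C K L : Subgroup G} {p : ℕ} (hp : p.Prime)
    (hidx : C.relIndex K = p) (hCL : C ≤ L) (hLK : L ≤ K) : L = C ∨ L = K := by
  have h := relIndex_mul_relIndex C L K hCL hLK
  rw [hidx] at h
  rcases (Nat.dvd_prime hp).1 (Dvd.intro_left _ h) with h1 | h1
  · exact Or.inr (le_antisymm hLK (relIndex_eq_one.1 h1))
  · left
    rw [h1] at h
    exact le_antisymm (relIndex_eq_one.1 (by simpa [hp.ne_zero] using h)) hCL

/-- The action on the cosets of fixed points of prime index is not doubly transitive. -/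
theorem false_of_prime_index_two_transitive {A K : Subgroup G} (hAK : A ≤ normalizer (K : Set G))
    (hcop : (Nat.card A).Coprime (Nat.card K)) {p : ℕ} (hp : p.Prime)
    (hidx : (K ⊓ centralizer (A : Set G)).relIndex K = p)
    (h2 : ∀ x y : G, x ∈ K → y ∈ K → x ∉ centralizer (A : Set G) → y ∉ centralizer (A : Set G) →
      ∃ c ∈ K ⊓ centralizer (A : Set G), x⁻¹ * c * y ∈ centralizer (A : Set G)) : False := by
  set C := K ⊓ centralizer (A : Set G) with hC
  have hne : ¬ A ≤ centralizer (K : Set G) := fun h => by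
    rw [hC, inf_eq_left.2 (le_centralizer_iff.1 h), relIndex_self] at hidx
    exact hp.ne_one hidx.symm
  obtain ⟨a, ha, haK⟩ := SetLike.not_le_iff_exists.1 hne
  set B := zpowers a with hB
  have hBA : B ≤ A := zpowers_le.2 ha
  have hcopB : (Nat.card B).Coprime (Nat.card K) := hcop.coprime_dvd_left (card_dvd_of_le hBA)
  have hsB : Group.IsSolvable B := Group.isSolvable_of_comm fun x y => mul_comm' x y
  have hCB : C = K ⊓ centralizer (B : Set G) := by
    have hle : C ≤ K ⊓ centralizer (B : Set G) := inf_le_inf_left _ (centralizer_le hBA)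
    rcases eq_or_eq_of_prime_relIndex hp hidx hle inf_le_left with h | h
    · exact h.symm
    · exact absurd (le_centralizer_iff.1 (inf_eq_left.1 h) (mem_zpowers a)) haK
  have hAC : ∀ b ∈ A, ∀ c ∈ C, b * c = c * b := fun b hb c hc => mem_centralizer_iff.1 hc.2 b hb
  have hBC : B ≤ normalizer (C : Set G) := by
    intro b hb
    rw [mem_normalizer_iff]
    intro x
    constructor
    · intro hx
      rwa [hAC b (hBA hb) x hx, mul_inv_cancel_right]
    · intro hx
      have hc := hAC b (hBA hb) _ hx
      have : x = b * x * b⁻¹ := by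
        refine mul_left_cancel (a := b) ?_
        rw [hc]; group
      rwa [this]
  -- a coset moved by `a`
  obtain ⟨k, hk, hkC⟩ : ∃ k ∈ K, k ∉ centralizer (A : Set G) := by
    by_contra h
    push Not at h
    exact hne (le_centralizer_iff.1 h)
  have hk' : a * k * a⁻¹ ∈ K := (mem_normalizer_iff.1 (hAK ha) k).1 hk
  have hk'C : a * k * a⁻¹ ∉ centralizer (A : Set G) := fun h => hkC (by
    have hc := mem_centralizer_iff.1 h a ha
    have : k = a * k * a⁻¹ := by
      refine mul_left_cancel (a := a) ?_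
      rw [hc]; group
    rwa [this])
  obtain ⟨c, hc, hck⟩ := h2 k (a * k * a⁻¹) hk hk' hkC hk'C
  have hd : k⁻¹ * c * (a * k * a⁻¹) ∈ C :=
    mem_inf.2 ⟨K.mul_mem (K.mul_mem (K.inv_mem hk) hc.1) hk', hck⟩
  have hT : c * a ∈ MulAut.conj k • (C ⊔ B) := by
    rw [mem_conj_smul_iff]
    have := (C ⊔ B).mul_mem (mem_sup_left hd) (mem_sup_right (mem_zpowers a))
    convert this using 1
    group
  have hcomm : Commute c a := (hAC a ha c hc).symm
  obtain ⟨m, hm1, hm2⟩ := Nat.chineseRemainder
    (show (orderOf a).Coprime (Nat.card K) by rwa [← Nat.card_zpowers]) 1 0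
  have haT : a ∈ MulAut.conj k • (C ⊔ B) := by
    have h1 : (c * a) ^ m = a := by
      obtain ⟨v, hv⟩ := Nat.modEq_zero_iff_dvd.1 hm2
      rw [hcomm.mul_pow, hv, pow_mul, orderOf_dvd_iff_pow_eq_one.1 (K.orderOf_dvd_natCard hc.1),
        one_pow, one_mul, ← hv]
      conv_rhs => rw [← pow_one a]
      exact pow_eq_pow_iff_modEq.2 hm1
    have h2 := pow_mem hT m
    rwa [h1] at h2
  have hBK : B ⊓ K = ⊥ := disjoint_of_coprime_card hcopB
  have hfix : ∀ b ∈ B, k⁻¹ * b * k * b⁻¹ ∈ C := by
    intro b hb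
    have hbT := (zpowers_le.2 haT : B ≤ _) hb
    rw [mem_conj_smul_iff, sup_comm, mem_sup_iff_of_le_normalizer' hBC] at hbT
    obtain ⟨c', hc', b', hb', he⟩ := hbT
    have h1 : b' * b⁻¹ ∈ B ⊓ K := by
      refine mem_inf.2 ⟨B.mul_mem hb' (B.inv_mem hb), ?_⟩
      have h2 : k⁻¹ * b * k * b⁻¹ ∈ K := by
        rw [mul_assoc, mul_assoc]
        refine K.mul_mem (K.inv_mem hk) ?_
        rw [← mul_assoc]
        exact (mem_normalizer_iff.1 (hAK (hBA hb)) k).1 hk
      have h3 := K.mul_mem (K.inv_mem hc'.1) h2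
      convert h3 using 1
      rw [← he]; group
    rw [hBK, mem_bot, mul_inv_eq_one] at h1
    rw [← he, h1, mul_inv_cancel_right]
    exact hc'
  obtain ⟨n, hn, hkn⟩ := exists_mul_mem_centralizer hBC
    (hcopB.coprime_dvd_right (card_dvd_of_le inf_le_left)) (Or.inl hsB) hfix
  have hknC : k * n ∈ C := hCB.ge ⟨K.mul_mem hk hn.1, hkn⟩
  have hfin := (centralizer (A : Set G)).mul_mem hknC.2
    ((centralizer (A : Set G)).inv_mem hn.2)
  rw [mul_inv_cancel_right] at hfin
  exact hkC hfin

/-- If `C_K(A)` has prime index `p` in `K`, then `[K, A]` has order `p`. -/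
theorem card_commutator_of_relIndex_centralizer {A K : Subgroup G}
    (hAK : A ≤ normalizer (K : Set G)) (hcop : (Nat.card A).Coprime (Nat.card K))
    (hs : Group.IsSolvable A ∨ Group.IsSolvable K) {p : ℕ} (hp : p.Prime)
    (hidx : (K ⊓ centralizer (A : Set G)).relIndex K = p) :
    Nat.card (⁅K, A⁆ : Subgroup G) = p := by
  classical
  have := Fact.mk hp
  induction hn : Nat.card K using Nat.strong_induction_on generalizing K with
  | _ n ih =>
  set M := ⁅K, A⁆ with hM
  set C := K ⊓ centralizer (A : Set G) with hC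
  have hMK : M ≤ K := commutator_le_left_of_le_normalizer hAK
  have hMA : A ≤ normalizer (M : Set G) := normalizer_commutator_ge_right K A
  have hMM : ⁅M, A⁆ = M := commutator_commutator_eq hAK hcop hs
  have hKM : K ≤ normalizer (M : Set G) := normalizer_commutator_ge_left K A
  have hsup : C ⊔ M = K := by rw [sup_comm]; exact commutator_sup_centralizer hAK hcop hs
  have hMidx : (M ⊓ centralizer (A : Set G)).relIndex M = p := by
    have h1 : M.relIndex K = M.relIndex C := by
      conv_lhs => rw [← hsup]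
      exact relIndex_sup_right_of_le_normalizer (inf_le_left.trans hKM)
    have h2 := relIndex_mul_relIndex (M ⊓ C) M K inf_le_left hMK
    have h3 := relIndex_mul_relIndex (M ⊓ C) C K inf_le_right inf_le_left
    rw [hidx] at h3
    rw [inf_relIndex_left] at h2
    rw [inf_relIndex_right] at h3
    rw [h1, ← h3, Nat.mul_comm (M.relIndex C) p] at h2
    have h4 : C.relIndex M = p :=
      Nat.eq_of_mul_eq_mul_right (Nat.pos_of_ne_zero fun h0 => by
        have := h1.trans h0
        exact (Subgroup.index_ne_zero_of_finite (H := M.subgroupOf K)) this) h2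
    have h5 : M ⊓ centralizer (A : Set G) = M ⊓ C := by rw [hC, ← inf_assoc, inf_eq_left.2 hMK]
    rw [h5, inf_relIndex_left, h4]
  by_cases hlt : Nat.card M < n
  · have hsM : Group.IsSolvable A ∨ Group.IsSolvable M := hs.imp_right (isSolvable_of_le hMK)
    have := ih _ hlt hMA (hcop.coprime_dvd_right (card_dvd_of_le hMK)) hsM hMidx rfl
    rwa [hMM] at this
  have hMeq : M = K := Subgroup.eq_of_le_of_card_ge hMK (hn ▸ not_lt.1 hlt)
  have hne : K ≠ C := fun h => by
    rw [← h, relIndex_self] at hidx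
    exact hp.ne_one hidx.symm
  have hCn : K ≤ normalizer (C : Set G) := by
    have hD : A ≤ normalizer ((⁅K, K⁆ : Subgroup G) : Set G) := fun a ha => by
      refine mem_normalizer_of_conj_smul_eq ?_
      show Subgroup.map (MulAut.conj a).toMonoidHom _ = _
      rw [map_commutator]
      exact congrArg₂ (fun X Y => ⁅X, Y⁆) (conj_smul_eq_self_of_mem (hAK ha))
        (conj_smul_eq_self_of_mem (hAK ha))
    by_cases hDC : ⁅K, K⁆ ≤ C
    · exact le_normalizer_iff_commutator_le_right.2
        ((commutator_mono le_rfl inf_le_left).trans hDC)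
    exfalso
    have hDK : ⁅K, K⁆ ≤ K := K.commutator_le_self
    have hKD : K ≤ normalizer ((⁅K, K⁆ : Subgroup G) : Set G) := normalizer_commutator_ge_left K K
    have hDsup : C ⊔ ⁅K, K⁆ = K := by
      rcases eq_or_eq_of_prime_relIndex hp hidx (le_sup_left : C ≤ C ⊔ ⁅K, K⁆)
        (sup_le inf_le_left hDK) with h | h
      · exact absurd (le_sup_right.trans h.le) hDC
      · exact h
    have hperf : ⁅K, K⁆ = K := by
      refine le_antisymm hDK (hMeq.ge.trans (commutator_le.2 fun k hk a ha => ?_))
      obtain ⟨d, hd, c, hc, rfl⟩ := (mem_sup_iff_of_le_normalizer' (H := C)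
        (inf_le_left.trans hKD)).1 (hDsup.ge hk)
      have hca : ⁅c, a⁆ = 1 := commutatorElement_eq_one_iff_mul_comm.2
        ((mem_centralizer_iff.1 hc.2 a ha).symm)
      rw [commutatorElement_mul_left_eq_conj_mul, hca, mul_one, mul_inv_cancel, one_mul,
        commutatorElement_def, mul_assoc d a, mul_assoc d]
      exact mul_mem hd ((mem_normalizer_iff.1 (hD ha) _).1 (inv_mem hd))
    -- the permutation group on the cosets of `C`
    let α := K ⧸ C.subgroupOf K
    have := Fintype.ofFinite α
    let f : K →* Equiv.Perm α := MulAction.toPermHom K α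
    have hαc : Fintype.card α = p := by
      rw [← Nat.card_eq_fintype_card]
      exact hidx
    have htrans : MulAction.IsPretransitive f.range α := ⟨fun x y => by
      obtain ⟨g, hg⟩ := MulAction.exists_smul_eq K x y
      exact ⟨⟨f g, g, rfl⟩, hg⟩⟩
    have hns : ¬ Group.IsSolvable f.range := by
      intro hsol
      have hcm : ⁅(⊤ : Subgroup f.range), (⊤ : Subgroup f.range)⁆ = (⊤ : Subgroup f.range) := by
        have h1 : commutator K = ⊤ := by
          apply map_injective K.subtype_injective
          rw [map_subtype_commutator, ← MonoidHom.range_eq_map, range_subtype, hperf]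
        rw [← Subgroup.map_top_of_surjective f.rangeRestrict f.rangeRestrict_surjective, ← map_commutator,
          ← _root_.commutator_def, h1]
      rcases subsingleton_or_nontrivial f.range with hsub | hnt
      · obtain ⟨x, y, hxy⟩ := Fintype.exists_pair_of_one_lt_card (hαc ▸ hp.one_lt)
        obtain ⟨g, hg⟩ := MulAction.exists_smul_eq f.range x y
        rw [Subsingleton.elim g 1, one_smul] at hg
        exact hxy hg
      · exact (Group.IsSolvable.commutator_lt_top_of_nontrivial (G := f.range)).ne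
          (by rw [_root_.commutator_def, hcm])
    have h2 := Perm.PrimeDegree.twoTransitive_of_not_isSolvable (p := p) (G := f.range) hαc hns
    refine false_of_prime_index_two_transitive hAK hcop hp hidx fun x y hx hy hxC hyC => ?_
    rw [MulAction.is_two_pretransitive_iff] at h2
    have hne1 : ∀ z : G, ∀ hz : z ∈ K, z ∉ centralizer (A : Set G) →
        ((1 : K) : α) ≠ ((⟨z, hz⟩ : K) : α) := fun z hz hzC h => hzC <| by
      have h1 := QuotientGroup.eq.1 h
      rw [inv_one, one_mul] at h1
      exact (mem_subgroupOf.1 h1).2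
    obtain ⟨⟨_, g, rfl⟩, hg1, hg2⟩ := h2 (hne1 y hy hyC) (hne1 x hx hxC)
    have hg1' : ((g * 1 : K) : α) = ((1 : K) : α) := hg1
    have hg2' : ((g * ⟨y, hy⟩ : K) : α) = ((⟨x, hx⟩ : K) : α) := hg2
    rw [QuotientGroup.eq, mem_subgroupOf] at hg1' hg2'
    have hgC : (g : G) ∈ C := by simpa using C.inv_mem hg1'
    refine ⟨g, hgC, ?_⟩
    have h3 := (centralizer (A : Set G)).inv_mem hg2'.2
    simpa [mul_assoc] using h3
  -- now `C` is normal, hence central in `K = [K, A]`
  have h1 : ⁅⁅C, A⁆, K⁆ = ⊥ := by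
    rw [show ⁅C, A⁆ = (⊥ : Subgroup G) from commutator_eq_bot_iff_le_centralizer.2 inf_le_right,
      commutator_bot_left]
  have h2 : ⁅⁅K, C⁆, A⁆ = ⊥ := by
    rw [eq_bot_iff, ← show ⁅C, A⁆ = (⊥ : Subgroup G) from
      commutator_eq_bot_iff_le_centralizer.2 inf_le_right]
    exact commutator_mono (le_normalizer_iff_commutator_le_right.1 hCn) le_rfl
  have h3 : ⁅⁅A, K⁆, C⁆ = ⊥ := commutator_commutator_eq_bot_of_rotate h2 h1 |> fun h => h
  rw [show ⁅A, K⁆ = K from (commutator_comm A K).trans hMeq,
    commutator_eq_bot_iff_le_centralizer] at h3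
  have hcyc : IsMulCommutative K := by
    obtain ⟨x, hx, hxC⟩ := SetLike.not_le_iff_exists.1 (fun h : K ≤ C => hne (le_antisymm h inf_le_left))
    have hgen : K ≤ C ⊔ zpowers x := by
      rcases eq_or_eq_of_prime_relIndex hp hidx (le_sup_left : C ≤ C ⊔ zpowers x)
        (sup_le inf_le_left (zpowers_le.2 hx)) with h | h
      · exact absurd (h.le (mem_sup_right (mem_zpowers x))) hxC
      · exact h.ge
    have hxn : zpowers x ≤ normalizer (C : Set G) := (zpowers_le.2 hx).trans hCn
    have hCcen : ∀ c ∈ C, ∀ k ∈ K, c * k = k * c := fun c hc k hk => mem_centralizer_iff.1 (h3 hk) c hc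
    refine ⟨⟨fun u v => Subtype.ext ?_⟩⟩
    obtain ⟨c, hc, z, hz, hu⟩ := (mem_sup_iff_of_le_normalizer' hxn).1 (by rw [sup_comm]; exact hgen u.2)
    obtain ⟨d, hd, w, hw, hv⟩ := (mem_sup_iff_of_le_normalizer' hxn).1 (by rw [sup_comm]; exact hgen v.2)
    have hzK : z ∈ K := (zpowers_le.2 hx) hz
    have hwK : w ∈ K := (zpowers_le.2 hx) hw
    have hzw : z * w = w * z := by
      obtain ⟨i, rfl⟩ := hz; obtain ⟨j, rfl⟩ := hw
      exact zpow_mul_comm x i j
    show (u : G) * v = v * u
    rw [← hu, ← hv, mul_assoc, ← mul_assoc z, ← hCcen d hd z hzK, mul_assoc d, hzw, ← mul_assoc,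
      hCcen c hc d hd.1, mul_assoc d c, ← mul_assoc c, hCcen c hc w hwK]
    group
  have hbot : C = ⊥ := by
    rw [← inf_centralizer_inf_commutator_eq_bot (V := K) hAK hcop, ← hC,
      inf_eq_left.2 (show C ≤ ⁅K, A⁆ from inf_le_left.trans hMeq.ge)]
  rw [hMeq]
  rw [hbot, relIndex_bot_left] at hidx
  exact hidx

end Cfsg.Agent.Coprime
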