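import Cfsg.Agent.S1445
import Cfsg.Agent.S1446
import Cfsg.Agent.S1459
import Cfsg.Agent.Lib.OddOrder.FittingLocal
import Cfsg.Agent.Lib.OddOrder.FittingHall
import Cfsg.Agent.Lib.Coprime.Generation
import Cfsg.Agent.Lib.PComplement.FixedPointFree
import Cfsg.Agent.Lib.Solvable.Hall
import Cfsg.Agent.Lib.PGroup.Frattini
import Cfsg.Agent.Lib.PGroup.Hyperplanes

/-!
# Semiprime actions with a fixed group of prime order (the group theory of Bender–Glauberman 15.2)

Let `X = H R` be solvable of odd order, `H` a normal Hall subgroup inside `X'`, and suppose that every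
non-identity element of `R` has the same centralizer `C` in `H`, of prime order `q`.  If `H` is not
nilpotent then `H` has a normal Sylow `q`-subgroup `T`, `|R| = p` is a prime, the complements `D` of `T`
in `H` are nilpotent, and `T / C_T(D)` is elementary abelian of order `q ^ p`, a chief factor of `X`.

* `isNilpotent_of_fixed_eq_bot`: Thompson, for an element of prime order;
* `structure_of_data`: the conclusions.
-/

set_option autoImplicit false
set_option linter.style.haveILetI false
set_option linter.unusedSectionVars false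

namespace Cfsg.Agent.Semiprime

open Cfsg
open Subgroup (centralizer normalizer zpowers)
open scoped Pointwise commutatorElement

universe u
variable {X : Type u} [Group X] [Finite X]

theorem centralizer_zpowers {Y : Type*} [Group Y] (x : Y) :
    centralizer (zpowers x : Set Y) = centralizer ({x} : Set Y) := by
  rw [Subgroup.zpowers_eq_closure, Subgroup.centralizer_closure]

/-- Thompson: a subgroup normalized by an element of prime order without fixed points is nilpotent. -/
theorem isNilpotent_of_fixed_eq_bot {H : Subgroup X} {x : X} {r : ℕ} [Fact r.Prime] (ho : orderOf x = r)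
    (hx : x ∈ normalizer (H : Set X)) (h : H ⊓ centralizer ({x} : Set X) = ⊥) : Group.IsNilpotent H := by
  refine PComplement.isNilpotent_of_fpf (p := r) H (H.normalizerMonoidHom ⟨x, hx⟩) ?_ fun g hg => ?_
  · rw [← map_pow]
    convert map_one H.normalizerMonoidHom
    exact Subtype.ext (by push_cast; rw [← ho, pow_orderOf_eq_one])
  · have h1 : x * (g : X) * x⁻¹ = g := congrArg Subtype.val hg
    refine Subtype.ext (Subgroup.mem_bot.1 (h ▸ ⟨g.2, ?_⟩))
    exact Subgroup.mem_centralizer_singleton_iff.2 (mul_inv_eq_iff_eq_mul.1 h1).symm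

/-- In a nilpotent subgroup, a `q`-subgroup centralizes every element of order prime to `q`. -/
theorem mem_centralizer_of_nilpotent {L W : Subgroup X} {q : ℕ} [Fact q.Prime] (hL : Group.IsNilpotent L)
    (hWL : W ≤ L) (hW : IsPGroup q W) {d : X} (hd : d ∈ L) (ho : (orderOf d).Coprime q) :
    d ∈ centralizer (W : Set X) := by
  refine Subgroup.mem_centralizer_iff.2 fun w hw => ?_
  obtain ⟨k, hk⟩ := hW ⟨w, hw⟩
  haveI := hL
  exact (congrArg Subtype.val (Subnormal.commute_of_coprime (G := L) (p := q) (k := k)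
    (u := ⟨w, hWL hw⟩) (y := ⟨d, hd⟩) (Subtype.ext (congrArg Subtype.val hk :))
    (by rwa [Subgroup.orderOf_mk])).eq).symm

/-- `X = H R`, a semiprime action with fixed group of prime order `q`, `H` not nilpotent. -/
structure Data (H R : Subgroup X) (q : ℕ) : Prop where
  solvable : Group.IsSolvable X
  odd : Odd (Nat.card X)
  normal : H.Normal
  compl : Subgroup.IsComplement' H R
  coprime : (Nat.card H).Coprime (Nat.card R)
  le_commutator : H ≤ commutator X
  ne_bot : R ≠ ⊥
  prime_action : ∀ x ∈ R, x ≠ 1 → H ⊓ centralizer ({x} : Set X) = H ⊓ centralizer (R : Set X)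
  qprime : q.Prime
  card_fixed : Nat.card ↥(H ⊓ centralizer (R : Set X)) = q
  not_nilpotent : ¬ Group.IsNilpotent H

namespace Data

variable {H R : Subgroup X} {q : ℕ} (d : Data H R q)
include d

theorem le_normalizer (S : Subgroup X) : S ≤ normalizer (H : Set X) := by
  haveI := d.normal
  rw [Subgroup.normalizer_eq_top]
  exact le_top

theorem exists_prime_mem : ∃ x ∈ R, x ≠ 1 ∧ ∃ r : ℕ, r.Prime ∧ orderOf x = r := by
  obtain ⟨r, hr, hd⟩ := Nat.exists_prime_and_dvd (n := Nat.card R) (fun e => d.ne_bot (Subgroup.card_eq_one.1 e))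
  haveI := Fact.mk hr
  obtain ⟨x, hx⟩ := exists_prime_orderOf_dvd_card' r hd
  rw [← Subgroup.orderOf_coe] at hx
  exact ⟨x, x.2, fun e => hr.ne_one (by rw [← hx, e, orderOf_one]), r, hr, hx⟩

theorem fixed_le_fitting : H ⊓ centralizer (R : Set X) ≤ fittingOf H := by
  have hne : fittingOf H ⊓ centralizer (R : Set X) ≠ ⊥ := fun h => by
    haveI := d.normal
    haveI := d.solvable
    refine d.not_nilpotent ?_
    have h1 := S1445.result d.odd H R d.compl.sup_eq_top d.coprime d.prime_action h
    have h2 : H = ⁅H, R⁆ := ((S1459.result).1 H R d.normal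
      (by rw [d.compl.symm.index_eq_card]; exact d.coprime) d.compl d.le_commutator).1
    have h3 : fittingOf H = H := le_antisymm (OddOrder.fittingOf_le H) (h2.trans_le h1)
    exact h3 ▸ OddOrder.isNilpotent_fittingOf H
  obtain ⟨c, hc, hc1⟩ := (Subgroup.bot_or_exists_ne_one _).resolve_left hne
  have hle : fittingOf H ⊓ centralizer (R : Set X) ≤ H ⊓ centralizer (R : Set X) :=
    inf_le_inf_right _ (OddOrder.fittingOf_le H)
  have he : fittingOf H ⊓ centralizer (R : Set X) = H ⊓ centralizer (R : Set X) := by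
    refine Subgroup.eq_of_le_of_card_ge hle ?_
    rcases (Nat.dvd_prime d.qprime).1 (d.card_fixed ▸ Subgroup.card_dvd_of_le hle) with h | h
    · exact absurd (Subgroup.card_eq_one.1 h) hne
    · rw [h, d.card_fixed]
  exact he ▸ inf_le_left

/-- Fixed points in a quotient. -/
theorem map_fixed {Y : Type*} [Group Y] (f : X →* Y) {S : Subgroup X} (hS : S ≤ H) {x : X} (hx : x ∈ R)
    (hxS : zpowers x ≤ normalizer (S : Set X)) :
    S.map f ⊓ centralizer ({f x} : Set Y) = (S ⊓ centralizer ({x} : Set X)).map f := by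
  have h := Coprime.map_inf_centralizer f (A := zpowers x) (K := S) hxS
    ((d.coprime.symm.coprime_dvd_left (Subgroup.card_dvd_of_le (Subgroup.zpowers_le.2 hx))).coprime_dvd_right
      (Subgroup.card_dvd_of_le hS))
    (Or.inr (by haveI := d.solvable; infer_instance))
  rw [centralizer_zpowers, MonoidHom.map_zpowers] at h
  rw [h, ← centralizer_zpowers (f x)]

/-- Modulo a normal subgroup containing the fixed group, `H` is nilpotent. -/
theorem isNilpotent_map {N : Subgroup X} [N.Normal] (hN : H ⊓ centralizer (R : Set X) ≤ N) :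
    Group.IsNilpotent (H.map (QuotientGroup.mk' N)) := by
  obtain ⟨x, hx, hx1, r, hr, ho⟩ := d.exists_prime_mem
  haveI := Fact.mk hr
  set f := QuotientGroup.mk' N
  have h0 : H.map f ⊓ centralizer ({f x} : Set (X ⧸ N)) = ⊥ := by
    rw [d.map_fixed f le_rfl hx (d.le_normalizer _), d.prime_action x hx hx1, Subgroup.map_eq_bot_iff,
      QuotientGroup.ker_mk']
    exact hN
  rcases (Nat.dvd_prime hr).1 (ho ▸ orderOf_map_dvd f x) with h | h
  · rw [orderOf_eq_one_iff] at h
    have hb : H.map f = ⊥ := by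
      rw [h] at h0
      rw [← h0, eq_comm, inf_eq_left]
      exact fun y _ => Subgroup.mem_centralizer_singleton_iff.2 ((Commute.one_right y).eq)
    rw [hb]
    infer_instance
  · haveI : (H.map f).Normal := d.normal.map f (QuotientGroup.mk'_surjective N)
    exact isNilpotent_of_fixed_eq_bot h (by rw [Subgroup.normalizer_eq_top]; exact Subgroup.mem_top _) h0

theorem dvd_card : q ∣ Nat.card H := d.card_fixed ▸ Subgroup.card_dvd_of_le inf_le_left

theorem fixed_le_pOf : H ⊓ centralizer (R : Set X) ≤ OddOrder.pOf q H := by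
  haveI := Fact.mk d.qprime
  intro c hc
  refine OddOrder.mem_pOf (d.fixed_le_fitting hc) (k := 1) ?_
  rw [pow_one, ← d.card_fixed]
  exact congrArg Subtype.val (pow_card_eq_one' (x := (⟨c, hc⟩ : ↥(H ⊓ centralizer (R : Set X)))))

theorem normal_pOf : (OddOrder.pOf q H).Normal := by
  rw [← Subgroup.normalizer_eq_top_iff, eq_top_iff]
  exact (d.le_normalizer ⊤).trans (OddOrder.normalizer_le_normalizer_pOf H)

/-- The Sylow `q`-subgroup of `H` is normal in `X`, and contains the fixed group. -/
theorem exists_normal_sylow : ∃ T : Subgroup X, T.Normal ∧ T ≤ H ∧ IsPGroup q T ∧ ¬ q ∣ T.relIndex H ∧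
    OddOrder.pOf q H ≤ T := by
  haveI := Fact.mk d.qprime
  haveI := d.normal_pOf
  obtain ⟨S⟩ : Nonempty (Sylow q H) := inferInstance
  set Q₁ := OddOrder.pOf q H
  set f := QuotientGroup.mk' Q₁
  have hQS : Q₁.subgroupOf H ≤ (S : Subgroup H) := by
    rw [show Q₁.subgroupOf H = pCore q H from Subgroup.comap_map_eq_self_of_injective H.subtype_injective _]
    exact PCore.pCore_le_sylow S
  have hSn : (S : Subgroup H).Normal := by
    set φ := f.subgroupMap H
    have hφ : Function.Surjective φ := f.subgroupMap_surjective H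
    haveI := d.isNilpotent_map (N := Q₁) d.fixed_le_pOf
    haveI : (S.mapSurjective hφ : Subgroup (H.map f)).Normal :=
      Sylow.normal_of_normalizerCondition Group.normalizerCondition_of_isNilpotent _
    have e : ((S : Subgroup H).map φ).comap φ = (S : Subgroup H) := by
      refine Subgroup.comap_map_eq_self (le_trans ?_ hQS)
      intro y hy
      exact (QuotientGroup.eq_one_iff (y : X)).1 (congrArg Subtype.val (MonoidHom.mem_ker.1 hy))
    rw [← e]
    exact Subgroup.Normal.comap (inferInstanceAs (S.mapSurjective hφ : Subgroup (H.map f)).Normal) φ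
  haveI := S.characteristic_of_normal hSn
  refine ⟨(S : Subgroup H).map H.subtype, ?_, Subgroup.map_subtype_le _, S.2.map _, ?_, ?_⟩
  · rw [← Subgroup.normalizer_eq_top_iff, eq_top_iff]
    exact (d.le_normalizer ⊤).trans (Components.normalizer_le_normalizer_map_of_characteristic H _)
  · rw [Subgroup.relIndex, show ((S : Subgroup H).map H.subtype).subgroupOf H = (S : Subgroup H) from
      Subgroup.comap_map_eq_self_of_injective H.subtype_injective _]
    exact S.not_dvd_index
  · exact (Subgroup.map_subgroupOf_eq_of_le (OddOrder.pOf_le H)).ge.trans (Subgroup.map_mono hQS)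

end Data

/-- The data together with the normal Sylow `q`-subgroup and an `R`-invariant complement of it. -/
structure Split (H R T D : Subgroup X) (q : ℕ) : Prop where
  data : Data H R q
  normal : T.Normal
  le : T ≤ H
  pgroup : IsPGroup q T
  sylow : ¬ q ∣ T.relIndex H
  core_le : OddOrder.pOf q H ≤ T
  compl : IsComplIn T D H
  invariant : R ≤ normalizer (D : Set X)

theorem Data.exists_split {H R : Subgroup X} {q : ℕ} (d : Data H R q) :
    ∃ T D : Subgroup X, Split H R T D q := by
  haveI := Fact.mk d.qprime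
  haveI := d.solvable
  haveI := d.normal
  obtain ⟨T, hTn, hTH, hTq, hTs, hTc⟩ := d.exists_normal_sylow
  haveI := hTn
  have hqR : ¬ q ∣ Nat.card R := fun h => d.qprime.ne_one (Nat.eq_one_of_dvd_coprimes d.coprime d.dvd_card h)
  have hcop : (Nat.card T).Coprime T.index := by
    obtain ⟨k, hk⟩ := hTq.exists_card_eq
    rw [hk, ← Subgroup.relIndex_mul_index hTH, d.compl.symm.index_eq_card]
    refine Nat.Coprime.pow_left k (d.qprime.coprime_iff_not_dvd.2 fun h => ?_)
    rcases d.qprime.dvd_mul.1 h with h' | h'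
    · exact hTs h'
    · exact hqR h'
  obtain ⟨E₀, hE₀⟩ := Subgroup.exists_right_complement'_of_coprime hcop
  obtain ⟨n, hn, hRE⟩ := Coprime.exists_le_conj_of_le_sup (A := E₀) (N := T) (B := R)
    (by rw [Subgroup.normalizer_eq_top]; exact le_top) (by rw [sup_comm, hE₀.sup_eq_top]; exact le_top)
    (by rw [← hE₀.symm.index_eq_card]; exact hcop.symm)
    ((d.coprime.coprime_dvd_left (Subgroup.card_dvd_of_le hTH)).symm) (Or.inr inferInstance)
  set E := MulAut.conj n • E₀ with hE
  refine ⟨T, E ⊓ H, d, hTn, hTH, hTq, hTs, hTc, ⟨hTH, inf_le_right, ?_, fun m hm => ?_⟩, ?_⟩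
  · refine Coprime.disjoint_of_coprime_card (hcop.coprime_dvd_right ?_)
    rw [hE₀.symm.index_eq_card, ← Coprime.card_conj_smul n E₀]
    exact Subgroup.card_dvd_of_le inf_le_left
  · have hTE : (T ⊔ E : Subgroup X) = ⊤ := by
      rw [← Coprime.conj_smul_eq_self_of_mem (show n ∈ normalizer (T : Set X) by
        rw [Subgroup.normalizer_eq_top]; trivial), hE, ← Subgroup.smul_sup, hE₀.sup_eq_top]
      exact Coprime.conj_smul_eq_self_of_mem (by rw [Subgroup.normalizer_eq_top]; trivial)
    obtain ⟨t, ht, e, he, rfl⟩ := (Coprime.mem_sup_iff_of_le_normalizer' (N := T) (H := E)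
      (by rw [Subgroup.normalizer_eq_top]; exact le_top)).1 (by rw [sup_comm, hTE]; exact Subgroup.mem_top m)
    refine ⟨t, ht, e, ⟨he, ?_⟩, rfl⟩
    have := H.mul_mem (H.inv_mem (hTH ht)) hm
    rwa [inv_mul_cancel_left] at this
  · exact Coprime.le_normalizer_inf_of_le (hRE.trans Subgroup.le_normalizer) (d.le_normalizer R)

namespace Split

variable {H R T D : Subgroup X} {q : ℕ} (s : Split H R T D q)
include s

theorem le_normalizer (S : Subgroup X) : S ≤ normalizer (T : Set X) := by
  haveI := s.normal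
  rw [Subgroup.normalizer_eq_top]
  exact le_top

theorem fixed_le : H ⊓ centralizer (R : Set X) ≤ T := s.data.fixed_le_pOf.trans s.core_le

theorem inf_eq_bot : T ⊓ D = ⊥ := s.compl.2.2.1

theorem le_right : D ≤ H := s.compl.2.1

theorem sup_eq : T ⊔ D = H :=
  le_antisymm (sup_le s.le s.le_right) fun m hm => by
    obtain ⟨t, ht, e, he, rfl⟩ := s.compl.2.2.2 m hm
    exact Subgroup.mul_mem _ (Subgroup.mem_sup_left ht) (Subgroup.mem_sup_right he)

theorem card_coprime : (Nat.card D).Coprime q := by
  refine (s.data.qprime.coprime_iff_not_dvd.2 fun h => s.sylow ?_).symm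
  have e := OddOrder.card_eq_of_isComplIn s.compl
  have e' : Nat.card T * T.relIndex H = Nat.card H := by
    rw [Subgroup.relIndex, ← Coprime.card_subgroupOf s.le, Subgroup.card_mul_index]
  rwa [Nat.eq_of_mul_eq_mul_left Nat.card_pos (e'.trans e.symm)]

theorem coprime_pgroup {W : Subgroup X} (hW : W ≤ T) : (Nat.card D).Coprime (Nat.card W) := by
  haveI := Fact.mk s.data.qprime
  obtain ⟨k, hk⟩ := (s.pgroup.to_le hW).exists_card_eq
  rw [hk]
  exact s.card_coprime.pow_right k

theorem fixed_inf_eq_bot {x : X} (hx : x ∈ R) (hx1 : x ≠ 1) : D ⊓ centralizer ({x} : Set X) = ⊥ := by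
  refine le_bot_iff.1 ?_
  rw [← s.inf_eq_bot]
  refine le_inf ?_ inf_le_left
  exact (inf_le_inf_right _ s.le_right).trans ((s.data.prime_action x hx hx1).le.trans s.fixed_le)

theorem isNilpotent_right : Group.IsNilpotent D := by
  haveI := Fact.mk s.data.qprime
  haveI := s.data.normal_pOf
  haveI := s.data.isNilpotent_map (N := OddOrder.pOf q H) s.data.fixed_le_pOf
  set f := QuotientGroup.mk' (OddOrder.pOf q H)
  refine Subgroup.isNilpotent_of_ker_le_center
    ((f.subgroupMap H).comp (Subgroup.inclusion s.le_right)) fun y hy => ?_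
  have hy' : (y : X) ∈ OddOrder.pOf q H :=
    (QuotientGroup.eq_one_iff (y : X)).1 (congrArg Subtype.val (MonoidHom.mem_ker.1 hy))
  have : (y : X) ∈ (⊥ : Subgroup X) := s.inf_eq_bot ▸ ⟨s.core_le hy', y.2⟩
  rw [show y = 1 from Subtype.ext (Subgroup.mem_bot.1 this)]
  exact one_mem _

/-- An invariant subgroup of `T` missing the fixed group is centralized by `D`. -/
theorem le_centralizer_of_inf_eq_bot {W : Subgroup X} (hW : W ≤ T) (hDW : D ≤ normalizer (W : Set X))
    (hRW : R ≤ normalizer (W : Set X)) (h : W ⊓ centralizer (R : Set X) = ⊥) :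
    D ≤ centralizer (W : Set X) := by
  haveI := Fact.mk s.data.qprime
  obtain ⟨x, hx, hx1, r, hr, ho⟩ := s.data.exists_prime_mem
  haveI := Fact.mk hr
  have hxn : x ∈ normalizer ((W ⊔ D : Subgroup X) : Set X) := by
    refine Coprime.mem_normalizer_of_conj_smul_eq ?_
    rw [Subgroup.smul_sup, Coprime.conj_smul_eq_self_of_mem (hRW hx),
      Coprime.conj_smul_eq_self_of_mem (s.invariant hx)]
  have hfix : (W ⊔ D) ⊓ centralizer ({x} : Set X) = ⊥ := by
    refine le_bot_iff.1 fun y ⟨hy, hyc⟩ => ?_
    obtain ⟨w, hw, e, he, rfl⟩ := (Coprime.mem_sup_iff_of_le_normalizer' hDW).1 (by rw [sup_comm]; exact hy)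
    have h1 : x * w * x⁻¹ * (x * e * x⁻¹) = w * e := by
      rw [show x * w * x⁻¹ * (x * e * x⁻¹) = x * (w * e) * x⁻¹ by group]
      exact mul_inv_eq_iff_eq_mul.2 (Subgroup.mem_centralizer_singleton_iff.1 hyc).symm
    have h2 := Subgroup.mul_injective_of_disjoint (H₁ := W) (H₂ := D)
      (disjoint_iff.2 (le_bot_iff.1 ((inf_le_inf_right D hW).trans s.inf_eq_bot.le)))
      (a₁ := (⟨_, (Subgroup.mem_normalizer_iff.1 (hRW hx) w).1 hw⟩,
        ⟨_, (Subgroup.mem_normalizer_iff.1 (s.invariant hx) e).1 he⟩)) (a₂ := (⟨w, hw⟩, ⟨e, he⟩)) h1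
    have hw0 : w ∈ W ⊓ centralizer (R : Set X) := by
      refine ⟨hw, ((s.data.prime_action x hx hx1).le ⟨s.le (hW hw), ?_⟩).2⟩
      exact Subgroup.mem_centralizer_singleton_iff.2
        (mul_inv_eq_iff_eq_mul.1 (congrArg (fun z => ((z.1 : W) : X)) h2)).symm
    have he0 : e ∈ D ⊓ centralizer ({x} : Set X) := ⟨he, Subgroup.mem_centralizer_singleton_iff.2
        (mul_inv_eq_iff_eq_mul.1 (congrArg (fun z => ((z.2 : D) : X)) h2)).symm⟩
    rw [h, Subgroup.mem_bot] at hw0
    rw [s.fixed_inf_eq_bot hx hx1, Subgroup.mem_bot] at he0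
    rw [Subgroup.mem_bot, hw0, he0, one_mul]
  intro e he
  exact mem_centralizer_of_nilpotent (isNilpotent_of_fixed_eq_bot ho hxn hfix) le_sup_left
    (s.pgroup.to_le hW) (Subgroup.mem_sup_right he)
    (s.card_coprime.coprime_dvd_left (Subgroup.orderOf_dvd_natCard D he))

theorem not_le_centralizer : ¬ D ≤ centralizer (T : Set X) := fun h => by
  haveI := Fact.mk s.data.qprime
  haveI := s.pgroup.isNilpotent
  haveI := s.isNilpotent_right
  refine s.data.not_nilpotent ?_
  have hc : ∀ (t : T) (e : D), Commute (T.subtype t) (D.subtype e) := fun t e =>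
    Subgroup.mem_centralizer_iff.1 (h e.2) t t.2
  have hr := MonoidHom.noncommCoprod_range T.subtype D.subtype hc
  rw [Subgroup.range_subtype, Subgroup.range_subtype, s.sup_eq] at hr
  rw [← hr]
  exact Group.nilpotent_of_surjective _ (MonoidHom.rangeRestrict_surjective _)

/-- Modulo a normal subgroup containing the fixed group, `D` centralizes `T`. -/
theorem eq_sup_centralizer {N : Subgroup X} [N.Normal] (hN : H ⊓ centralizer (R : Set X) ≤ N) (hNT : N ≤ T) :
    T = N ⊔ (T ⊓ centralizer (D : Set X)) := by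
  haveI := Fact.mk s.data.qprime
  haveI := s.data.solvable
  refine le_antisymm ?_ (sup_le hNT inf_le_left)
  set f := QuotientGroup.mk' N
  have hcomm : ⁅T, D⁆ ≤ N := by
    rw [Subgroup.commutator_le]
    intro t ht e he
    have h1 : f e ∈ centralizer (T.map f : Set (X ⧸ N)) :=
      mem_centralizer_of_nilpotent (s.data.isNilpotent_map hN) (Subgroup.map_mono s.le) (s.pgroup.map f)
        (Subgroup.mem_map_of_mem f (s.le_right he))
        (s.card_coprime.coprime_dvd_left ((orderOf_map_dvd f e).trans (Subgroup.orderOf_dvd_natCard D he)))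
    refine (QuotientGroup.eq_one_iff _).1 (?_ : f ⁅t, e⁆ = 1)
    rw [map_commutatorElement, commutatorElement_eq_one_iff_mul_comm]
    exact Subgroup.mem_centralizer_iff.1 h1 _ (Subgroup.mem_map_of_mem f ht)
  exact (Coprime.commutator_sup_centralizer (s.le_normalizer D) (s.coprime_pgroup le_rfl)
    (Or.inr (Coprime.isSolvable_of_le le_top inferInstance))).ge.trans (sup_le_sup_right hcomm _)

theorem frattini_le_centralizer :
    (frattini T).map T.subtype ≤ T ⊓ centralizer (D : Set X) := by
  haveI := Fact.mk s.data.qprime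
  set W := (frattini T).map T.subtype with hW
  have hWT : W ≤ T := Subgroup.map_subtype_le _
  have hWn : ⊤ ≤ normalizer (W : Set X) :=
    (s.le_normalizer ⊤).trans (Components.normalizer_le_normalizer_map_of_characteristic T _)
  haveI : W.Normal := Subgroup.normalizer_eq_top_iff.1 (top_le_iff.1 hWn)
  refine le_inf hWT (Subgroup.le_centralizer_iff.1 (s.le_centralizer_of_inf_eq_bot hWT
    (le_top.trans hWn) (le_top.trans hWn) ?_))
  by_contra hne
  have hle : W ⊓ centralizer (R : Set X) ≤ H ⊓ centralizer (R : Set X) :=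
    inf_le_inf_right _ (hWT.trans s.le)
  have hC : H ⊓ centralizer (R : Set X) ≤ W := by
    have e : W ⊓ centralizer (R : Set X) = H ⊓ centralizer (R : Set X) := by
      refine Subgroup.eq_of_le_of_card_ge hle ?_
      rcases (Nat.dvd_prime s.data.qprime).1 (s.data.card_fixed ▸ Subgroup.card_dvd_of_le hle) with h | h
      · exact absurd (Subgroup.card_eq_one.1 h) hne
      · rw [h, s.data.card_fixed]
    exact e ▸ inf_le_left
  have h1 := congrArg (fun S => Subgroup.subgroupOf S T) (s.eq_sup_centralizer hC hWT)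
  simp only [Subgroup.subgroupOf_self, Subgroup.subgroupOf_sup hWT inf_le_left,
    show W.subgroupOf T = frattini T from Subgroup.comap_map_eq_self_of_injective T.subtype_injective _] at h1
  have h2 := frattini_nongenerating (show (T ⊓ centralizer (D : Set X)).subgroupOf T ⊔ frattini T = ⊤ by
    rw [sup_comm]; exact h1.symm)
  refine s.not_le_centralizer (Subgroup.le_centralizer_iff.1 fun t ht => ?_)
  exact ((h2.ge (Subgroup.mem_top (⟨t, ht⟩ : T)) : t ∈ T ⊓ centralizer (D : Set X))).2

theorem normal_inf_centralizer : (T ⊓ centralizer (D : Set X)).Normal := by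
  haveI := Fact.mk s.data.qprime
  rw [← Subgroup.normalizer_eq_top_iff, eq_top_iff, ← s.data.compl.sup_eq_top, ← s.sup_eq]
  set Q₀ := T ⊓ centralizer (D : Set X)
  refine sup_le (sup_le ?_ fun e he => ?_) ?_
  · rw [← Subgroup.normal_subgroupOf_iff_le_normalizer (inf_le_left : Q₀ ≤ T)]
    refine PGroup.normal_of_frattini_le s.pgroup ?_
    exact fun y hy => s.frattini_le_centralizer ⟨y, hy, rfl⟩
  · refine Subgroup.mem_normalizer_iff.2 fun y => ?_
    constructor
    · intro hy
      rwa [Subgroup.mem_centralizer_iff.1 hy.2 e he, mul_inv_cancel_right]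
    · intro hy
      have h2 := Subgroup.mem_centralizer_iff.1 hy.2 e he
      have h3 : y = e * y * e⁻¹ := by
        have h4 : e * (e * y * e⁻¹) = e * y := by rw [h2]; group
        exact (mul_left_cancel h4).symm
      rwa [h3]
  · exact Coprime.le_normalizer_inf_of_le (s.le_normalizer R) (Coprime.le_normalizer_centralizer s.invariant)

theorem fixed_inf_centralizer :
    (H ⊓ centralizer (R : Set X)) ⊓ (T ⊓ centralizer (D : Set X)) = ⊥ := by
  by_contra hne
  have hle : H ⊓ centralizer (R : Set X) ≤ T ⊓ centralizer (D : Set X) := by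
    rcases (Nat.dvd_prime s.data.qprime).1 (s.data.card_fixed ▸ Subgroup.card_dvd_of_le
        (inf_le_left : (H ⊓ centralizer (R : Set X)) ⊓ (T ⊓ centralizer (D : Set X)) ≤ _)) with h | h
    · exact absurd (Subgroup.card_eq_one.1 h) hne
    · exact inf_eq_left.1 (Subgroup.eq_of_le_of_card_ge inf_le_left (by rw [h, s.data.card_fixed]))
  haveI := s.normal_inf_centralizer
  have h := s.eq_sup_centralizer hle inf_le_left
  rw [sup_idem] at h
  exact s.not_le_centralizer (Subgroup.le_centralizer_iff.1 (h.le.trans inf_le_right))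

theorem inf_centralizer_lt : T ⊓ centralizer (D : Set X) < T :=
  lt_of_le_of_ne inf_le_left fun e => s.not_le_centralizer (Subgroup.le_centralizer_iff.1 (inf_eq_left.1 e))

theorem powers_and_commutators {a b : X} (ha : a ∈ T) (hb : b ∈ T) :
    a ^ q ∈ T ⊓ centralizer (D : Set X) ∧ a * b * a⁻¹ * b⁻¹ ∈ T ⊓ centralizer (D : Set X) := by
  haveI := Fact.mk s.data.qprime
  refine ⟨s.frattini_le_centralizer ⟨_, PGroup.pow_mem_frattini s.pgroup ⟨a, ha⟩, rfl⟩,
    s.frattini_le_centralizer ⟨_, PGroup.commutator_le_frattini s.pgroup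
      (Subgroup.commutator_mem_commutator (Subgroup.mem_top (⟨a, ha⟩ : T)) (Subgroup.mem_top (⟨b, hb⟩ : T))),
      rfl⟩⟩

theorem minimal {N : Subgroup X} [N.Normal] (h1 : T ⊓ centralizer (D : Set X) < N) (h2 : N < T) : False := by
  by_cases hC : H ⊓ centralizer (R : Set X) ≤ N
  · have h := s.eq_sup_centralizer hC h2.le
    rw [sup_eq_left.2 h1.le] at h
    exact h2.ne h.symm
  · have hle : N ⊓ centralizer (R : Set X) ≤ H ⊓ centralizer (R : Set X) :=
      inf_le_inf_right _ (h2.le.trans s.le)
    refine h1.not_ge (le_inf h2.le (Subgroup.le_centralizer_iff.1 (s.le_centralizer_of_inf_eq_bot h2.le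
      (by rw [Subgroup.normalizer_eq_top]; exact le_top) (by rw [Subgroup.normalizer_eq_top]; exact le_top) ?_)))
    rcases (Nat.dvd_prime s.data.qprime).1 (s.data.card_fixed ▸ Subgroup.card_dvd_of_le hle) with h | h
    · exact Subgroup.card_eq_one.1 h
    · exact absurd ((Subgroup.eq_of_le_of_card_ge hle (by rw [h, s.data.card_fixed])).ge.trans inf_le_left) hC

/-- `|R|` is prime, `|T : C_T(D)| = q ^ |R|` and `D'` centralizes `T`. -/
theorem prime_and_card : (Nat.card R).Prime ∧
    Nat.card T = Nat.card ↥(T ⊓ centralizer (D : Set X)) * q ^ Nat.card R ∧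
    ⁅D, D⁆ ≤ centralizer (T : Set X) := by
  haveI := Fact.mk s.data.qprime
  haveI := s.data.solvable
  haveI := s.normal_inf_centralizer
  haveI := s.normal
  set Q₀ := T ⊓ centralizer (D : Set X) with hQ₀
  set f := QuotientGroup.mk' Q₀ with hf
  have hQT : Q₀ ≤ T := inf_le_left
  have hqR : (Nat.card R).Coprime q :=
    (s.data.coprime.coprime_dvd_left s.data.dvd_card).symm
  have hinj : ∀ {S : Subgroup X}, S ⊓ Q₀ = ⊥ → Nat.card (S.map f) = Nat.card S := fun {S} hS => by
    have h := Solvable.card_sup_normal Q₀ S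
    rw [Coprime.card_sup_of_le_normalizer (by rw [Subgroup.normalizer_eq_top]; exact le_top) hS,
      mul_comm] at h
    exact (Nat.eq_of_mul_eq_mul_left Nat.card_pos h).symm
  have hDQ : D ⊓ Q₀ = ⊥ :=
    Coprime.disjoint_of_coprime_card (s.coprime_pgroup hQT)
  have hRQ : R ⊓ Q₀ = ⊥ := Coprime.disjoint_of_coprime_card (by
    obtain ⟨k, hk⟩ := (s.pgroup.to_le hQT).exists_card_eq
    rw [hk]; exact hqR.pow_right k)
  have hDR : (Nat.card D).Coprime (Nat.card R) :=
    s.data.coprime.coprime_dvd_left (Subgroup.card_dvd_of_le s.le_right)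
  have hD1 : D ≠ ⊥ := fun e => s.not_le_centralizer (e ▸ bot_le)
  have hfix : ∀ x ∈ R, x ≠ 1 → T.map f ⊓ centralizer ({f x} : Set (X ⧸ Q₀)) =
      (H ⊓ centralizer (R : Set X)).map f := fun x hx hx1 => by
    rw [s.data.map_fixed f s.le hx (s.le_normalizer _)]
    congr 1
    rw [← s.data.prime_action x hx hx1]
    refine le_antisymm (inf_le_inf_right _ s.le) (le_inf ?_ inf_le_right)
    exact (s.data.prime_action x hx hx1).le.trans s.fixed_le
  have hCR : T.map f ⊓ centralizer (R.map f : Set (X ⧸ Q₀)) = (H ⊓ centralizer (R : Set X)).map f := by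
    rw [← Coprime.map_inf_centralizer f (s.le_normalizer R)
      (s.data.coprime.symm.coprime_dvd_right (Subgroup.card_dvd_of_le s.le))
      (Or.inr (Coprime.isSolvable_of_le le_top inferInstance))]
    congr 1
    exact le_antisymm (inf_le_inf_right _ s.le) (le_inf s.fixed_le inf_le_right)
  have key := S1446.result (D.map f) (R.map f) (T.map f)
    (fun e => hD1 (Subgroup.card_eq_one.1 (by rw [← hinj hDQ, e, Subgroup.card_bot])))
    (fun e => s.data.ne_bot (Subgroup.card_eq_one.1 (by rw [← hinj hRQ, e, Subgroup.card_bot])))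
    (Coprime.disjoint_of_coprime_card (by rw [hinj hDQ, hinj hRQ]; exact hDR))
    ((Subgroup.map_mono s.invariant).trans (Subgroup.le_normalizer_map f))
    (by
      rintro _ ⟨x, hx, rfl⟩ hfx
      have hx1 : x ≠ 1 := fun e => hfx (by rw [e, map_one])
      rw [s.data.map_fixed f s.le_right hx ((Subgroup.zpowers_le.2 hx).trans s.invariant),
        s.fixed_inf_eq_bot hx hx1, Subgroup.map_bot])
    (Coprime.isSolvable_of_le le_top inferInstance)
    ((s.data.odd.of_dvd_nat Q₀.card_quotient_dvd_card).of_dvd_nat (Subgroup.card_subgroup_dvd_card _))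
    (fun e => s.inf_centralizer_lt.not_ge (by
      rwa [Subgroup.map_eq_bot_iff, QuotientGroup.ker_mk'] at e))
    (s.pgroup.map f).isNilpotent
    ((Subgroup.map_mono (s.le_normalizer D)).trans (Subgroup.le_normalizer_map f))
    ((Subgroup.map_mono (s.le_normalizer R)).trans (Subgroup.le_normalizer_map f))
    (by
      rw [← Subgroup.map_sup]
      refine Nat.Coprime.coprime_dvd_left (Subgroup.card_map_dvd _ f)
        (Nat.Coprime.coprime_dvd_right (Subgroup.card_map_dvd _ f) ?_)
      rw [sup_comm, Coprime.card_sup_of_le_normalizer s.invariant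
        (Coprime.disjoint_of_coprime_card hDR.symm)]
      exact Nat.Coprime.mul_left
        (s.data.coprime.symm.coprime_dvd_right (Subgroup.card_dvd_of_le s.le)) (s.coprime_pgroup le_rfl))
    (by
      rw [← Coprime.map_inf_centralizer f (s.le_normalizer D) (s.coprime_pgroup le_rfl)
        (Or.inr (Coprime.isSolvable_of_le le_top inferInstance)), Subgroup.map_eq_bot_iff,
        QuotientGroup.ker_mk'])
    (by
      rintro _ ⟨x, hx, rfl⟩ hfx
      rw [hCR, hfix x hx (fun e => hfx (by rw [e, map_one]))])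
  obtain ⟨hp, hcard, hder⟩ := key
  rw [hinj hRQ] at hp hcard
  rw [hCR, hinj s.fixed_inf_centralizer, s.data.card_fixed] at hcard
  refine ⟨hp, ?_, ?_⟩
  · rw [← hcard]
    have h := Solvable.card_sup_normal Q₀ T
    rwa [sup_eq_left.2 hQT] at h
  · have hcyc : IsCyclic ↥(T.map f ⊓ centralizer (R.map f : Set (X ⧸ Q₀))) := by
      rw [hCR]
      exact isCyclic_of_prime_card (p := q) (by rw [hinj s.fixed_inf_centralizer, s.data.card_fixed])
    have h1 := hder hcyc
    rw [← Subgroup.map_commutator] at h1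
    have hD' : ⁅D, D⁆ ≤ D := Subgroup.commutator_le_self D
    refine Coprime.le_centralizer_of_series (N := Q₀) (hD'.trans (s.le_normalizer D))
      ((s.coprime_pgroup le_rfl).coprime_dvd_left (Subgroup.card_dvd_of_le hD'))
      (Or.inr (Coprime.isSolvable_of_le le_top inferInstance)) (Subgroup.commutator_le.2 fun t ht e he => ?_)
      (hD'.trans (Subgroup.le_centralizer_iff.1 inf_le_right))
    refine (QuotientGroup.eq_one_iff _).1 (?_ : f ⁅t, e⁆ = 1)
    rw [map_commutatorElement, commutatorElement_eq_one_iff_mul_comm]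
    exact Subgroup.mem_centralizer_iff.1 (h1 (Subgroup.mem_map_of_mem f he)) _ (Subgroup.mem_map_of_mem f ht)

/-- Every complement of `T` in `H` is nilpotent and has the same centralizer in `T`. -/
theorem of_compl {D' : Subgroup X} (hD' : IsComplIn T D' H) :
    Group.IsNilpotent D' ∧ T ⊓ centralizer (D' : Set X) = T ⊓ centralizer (D : Set X) ∧
      ⁅D', D'⁆ ≤ centralizer (T : Set X) := by
  haveI := Fact.mk s.data.qprime
  haveI := s.data.solvable
  have hcard : Nat.card D' = Nat.card D := Nat.eq_of_mul_eq_mul_left Nat.card_pos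
    ((OddOrder.card_eq_of_isComplIn hD').trans (OddOrder.card_eq_of_isComplIn s.compl).symm)
  obtain ⟨t, -, ht⟩ := Coprime.exists_conj_eq_of_le_sup (N := T) (H := D) (K := D') (s.le_normalizer D)
    (hD'.2.1.trans (by rw [sup_comm, s.sup_eq])) hcard (s.coprime_pgroup le_rfl)
    (Or.inl (Coprime.isSolvable_of_le le_top inferInstance))
  refine ⟨?_, ?_, ?_⟩
  · haveI := s.isNilpotent_right
    rw [← ht]
    exact Group.nilpotent_of_mulEquiv (Subgroup.equivSMul (MulAut.conj t) D)
  · haveI := s.normal_inf_centralizer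
    rw [← Coprime.conj_smul_eq_self_of_mem (g := t) (H := T ⊓ centralizer (D : Set X))
      (by rw [Subgroup.normalizer_eq_top]; trivial)]
    rw [Subgroup.smul_inf, Coprime.conj_smul_eq_self_of_mem (g := t) (H := T)
      (s.le_normalizer ⊤ trivial), ← ht]
    congr 1
    ext y
    rw [Coprime.mem_conj_smul_iff, Subgroup.mem_centralizer_iff, Subgroup.mem_centralizer_iff]
    constructor
    · intro h e he
      have h1 := h (t * e * t⁻¹) (by
        rw [SetLike.mem_coe, Coprime.mem_conj_smul_iff]
        simpa [mul_assoc] using he)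
      calc e * (t⁻¹ * y * t) = t⁻¹ * (t * e * t⁻¹ * y) * t := by group
        _ = t⁻¹ * (y * (t * e * t⁻¹)) * t := by rw [h1]
        _ = t⁻¹ * y * t * e := by group
    · intro h z hz
      rw [SetLike.mem_coe, Coprime.mem_conj_smul_iff] at hz
      have h1 := h _ hz
      calc z * y = t * ((t⁻¹ * z * t) * (t⁻¹ * y * t)) * t⁻¹ := by group
        _ = t * ((t⁻¹ * y * t) * (t⁻¹ * z * t)) * t⁻¹ := by rw [h1]
        _ = y * z := by group
  · rw [← ht]
    intro z hz
    refine Subgroup.mem_centralizer_iff.2 fun y hy => ?_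
    have hz' : z ∈ MulAut.conj t • ⁅D, D⁆ := by
      change z ∈ Subgroup.map (MulAut.conj t).toMonoidHom ⁅D, D⁆
      rw [Subgroup.map_commutator]
      exact hz
    rw [Coprime.mem_conj_smul_iff] at hz'
    have hy' : t⁻¹ * y * t ∈ T := by simpa using s.normal.conj_mem y hy t⁻¹
    have h1 := Subgroup.mem_centralizer_iff.1 (s.prime_and_card.2.2 hz') _ hy'
    calc y * z = t * ((t⁻¹ * y * t) * (t⁻¹ * z * t)) * t⁻¹ := by group
      _ = t * ((t⁻¹ * z * t) * (t⁻¹ * y * t)) * t⁻¹ := by rw [h1]
      _ = z * y := by group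

end Split

/-- The conclusions, for every complement `D` of the normal Sylow `q`-subgroup `T` of `H`. -/
theorem structure_of_data {H R : Subgroup X} {q : ℕ} (d : Data H R q) :
    (Nat.card R).Prime ∧ ∃ T : Subgroup X, T.Normal ∧ T ≤ H ∧ IsPGroup q T ∧ ¬ q ∣ T.relIndex H ∧
      H ⊓ centralizer (R : Set X) ≤ T ∧
      ∀ D : Subgroup X, IsComplIn T D H →
        Group.IsNilpotent D ∧ (T ⊓ centralizer (D : Set X)).Normal ∧ T ⊓ centralizer (D : Set X) < T ∧
        (H ⊓ centralizer (R : Set X)) ⊓ (T ⊓ centralizer (D : Set X)) = ⊥ ∧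
        Nat.card T = Nat.card ↥(T ⊓ centralizer (D : Set X)) * q ^ Nat.card R ∧
        (∀ a ∈ T, ∀ b ∈ T, a ^ q ∈ T ⊓ centralizer (D : Set X) ∧
          a * b * a⁻¹ * b⁻¹ ∈ T ⊓ centralizer (D : Set X)) ∧
        ⁅D, D⁆ ≤ centralizer (T : Set X) ∧
        ∀ N : Subgroup X, T ⊓ centralizer (D : Set X) < N → N < T → ¬ N.Normal := by
  obtain ⟨T, D₀, s⟩ := d.exists_split
  refine ⟨s.prime_and_card.1, T, s.normal, s.le, s.pgroup, s.sylow, s.fixed_le, fun D hD => ?_⟩
  obtain ⟨h1, h2, h2'⟩ := s.of_compl hD
  rw [h2]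
  exact ⟨h1, s.normal_inf_centralizer, s.inf_centralizer_lt, s.fixed_inf_centralizer, s.prime_and_card.2.1,
    fun a ha b hb => s.powers_and_commutators ha hb, h2', fun N h3 h4 hn => @Split.minimal X _ _ H R T D₀ q s N hn h3 h4⟩

end Cfsg.Agent.Semiprime
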