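import Cfsg.Agent.Lib.Coprime.Generation
import Cfsg.Agent.Lib.PCore.Basic
import Cfsg.Agent.Lib.PGroup.UniqueOrderP
import Cfsg.Prelude.Def_OddOrderLocal

/-!
# TI-subgroups that are Hall in their normaliser, `π`-separable case

`H` a non-normal TI-subgroup, Hall in `N_G(H)`, with `G` separable for the primes of `H`;
`O` the largest normal subgroup of order prime to `|H|`.
* `coprime_index`: `H` is a Hall subgroup of `G`;
* `sup_normalizer_eq_top`, `normal_sup`: `G = O N_G(H)` and `O H ⊴ G`;
* `isCyclic_of_comm`: the abelian subgroups of `H` are cyclic;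
* `sylow_cyclic_or_quaternion`.
-/

set_option autoImplicit false

namespace Cfsg.Agent.TIHall

open Subgroup
open scoped Pointwise

variable {G : Type*} [Group G] {H : Subgroup G}

/-- A nontrivial subgroup of a TI-subgroup has its normaliser inside the normaliser of it. -/
theorem normalizer_le (hTI : Cfsg.IsTISubset (H : Set G)) {U : Subgroup G} (hU : U ≤ H)
    (hne : U ≠ ⊥) : normalizer (U : Set G) ≤ normalizer (H : Set G) := by
  intro g hg
  by_contra h
  refine hne ((eq_bot_iff_forall U).2 fun u hu => ?_)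
  exact hTI g h u (hU hu) (hU ((mem_normalizer_iff.1 hg u).1 hu))

theorem mem_normalizer_of_commute (hTI : Cfsg.IsTISubset (H : Set G)) {x g : G} (hx : x ∈ H)
    (hx1 : x ≠ 1) (h : g * x = x * g) : g ∈ normalizer (H : Set G) := by
  by_contra hg
  refine hx1 (hTI g hg x hx ?_)
  rw [h, mul_inv_cancel_right]
  exact hx

variable [Finite G]

theorem ne_bot (hnn : ¬ H.Normal) : H ≠ ⊥ := fun h => hnn (h ▸ inferInstance)

/-- `H` is a Hall subgroup of `G`. -/
theorem coprime_index (hTI : Cfsg.IsTISubset (H : Set G))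
    (hHall : (Nat.card H).Coprime (H.subgroupOf (normalizer (H : Set G))).index) :
    (Nat.card H).Coprime H.index := by
  rw [Nat.coprime_iff_gcd_eq_one]
  by_contra hne
  obtain ⟨p, hp, hpd⟩ := Nat.exists_prime_and_dvd hne
  have : Fact p.Prime := ⟨hp⟩
  have hpH : p ∣ Nat.card H := hpd.trans (Nat.gcd_dvd_left _ _)
  obtain ⟨P⟩ : Nonempty (Sylow p H) := inferInstance
  set P' := (P : Subgroup H).map H.subtype with hP'
  have hP'ne : P' ≠ ⊥ := by
    intro h
    rw [hP', map_eq_bot_iff_of_injective _ H.subtype_injective] at h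
    exact P.ne_bot_of_dvd_card hpH h
  obtain ⟨S, hPS⟩ := (P.2.map H.subtype : IsPGroup p P').exists_le_sylow
  have hne' : P' ≠ S := by
    intro h
    refine S.not_dvd_index ?_
    rw [← h, hP', index_map_subtype]
    exact (hpd.trans (Nat.gcd_dvd_right _ _)).mul_left _
  have hlt : P'.subgroupOf (S : Subgroup G) < ⊤ := by
    rw [lt_top_iff_ne_top, Ne, subgroupOf_eq_top]
    exact fun hle => hne' (le_antisymm hPS hle)
  have := S.2.isNilpotent
  have hnc : P'.subgroupOf (S : Subgroup G) < normalizer ((P'.subgroupOf (S : Subgroup G)) : Set S) :=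
    Group.normalizerCondition_of_isNilpotent _ hlt
  obtain ⟨g, hg, hgP⟩ := SetLike.exists_of_lt hnc
  have hgN : (g : G) ∈ normalizer (P' : Set G) := by
    rw [mem_normalizer_iff]
    intro x
    constructor
    · intro hx
      exact (mem_normalizer_iff.1 hg ⟨x, hPS hx⟩).1 hx
    · intro hx
      have hxS : x ∈ (S : Subgroup G) := by
        have := mul_mem (mul_mem (inv_mem g.2) (hPS hx)) g.2
        simpa [mul_assoc] using this
      exact (mem_normalizer_iff.1 hg ⟨x, hxS⟩).2 hx
  have hgH : (g : G) ∈ normalizer (H : Set G) := normalizer_le hTI (map_subtype_le _) hP'ne hgN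
  -- `P'⟨g⟩` is a `p`-subgroup of `N(H)`, so lies in `H`
  set U : Subgroup G := P' ⊔ zpowers (g : G) with hU
  have hUS : U ≤ (S : Subgroup G) := sup_le hPS (zpowers_le.2 g.2)
  have hUp : IsPGroup p U := S.2.to_le hUS
  have hUN : U ≤ normalizer (H : Set G) :=
    sup_le ((map_subtype_le _).trans le_normalizer) (zpowers_le.2 hgH)
  have hUH : U ≤ H := by
    have h1 : H.relIndex U ∣ H.relIndex (normalizer (H : Set G)) := by
      have := Coprime.normal_subgroupOf_of_le_normalizer (H := H) (P := normalizer (H : Set G)) le_rfl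
      rw [← relIndex_subgroupOf hUN (H := H)]
      exact relIndex_dvd_index_of_normal _ _
    rw [← relIndex_eq_one]
    obtain ⟨k, hk⟩ := IsPGroup.iff_card.1 hUp
    refine Nat.eq_one_of_dvd_coprimes ?_ (hk ▸ H.relIndex_dvd_card U) h1
    exact Nat.Coprime.pow_left k
      (hp.coprime_iff_not_dvd.2 fun hd => hp.one_lt.ne' (Nat.eq_one_of_dvd_coprimes hHall hpH hd))
  have hUP : U.subgroupOf H = (P : Subgroup H) :=
    P.3 (hUp.comap_of_injective H.subtype (subtype_injective H)) fun x hx =>
      (le_sup_left : P' ≤ U) (mem_map_of_mem H.subtype hx)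
  refine hgP ?_
  have hgU : (⟨g, hUH (mem_sup_right (mem_zpowers _))⟩ : H) ∈ U.subgroupOf H :=
    (mem_sup_right (mem_zpowers (g : G)) : (g : G) ∈ U)
  rw [hUP] at hgU
  exact mem_map_of_mem H.subtype hgU

/-- `[W : W ∩ H]` divides `[G : H]` for normal `W`. -/
theorem relIndex_dvd_index (H W : Subgroup G) [W.Normal] : H.relIndex W ∣ H.index := by
  refine ⟨(W ⊔ H).index, ?_⟩
  have e1 := relIndex_mul_index (inf_le_left : W ⊓ H ≤ W)
  have e2 := relIndex_mul_index (inf_le_right : W ⊓ H ≤ H)
  have e3 := relIndex_mul_index (le_sup_left : W ≤ W ⊔ H)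
  rw [inf_relIndex_left] at e1
  rw [inf_relIndex_right] at e2
  rw [relIndex_sup_left] at e3
  rw [← e3] at e1
  have hpos : W.relIndex H ≠ 0 := fun h => by
    have := W.relIndex_dvd_card H
    rw [h, zero_dvd_iff] at this
    exact Nat.card_pos.ne' this
  refine Nat.eq_of_mul_eq_mul_left (Nat.pos_of_ne_zero hpos) ?_
  rw [e2, ← e1]
  ring

variable {O : Subgroup G} [O.Normal]

/-- `G = O N_G(H)`. -/
theorem sup_normalizer_eq_top (hTI : Cfsg.IsTISubset (H : Set G)) (hnn : ¬ H.Normal)
    (hHall : (Nat.card H).Coprime (H.subgroupOf (normalizer (H : Set G))).index)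
    (hsep : ∃ (n : ℕ) (M : Fin (n + 1) → Subgroup G), M 0 = ⊥ ∧ M (Fin.last n) = ⊤ ∧ Monotone M ∧
      (∀ i, (M i).Normal) ∧
      ∀ i : Fin n, (∀ q : ℕ, q.Prime → q ∣ (M i.castSucc).relIndex (M i.succ) → q ∣ Nat.card H) ∨
        ((M i.castSucc).relIndex (M i.succ)).Coprime (Nat.card H))
    (hO : (Nat.card O).Coprime (Nat.card H))
    (hOmax : ∀ K : Subgroup G, K.Normal → (Nat.card K).Coprime (Nat.card H) → K ≤ O) :
    O ⊔ normalizer (H : Set G) = ⊤ := by
  obtain ⟨n, M, hM0, hMn, hmono, hMnorm, hfac⟩ := hsep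
  have hHall' := coprime_index hTI hHall
  obtain ⟨i, hi1, hi2⟩ : ∃ i : Fin n, M i.castSucc ≤ O ∧ ¬ M i.succ ≤ O := by
    by_contra h
    push Not at h
    have : ∀ j : Fin (n + 1), M j ≤ O := by
      intro j
      induction j using Fin.induction with
      | zero => rw [hM0]; exact bot_le
      | succ j ih => exact h j ih
    have htop : O = ⊤ := top_unique (hMn ▸ this _)
    have h1 : Nat.card H = 1 := by
      refine Nat.eq_one_of_dvd_coprimes hO ?_ dvd_rfl
      exact card_dvd_of_le (htop ▸ le_top)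
    exact ne_bot hnn (card_eq_one.1 h1)
  have := hMnorm i.succ
  set W := O ⊔ M i.succ with hW
  have hWn : W.Normal := inferInstance
  have hrel : O.relIndex W ∣ (M i.castSucc).relIndex (M i.succ) := by
    rw [hW, relIndex_sup_left]
    exact relIndex_dvd_of_le_left _ hi1
  have hpi : ∀ q : ℕ, q.Prime → q ∣ O.relIndex W → q ∣ Nat.card H := by
    refine fun q hq hd => ?_
    rcases hfac i with h | h
    · exact h q hq (hd.trans hrel)
    · exfalso
      refine hi2 (le_sup_right.trans (hOmax W hWn ?_))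
      have hcard : Nat.card W = Nat.card O * O.relIndex W := by
        have := relIndex_mul_relIndex ⊥ O W bot_le le_sup_left
        rw [relIndex_bot_left, relIndex_bot_left] at this
        exact this.symm
      rw [hcard]
      exact Nat.Coprime.mul_left hO (h.coprime_dvd_left hrel)
  obtain ⟨p, hp, hpW⟩ := Nat.exists_prime_and_dvd (n := O.relIndex W) fun h =>
    hi2 (le_sup_right.trans (relIndex_eq_one.1 h))
  have : Fact p.Prime := ⟨hp⟩
  have hpH := hpi p hp hpW
  obtain ⟨P⟩ : Nonempty (Sylow p H) := inferInstance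
  set P' := (P : Subgroup H).map H.subtype with hP'
  have hP'p : IsPGroup p P' := P.2.map _
  have hidx : ¬ p ∣ P'.index := by
    rw [hP', index_map_subtype]
    exact hp.not_dvd_mul P.not_dvd_index fun hd =>
      hp.one_lt.ne' (Nat.eq_one_of_dvd_coprimes hHall' hpH hd)
  let S : Sylow p G := hP'p.toSylow hidx
  -- `S ∩ W` is a Sylow subgroup of `W`
  obtain ⟨T⟩ : Nonempty (Sylow p W) := inferInstance
  obtain ⟨S', hS'⟩ := (T.2.map W.subtype).exists_le_sylow
  obtain ⟨g, hg⟩ := MulAction.exists_smul_eq G S' S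
  set T' := (T : Subgroup W).map W.subtype with hT'
  set U := MulAut.conj g • T' with hU
  have hUS : U ≤ P' := by
    have h1 : U ≤ MulAut.conj g • (S' : Subgroup G) := pointwise_smul_le_pointwise_smul_iff.2 hS'
    have h2 : MulAut.conj g • (S' : Subgroup G) = P' := by
      have := congrArg (fun s : Sylow p G => (s : Subgroup G)) hg
      exact this
    rwa [h2] at h1
  have hUW : U ≤ W := by
    intro x hx
    rw [hU, Coprime.mem_conj_smul_iff] at hx
    have := hWn.conj_mem _ ((map_subtype_le _ : T' ≤ W) hx) g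
    simpa [mul_assoc] using this
  have hUne : U ≠ ⊥ := by
    intro h
    have h1 : Nat.card U = 1 := by rw [h, card_bot]
    rw [hU, Coprime.card_conj_smul, hT', card_subtype] at h1
    refine T.ne_bot_of_dvd_card ?_ (card_eq_one.1 h1)
    exact hpW.trans (relIndex_dvd_card O W)
  have hUp : IsPGroup p U := hP'p.to_le hUS
  have hUidx : ¬ p ∣ (U.subgroupOf W).index := by
    intro hd
    refine T.not_dvd_index ?_
    have e1 := (U.subgroupOf W).card_mul_index
    have e2 := (T : Subgroup W).card_mul_index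
    rw [Coprime.card_subgroupOf hUW, hU, Coprime.card_conj_smul, hT', card_subtype, ← e2] at e1
    rwa [← Nat.eq_of_mul_eq_mul_left Nat.card_pos e1]
  let U₀ : Sylow p W := (hUp.comap_of_injective W.subtype (subtype_injective W)).toSylow hUidx
  have hU₀ : (U₀ : Subgroup W).map W.subtype = U := map_subgroupOf_eq_of_le hUW
  have hfr := Sylow.normalizer_sup_eq_top U₀
  rw [hU₀] at hfr
  -- `W ≤ O H`
  have hUH : U ≤ H := hUS.trans (map_subtype_le _)
  have hNU := normalizer_le hTI hUH hUne
  have hWle : W ≤ O ⊔ normalizer (H : Set G) := by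
    refine le_trans ?_ (sup_le_sup_left (le_normalizer : H ≤ _) O)
    rw [← relIndex_eq_one]
    have h1 : (O ⊔ H).relIndex W ∣ O.relIndex W := relIndex_dvd_of_le_left _ le_sup_left
    refine Nat.eq_one_of_dvd_coprimes (Nat.Coprime.symm ?_) dvd_rfl h1
    refine Nat.coprime_of_dvd fun q hq hq1 hq2 => ?_
    have hqH := hpi q hq hq1
    refine hq.one_lt.ne' (Nat.eq_one_of_dvd_coprimes hHall' hqH ?_)
    exact hq2.trans ((relIndex_dvd_of_le_left _ le_sup_right).trans (relIndex_dvd_index H W))
  refine top_unique (hfr.ge.trans (sup_le (hNU.trans le_sup_right) hWle))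

omit [O.Normal] in
/-- `O_{π'}(G)` exists. -/
theorem exists_coprimeCore (H : Subgroup G) :
    (sSup {K : Subgroup G | K.Normal ∧ (Nat.card K).Coprime (Nat.card H)}).Normal ∧
      (Nat.card (sSup {K : Subgroup G | K.Normal ∧ (Nat.card K).Coprime (Nat.card H)} : Subgroup G)).Coprime
        (Nat.card H) :=
  ⟨Subgroup.sSup_normal _ fun _ h => h.1,
    PCore.sSup_normal_induction (P := fun K => (Nat.card K).Coprime (Nat.card H))
      (by rw [card_bot]; exact Nat.coprime_one_left _)
      (fun A B hA _ h1 h2 => by have := hA; exact PCore.coprime_card_sup A B h1 h2)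
      (fun _ h => h.1) (fun _ h => h.2)⟩

theorem inf_normalizer_le_centralizer (hO : (Nat.card O).Coprime (Nat.card H)) :
    O ⊓ normalizer (H : Set G) ≤ centralizer (H : Set G) := by
  have hd : O ⊓ H = ⊥ := Coprime.disjoint_of_coprime_card hO
  intro c hc
  rw [mem_centralizer_iff]
  intro h hh
  have h1 : c * h * c⁻¹ * h⁻¹ ∈ O ⊓ H := by
    refine mem_inf.2 ⟨?_, H.mul_mem ((mem_normalizer_iff.1 (mem_inf.1 hc).2 h).1 hh) (H.inv_mem hh)⟩
    have := mul_mem (mem_inf.1 hc).1 (‹O.Normal›.conj_mem _ (inv_mem (mem_inf.1 hc).1) h)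
    simpa [mul_assoc] using this
  rw [hd, mem_bot, mul_inv_eq_one, mul_inv_eq_iff_eq_mul] at h1
  exact h1.symm

/-- `O H` is normal. -/
theorem normal_sup (htop : O ⊔ normalizer (H : Set G) = ⊤) : (O ⊔ H).Normal := by
  rw [← normalizer_eq_top_iff, eq_top_iff, ← htop]
  refine sup_le (le_sup_left.trans le_normalizer) fun g hg => ?_
  refine Coprime.mem_normalizer_of_conj_smul_eq ?_
  rw [smul_sup, Coprime.conj_smul_eq_self_of_mem (H := H) hg,
    Coprime.conj_smul_eq_self_of_mem (H := O) (by rw [normalizer_eq_top]; trivial)]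

/-- The abelian subgroups of `H` are cyclic. -/
theorem isCyclic_of_comm (hTI : Cfsg.IsTISubset (H : Set G)) (hnn : ¬ H.Normal)
    (hO : (Nat.card O).Coprime (Nat.card H))
    (htop : O ⊔ normalizer (H : Set G) = ⊤) {A : Subgroup G} [IsMulCommutative A] (hA : A ≤ H) :
    IsCyclic A := by
  by_contra hnc
  have hAO : A ≤ normalizer (O : Set G) := by rw [normalizer_eq_top]; exact le_top
  have h1 : O ⊓ normalizer (H : Set G) = O :=
    Coprime.eq_of_forall_centralizer_le hnc hAO (hO.coprime_dvd_right (card_dvd_of_le hA)).symm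
      inf_le_left fun a ha ha1 c hc =>
        mem_inf.2 ⟨(mem_inf.1 hc).1, mem_normalizer_of_commute hTI (hA ha) ha1
          (mem_centralizer_singleton_iff.1 (mem_inf.1 hc).2)⟩
  exact hnn (normalizer_eq_top_iff.1 (top_unique (htop.ge.trans
    (sup_le (h1.ge.trans inf_le_right) le_rfl))))

/-- The Sylow subgroups of `H` are cyclic or generalized quaternion. -/
theorem sylow_cyclic_or_quaternion (hTI : Cfsg.IsTISubset (H : Set G)) (hnn : ¬ H.Normal)
    (hO : (Nat.card O).Coprime (Nat.card H))
    (htop : O ⊔ normalizer (H : Set G) = ⊤) {p : ℕ} [Fact p.Prime] (P : Sylow p H) :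
    IsCyclic (P : Subgroup H) ∨ (p = 2 ∧ ∃ n : ℕ, 1 ≤ n ∧ Nat.card (P : Subgroup H) = 2 ^ (n + 2) ∧
      Nonempty ((P : Subgroup H) ≃* QuaternionGroup (2 ^ n))) := by
  refine PGroup.cyclic_or_quaternion_of_unique P.2 ?_
  intro U V hU hV
  by_contra hne
  have hp := (Fact.out : p.Prime)
  have : Nontrivial (P : Subgroup H) := by
    by_contra hn
    rw [not_nontrivial_iff_subsingleton] at hn
    exact hne (Subsingleton.elim _ _)
  obtain ⟨z, -, hz, hzo⟩ := PGroup.exists_orderOf_eq_mem_center P.2
    (⊤ : Subgroup (P : Subgroup H)) top_ne_bot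
  -- one of `U`, `V` does not contain `z`
  obtain ⟨W, hW, hzW⟩ : ∃ W : Subgroup (P : Subgroup H), Nat.card W = p ∧ z ∉ W := by
    by_contra hno
    push Not at hno
    have key : ∀ W : Subgroup (P : Subgroup H), Nat.card W = p → zpowers z = W := fun W hW =>
      Subgroup.eq_of_le_of_card_ge (zpowers_le.2 (hno W hW)) (by rw [hW, Nat.card_zpowers, hzo])
    exact hne ((key U hU).symm.trans (key V hV))
  set A := zpowers z ⊔ W with hA
  have hWc : IsCyclic W := isCyclic_of_prime_card hW
  have hAcomm : IsMulCommutative A := by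
    obtain ⟨w, rfl⟩ := (Subgroup.isCyclic_iff_exists_zpowers_eq_top W).1 hWc
    have : A = closure {z, w} := by
      rw [hA, zpowers_eq_closure, zpowers_eq_closure, ← Subgroup.closure_union, ← Set.insert_eq]
    rw [this]
    refine isMulCommutative_closure fun a ha b hb => ?_
    have hzw := mem_center_iff.1 hz w
    rcases ha with rfl | ha <;> rcases hb with rfl | hb
    · rfl
    · obtain rfl : b = w := hb
      exact hzw.symm
    · obtain rfl : a = w := ha
      exact hzw
    · obtain rfl : a = w := ha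
      obtain rfl : b = a := hb
      rfl
  set A' := (A.map (P : Subgroup H).subtype).map H.subtype with hA'
  have hA'c : IsMulCommutative A' :=
    Subgroup.map_isMulCommutative _ _
  have hcyc := isCyclic_of_comm hTI hnn hO htop (A := A') (map_subtype_le _)
  have hAc : IsCyclic A :=
    ((A.equivMapOfInjective _ (subtype_injective _)).trans
      ((A.map (P : Subgroup H).subtype).equivMapOfInjective _ (subtype_injective _))).isCyclic.2 hcyc
  obtain ⟨g, hg⟩ := hAc.exists_generator
  -- a cyclic group has only one subgroup of order `p`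
  have hzA : z ∈ A := mem_sup_left (mem_zpowers z)
  have hWA : W ≤ A := le_sup_right
  let := Fintype.ofFinite A
  classical
  have hsub : (Finset.univ.filter fun x : A => (x : (P : Subgroup H)) ∈ W) ⊆
      Finset.univ.filter fun x : A => x ^ p = 1 := fun x hx => by
    simp only [Finset.mem_filter, Finset.mem_univ, true_and] at hx ⊢
    have hd := Subgroup.orderOf_dvd_natCard _ hx
    rw [hW] at hd
    exact Subtype.ext (by
      rw [SubmonoidClass.coe_pow]
      exact orderOf_dvd_iff_pow_eq_one.1 hd)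
  have hcard : (Finset.univ.filter fun x : A => (x : (P : Subgroup H)) ∈ W).card = p := by
    refine Eq.trans ?_ hW
    rw [← Fintype.card_subtype, ← Nat.card_eq_fintype_card]
    exact Nat.card_congr ⟨fun x => ⟨x.1, x.2⟩, fun x => ⟨⟨x.1, hWA x.2⟩, x.2⟩,
      fun _ => rfl, fun _ => rfl⟩
  have heq := Finset.eq_of_subset_of_card_le hsub
    ((IsCyclic.card_pow_eq_one_le hp.pos).trans hcard.ge)
  have hzp : (⟨z, hzA⟩ : A) ∈ Finset.univ.filter fun x : A => x ^ p = 1 := by
    simp only [Finset.mem_filter, Finset.mem_univ, true_and]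
    have hz1 : z ^ p = 1 := orderOf_dvd_iff_pow_eq_one.1 (dvd_of_eq hzo)
    exact Subtype.ext (by rw [SubmonoidClass.coe_pow]; exact hz1)
  rw [← heq] at hzp
  exact hzW (Finset.mem_filter.1 hzp).2

end Cfsg.Agent.TIHall
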